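import Groth.Prelude.Def_AlgGrp
import Groth.Prelude.Def_AlgSt5
import Groth.Agent.GrpSchLib.Action
import Groth.Agent.S2155
import Mathlib.AlgebraicGeometry.Limits
import Mathlib.AlgebraicGeometry.Morphisms.Smooth

/-!
# Restricting actions to the smooth locus; disjoint unions of actions
-/

set_option autoImplicit false
set_option backward.isDefEq.respectTransparency false
set_option backward.isDefEq.respectTransparency.types false

universe u

open CategoryTheory CategoryTheory.Limits MonoidalCategory CartesianMonoidalCategory MonObj AlgebraicGeometry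

namespace Groth.Agent.AlgStkX

variable {S : Scheme.{u}} {G : Over S} [GrpObj G]

/-- The smooth locus of a space with an action of a flat group is invariant. -/
theorem act_preimage_smoothLocus [Flat G.hom] [LocallyOfFinitePresentation G.hom] {N : Over S}
    [LocallyOfFinitePresentation N.hom] (a : AlgGrp.Action G N) :
    a.act.left ⁻¹ᵁ N.hom.smoothLocus = (snd G N).left ⁻¹ᵁ N.hom.smoothLocus := by
  have sq : IsPullback (fst G N).left (snd G N).left G.hom N.hom := IsPullback.of_hasPullback G.hom N.hom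
  have : LocallyOfFinitePresentation (fst G N).left := MorphismProperty.of_isPullback sq.flip ‹_›
  have h := Groth.Agent.S2155.result N.hom G.hom (fst G N).left (snd G N).left sq.flip (Or.inr inferInstance)
  let σ := (GrpSchLib.actShear a).hom
  have hσ : σ.left ≫ (fst G N).left = (fst G N).left := by
    rw [← Over.comp_left]
    exact congrArg CommaMorphism.left (lift_fst _ _)
  have h1 : σ.left ⁻¹ᵁ (fst G N).left.smoothLocus = (fst G N).left.smoothLocus := by
    rw [Scheme.Hom.preimage_smoothLocus_eq]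
    congr 1
  have h2 : a.act.left = σ.left ≫ (snd G N).left := by
    rw [← Over.comp_left]
    exact congrArg CommaMorphism.left (GrpSchLib.actShear_hom_snd a).symm
  rw [h2, Scheme.Hom.comp_preimage, ← h, h1]

section Open

variable {M N : Over S} (e : M ⟶ N) [IsOpenImmersion e.left] (a : AlgGrp.Action G N)

/-- An invariant open subscheme inherits the action. -/
theorem exists_act_restrict (hinv : (snd G N).left ⁻¹ᵁ e.left.opensRange ≤ a.act.left ⁻¹ᵁ e.left.opensRange) :
    ∃ b : AlgGrp.Action G M, b.act ≫ e = (G ◁ e) ≫ a.act := by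
  have : Mono e := (Over.forget S).mono_of_mono_map (inferInstanceAs (Mono e.left))
  have hr : Set.range ((G ◁ e) ≫ a.act).left ⊆ Set.range e.left := by
    rintro _ ⟨x, rfl⟩
    refine hinv (show (G ◁ e).left x ∈ (snd G N).left ⁻¹ᵁ e.left.opensRange from ⟨(snd G M).left x, ?_⟩)
    rw [← Scheme.Hom.comp_apply, ← Scheme.Hom.comp_apply, ← Over.comp_left, ← Over.comp_left, whiskerLeft_snd]
  let b : G ⊗ M ⟶ M := Over.homMk (IsOpenImmersion.lift e.left ((G ◁ e) ≫ a.act).left hr) (by
    rw [← Over.w e, IsOpenImmersion.lift_fac_assoc]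
    exact Over.w _)
  have hb : b ≫ e = (G ◁ e) ≫ a.act := Over.OverMorphism.ext (IsOpenImmersion.lift_fac _ _ _)
  refine ⟨⟨b, ?_, ?_⟩, hb⟩
  · rw [← cancel_mono e, Category.assoc, hb, ← MonoidalCategory.whisker_exchange_assoc, a.one_act]
    simp
  · rw [← cancel_mono e, Category.assoc, hb, ← MonoidalCategory.whisker_exchange_assoc, a.mul_act]
    simp only [Category.assoc, hb, MonoidalCategory.whiskerLeft_comp]
    rw [← MonoidalCategory.whiskerLeft_comp_assoc, hb, MonoidalCategory.whiskerLeft_comp, Category.assoc]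
    simp [MonoidalCategory.associator_naturality_right_assoc]

end Open

section Sigma

variable {σ : Type u} {Mi : σ → Over S}

/-- The disjoint union of schemes over `S`. -/
noncomputable def sigmaOverS (Mi : σ → Over S) : Over S := Over.mk (Sigma.desc fun i => (Mi i).hom)

/-- The inclusions. -/
noncomputable def sigmaOverι (Mi : σ → Over S) (i : σ) : Mi i ⟶ sigmaOverS Mi :=
  Over.homMk (Sigma.ι (fun i => (Mi i).left) i) (Sigma.ι_desc _ _)

instance (i : σ) : IsOpenImmersion (sigmaOverι Mi i).left :=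
  inferInstanceAs (IsOpenImmersion (Sigma.ι (fun i => (Mi i).left) i))

/-- Products distribute over disjoint unions. -/
theorem nonempty_isColimit_tensor (Z : Over S) :
    Nonempty (IsColimit (Cofan.mk (Z ⊗ sigmaOverS Mi).left fun i => (Z ◁ sigmaOverι Mi i).left)) := by
  have sq : ∀ i, IsPullback (Z ◁ sigmaOverι Mi i).left (snd Z (Mi i)).left (snd Z (sigmaOverS Mi)).left
      (sigmaOverι Mi i).left := fun i => (AlgSt.isPullback_whiskerLeft _).map (Over.forget S)
  have : ∀ i, IsOpenImmersion (Z ◁ sigmaOverι Mi i).left := fun i =>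
    MorphismProperty.of_isPullback (P := @IsOpenImmersion) (sq i).flip inferInstance
  have hr : ∀ i, (Z ◁ sigmaOverι Mi i).left.opensRange =
      (snd Z (sigmaOverS Mi)).left ⁻¹ᵁ (sigmaOverι Mi i).left.opensRange := fun i => TopologicalSpace.Opens.ext (by
    ext x
    constructor
    · rintro ⟨y, rfl⟩
      exact ⟨(snd Z (Mi i)).left y, by rw [← Scheme.Hom.comp_apply, ← (sq i).w, Scheme.Hom.comp_apply]⟩
    · rintro ⟨y, hy⟩
      obtain ⟨z, hz, -⟩ := Scheme.exists_preimage_of_isPullback (sq i) x y hy.symm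
      exact ⟨z, hz⟩)
  refine nonempty_isColimit_cofanMk_of _ (top_le_iff.1 fun x _ => ?_) fun i j hij => ?_
  · rw [TopologicalSpace.Opens.mem_iSup]
    obtain ⟨⟨i, y⟩, hy⟩ := (sigmaMk fun i => (Mi i).left).surjective ((snd Z (sigmaOverS Mi)).left x)
    rw [sigmaMk_mk] at hy
    exact ⟨i, by rw [hr]; exact ⟨y, hy⟩⟩
  · show Disjoint (Z ◁ sigmaOverι Mi i).left.opensRange (Z ◁ sigmaOverι Mi j).left.opensRange
    have hd := disjoint_opensRange_sigmaι (fun i => (Mi i).left) i j hij
    rw [hr, hr, disjoint_iff]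
    rw [disjoint_iff] at hd
    exact (congrArg (fun U => (snd Z (sigmaOverS Mi)).left ⁻¹ᵁ U) hd).trans rfl

theorem tensor_sigma_hom_ext (Z : Over S) {T : Over S} {f g : Z ⊗ sigmaOverS Mi ⟶ T}
    (h : ∀ i, (Z ◁ sigmaOverι Mi i) ≫ f = (Z ◁ sigmaOverι Mi i) ≫ g) : f = g :=
  Over.OverMorphism.ext ((nonempty_isColimit_tensor Z).some.hom_ext fun ⟨i⟩ =>
    congrArg CommaMorphism.left (h i))

/-- A disjoint union of spaces with actions has an action. -/
theorem exists_act_sigma (a : ∀ i, AlgGrp.Action G (Mi i)) :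
    ∃ b : AlgGrp.Action G (sigmaOverS Mi), ∀ i, (G ◁ sigmaOverι Mi i) ≫ b.act = (a i).act ≫ sigmaOverι Mi i := by
  let hc := (nonempty_isColimit_tensor (Mi := Mi) G).some
  let m : (G ⊗ sigmaOverS Mi).left ⟶ (sigmaOverS Mi).left :=
    Cofan.IsColimit.desc hc fun i => ((a i).act ≫ sigmaOverι Mi i).left
  have hm : ∀ i, (G ◁ sigmaOverι Mi i).left ≫ m = ((a i).act ≫ sigmaOverι Mi i).left := fun i =>
    Cofan.IsColimit.fac hc _ i
  let b : G ⊗ sigmaOverS Mi ⟶ sigmaOverS Mi := Over.homMk m (hc.hom_ext fun ⟨i⟩ => by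
    show (G ◁ sigmaOverι Mi i).left ≫ m ≫ (sigmaOverS Mi).hom = (G ◁ sigmaOverι Mi i).left ≫ (G ⊗ sigmaOverS Mi).hom
    rw [← Category.assoc, hm i, Over.w, Over.w])
  have hb : ∀ i, (G ◁ sigmaOverι Mi i) ≫ b = (a i).act ≫ sigmaOverι Mi i := fun i => Over.OverMorphism.ext (hm i)
  refine ⟨⟨b, ?_, ?_⟩, hb⟩
  · refine tensor_sigma_hom_ext _ fun i => ?_
    rw [MonoidalCategory.whisker_exchange_assoc, hb, reassoc_of% (a i).one_act]
    simp
  · refine tensor_sigma_hom_ext _ fun i => ?_
    rw [MonoidalCategory.whisker_exchange_assoc, hb, reassoc_of% (a i).mul_act,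
      MonoidalCategory.associator_naturality_right_assoc, ← MonoidalCategory.whiskerLeft_comp_assoc, hb,
      MonoidalCategory.whiskerLeft_comp, Category.assoc, hb]

theorem smooth_sigmaOverS (h : ∀ i, Smooth (Mi i).hom) : Smooth (sigmaOverS Mi).hom :=
  (IsZariskiLocalAtSource.iff_of_openCover (P := @Smooth) (sigmaOpenCover fun i => (Mi i).left)).2 fun i => by
    show Smooth (Sigma.ι (fun i => (Mi i).left) i ≫ Sigma.desc fun i => (Mi i).hom)
    rw [Sigma.ι_desc]
    exact h i

theorem surjective_sigmaOverS (h : ∀ s : S, ∃ (i : σ) (x : (Mi i).left), (Mi i).hom x = s) :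
    Surjective (sigmaOverS Mi).hom := ⟨fun s => by
  obtain ⟨i, x, hx⟩ := h s
  exact ⟨(sigmaOverι Mi i).left x, by rw [← Scheme.Hom.comp_apply, Over.w]; exact hx⟩⟩

/-- The disjoint union of free actions is free. -/
theorem free_sigma {a : ∀ i, AlgGrp.Action G (Mi i)} (hfree : ∀ i ⦃T : Over S⦄ (g : T ⟶ G) (x : T ⟶ Mi i),
      lift g x ≫ (a i).act = x → g = 1)
    (b : AlgGrp.Action G (sigmaOverS Mi)) (hb : ∀ i, (G ◁ sigmaOverι Mi i) ≫ b.act = (a i).act ≫ sigmaOverι Mi i)
    ⦃T : Over S⦄ (g : T ⟶ G) (x : T ⟶ sigmaOverS Mi) (h : lift g x ≫ b.act = x) : g = 1 := by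
  let 𝒰 : T.left.OpenCover := (sigmaOpenCover fun i => (Mi i).left).pullback₁ x.left
  refine Over.OverMorphism.ext (𝒰.hom_ext _ _ fun i => ?_)
  let Z : Over S := Over.mk (𝒰.f i ≫ T.hom)
  let z : Z ⟶ T := Over.homMk (𝒰.f i)
  let xi : Z ⟶ Mi i := Over.homMk (pullback.snd x.left (Sigma.ι (fun i => (Mi i).left) i)) (by
    show pullback.snd _ _ ≫ (Mi i).hom = 𝒰.f i ≫ T.hom
    rw [← Over.w (sigmaOverι Mi i), ← Category.assoc]
    refine (congrArg (· ≫ (sigmaOverS Mi).hom) pullback.condition.symm).trans ?_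
    rw [Category.assoc, Over.w x]
    rfl)
  have hxi : xi ≫ sigmaOverι Mi i = z ≫ x := Over.OverMorphism.ext pullback.condition.symm
  have : Mono (sigmaOverι Mi i) := (Over.forget S).mono_of_mono_map (inferInstanceAs (Mono (sigmaOverι Mi i).left))
  have e : lift (z ≫ g) xi ≫ (a i).act = xi := by
    rw [← cancel_mono (sigmaOverι Mi i), Category.assoc, ← hb, lift_whiskerLeft_assoc, hxi, ← comp_lift,
      Category.assoc, h]
  have e2 : z ≫ g = z ≫ 1 := by rw [hfree i _ _ e, MonObj.comp_one]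
  exact congrArg CommaMorphism.left e2

end Sigma

end Groth.Agent.AlgStkX
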