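import Groth.Agent.AlgStkX.Artin
import Groth.Agent.AlgStLib.DiagCover
import Groth.Agent.AlgStLib.DiagLFT
import Groth.Agent.AlgStLib.Charts
import Groth.Agent.AlgStLib.Small
import Groth.Agent.QuotLib.AtlasProps
import Groth.Agent.FibBase.Repr

/-!
# The diagonal of `[X/G]` is affine when `G` and the diagonal of `X` are
-/

set_option autoImplicit false
set_option backward.isDefEq.respectTransparency false
set_option backward.isDefEq.respectTransparency.types false

universe u

open CategoryTheory CategoryTheory.Functor CategoryTheory.Limits MonoidalCategory CartesianMonoidalCategory MonObj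
  AlgebraicGeometry AlgSp

namespace Groth.Agent.AlgStkX

open Groth.Agent.FibBase Groth.Agent.QuotLib Groth.Agent.AlgStLib Groth.Agent.AlgSpLib

variable {S : Scheme.{u}} {G : Over S} [GrpObj G] {X : Over S}

local notation "K₀" => Scheme.fppfPrecoverage

/-- The slice of a product as the product of slices over the site. -/
noncomputable def prodToFp (A B : Over S) :
    FibCat.overCat (A ⊗ B) ⥤ᵇ FibCat.fp (FibCat.toSelf (FibCat.overCat A)) (FibCat.toSelf (FibCat.overCat B)) :=
  FibCat.fpLift (AlgSt.overMap (fst A B)) (AlgSt.overMap (snd A B)) (selfIso _ _)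

theorem prodToFp_isEquivOver (A B : Over S) : FibCat.IsEquivOver (prodToFp A B) := by
  refine isEquivOver_of_exists_iso _ ⟨fun {x y} t => ?_⟩ ⟨fun {x y} t t' h => ?_⟩ fun o => ?_
  · have w : t.hom.fst.left ≫ ((prodToFp A B).obj y).obj.iso.hom =
        ((prodToFp A B).obj x).obj.iso.hom ≫ t.hom.snd.left := t.hom.w
    have hy : ((prodToFp A B).obj y).obj.iso.hom = 𝟙 y.left := map_eq_of_isHomLift_id
      (p := (FibCat.selfOver (Over S)).p) ((prodToFp A B).obj y).property
    have hx : ((prodToFp A B).obj x).obj.iso.hom = 𝟙 x.left := map_eq_of_isHomLift_id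
      (p := (FibCat.selfOver (Over S)).p) ((prodToFp A B).obj x).property
    have e : t.hom.fst.left = t.hom.snd.left :=
      ((Category.comp_id _).symm.trans (congrArg (t.hom.fst.left ≫ ·) hy.symm)).trans
        (w.trans ((congrArg (· ≫ t.hom.snd.left) hx).trans (Category.id_comp _)))
    have w₁ : t.hom.fst.left ≫ y.hom ≫ fst A B = x.hom ≫ fst A B := Over.w t.hom.fst
    have w₂ : t.hom.snd.left ≫ y.hom ≫ snd A B = x.hom ≫ snd A B := Over.w t.hom.snd
    refine ⟨Over.homMk (V := y) t.hom.fst.left (CartesianMonoidalCategory.hom_ext _ _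
      ((Category.assoc _ _ _).trans w₁) ((Category.assoc _ _ _).trans (e ▸ w₂))), ?_⟩
    exact ObjectProperty.hom_ext _ (CategoricalPullback.hom_ext (Over.OverMorphism.ext rfl)
      (Over.OverMorphism.ext e))
  · exact Over.OverMorphism.ext (congrArg (fun s => s.hom.fst.left) h)
  · have hS : o.obj.snd.left = o.obj.fst.left := snd_proj o
    let a : Over (A ⊗ B) := Over.mk (lift o.obj.fst.hom (eqToHom hS.symm ≫ o.obj.snd.hom))
    let i₁ : ((prodToFp A B).obj a).obj.fst ≅ o.obj.fst := Over.isoMk (Iso.refl _) (by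
      show 𝟙 _ ≫ o.obj.fst.hom = a.hom ≫ fst A B
      simp [a])
    let i₂ : ((prodToFp A B).obj a).obj.snd ≅ o.obj.snd := Over.isoMk (eqToIso hS.symm) (by
      show eqToHom hS.symm ≫ o.obj.snd.hom = a.hom ≫ snd A B
      simp [a])
    have hi₁ : (FibCat.overCat A).p.IsHomLift (𝟙 o.obj.fst.left) i₁.hom := by
      exact isHomLift_id_of_map_eq (p := (FibCat.overCat A).p) (a := ((prodToFp A B).obj a).obj.fst)
        (b := o.obj.fst) (φ := i₁.hom) (S := o.obj.fst.left) rfl rfl rfl
    refine ⟨a, fpIsoMk (F := FibCat.toSelf (FibCat.overCat A)) (G := FibCat.toSelf (FibCat.overCat B))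
      i₁ i₂ ?w, fpIsoMk_lift (F := FibCat.toSelf (FibCat.overCat A)) (G := FibCat.toSelf (FibCat.overCat B))
      i₁ i₂ ?w (h := hi₁)⟩
    show (𝟙 o.obj.fst.left) ≫ o.obj.iso.hom = ((prodToFp A B).obj a).obj.iso.hom ≫ eqToHom hS.symm
    have h1 : ((prodToFp A B).obj a).obj.iso.hom = 𝟙 o.obj.fst.left := map_eq_of_isHomLift_id
      (p := (FibCat.selfOver (Over S)).p) ((prodToFp A B).obj a).property
    rw [h1]
    have h2 := map_eq_of_isHomLift_id (p := (FibCat.selfOver (Over S)).p) o.property
    exact congrArg (𝟙 _ ≫ ·) h2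

/-- Any square in the base category lying over an identity commutes. -/
theorem self_square {C : Type*} [Category C] {𝒳 : BasedCategory C} {𝒴 : BasedCategory C}
    (F : 𝒳 ⥤ᵇ FibCat.selfOver C) (F' : 𝒴 ⥤ᵇ FibCat.selfOver C) {x y : 𝒳.obj} {x' y' : 𝒴.obj}
    {a : x ⟶ y} {b : x' ⟶ y'} {T : C} (ha : 𝒳.p.IsHomLift (𝟙 T) a) (hb : 𝒴.p.IsHomLift (𝟙 T) b)
    {i : F.obj y ⟶ F'.obj y'} {j : F.obj x ⟶ F'.obj x'} {T₁ T₂ : C}
    (hi : (FibCat.selfOver C).p.IsHomLift (𝟙 T₁) i) (hj : (FibCat.selfOver C).p.IsHomLift (𝟙 T₂) j) :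
    F.map a ≫ i = j ≫ F'.map b := by
  have h₁ := self_hom_eq hi
  have h₂ := self_hom_eq hj
  have h₃ := self_hom_eq (F.preserves_isHomLift (𝟙 T) a)
  have h₄ := self_hom_eq (F'.preserves_isHomLift (𝟙 T) b)
  rw [h₁, h₂, h₃, h₄]
  exact (eqToHom_trans _ _).trans (eqToHom_trans _ _).symm

variable [Flat G.hom] [LocallyOfFinitePresentation G.hom] [IsAffineHom G.hom]

set_option maxHeartbeats 1000000 in

/-- `[X/G]` has affine diagonal when `X` has. -/
theorem repByAlgSpWith_isAffineMor_diag (aX : AlgGrp.Action G X) (hX : IsAffineHom (pullback.diagonal X.hom)) :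
    AlgSt.RepByAlgSpWith IsAffineMor (FibCat.diag (FibCat.toSelf (AlgSt.QuotSt K₀ G aX))) := by
  let p := quotOver K₀ G aX
  let t := FibCat.toSelf (AlgSt.QuotSt K₀ G aX)
  obtain ⟨h1, h2, h3⟩ := quot_flat_lfp_surjective (G := G) (aX := aX)
  have hes : LocEssSurj p := locEssSurj_of_repByAlgSp h1 h2 h3
  let P := (torsor p).P
  let m : P ⟶ X ⊗ X := lift (torsorπ p) (torsor p).φ
  have hm : IsAffineHom m.left := by
    have hπ : IsAffineHom (torsorπ p).left := by
      have hs : IsAffineHom (snd G X).left := flat_snd (R := @IsAffineHom) ‹IsAffineHom G.hom› X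
      show IsAffineHom ((torsor p).π ≫ eqToHom _).left
      rw [Over.comp_left]
      exact MorphismProperty.comp_mem @IsAffineHom _ _ hs inferInstance
    have hg : (MorphismProperty.diagonal @IsAffineHom) (fst X X).left :=
      MorphismProperty.pullback_fst (P := MorphismProperty.diagonal @IsAffineHom) X.hom X.hom hX
    have h := MorphismProperty.hasOfPostcompProperty_iff_le_diagonal (P := @IsAffineHom)
      (Q := MorphismProperty.diagonal @IsAffineHom)
    refine (h.2 le_rfl).of_postcomp m.left (fst X X).left hg ?_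
    rw [← Over.comp_left, lift_fst]
    exact hπ
  have hmA : IsAffineMor ((yon S).map m) :=
    AlgSpDec.isAffineMor_of_repWith le_rfl ((repWith_yon_map_iff (P := @IsAffineHom) _).2 hm)
  have hw : AlgSt.RepByAlgSpWith IsAffineMor (weaken p p t) := by
    let Φ : FibCat.overCat (X ⊗ X) ⥤ᵇ FibCat.fp (BasedFunctor.comp p t) (BasedFunctor.comp p t) :=
      BasedFunctor.comp (prodToFp X X) (fpMap (F := BasedFunctor.comp p t) (G := BasedFunctor.comp p t)
        (F' := FibCat.toSelf (FibCat.overCat X)) (G' := FibCat.toSelf (FibCat.overCat X))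
        (a := BasedFunctor.id _) (b := BasedFunctor.id _) (c := BasedFunctor.id _) (selfIso _ _) (selfIso _ _))
    have : (BasedFunctor.id (FibCat.selfOver (Over S) : AlgSt.Cat S)).toFunctor.Full := inferInstanceAs (𝟭 _).Full
    have : (BasedFunctor.id (FibCat.selfOver (Over S) : AlgSt.Cat S)).toFunctor.Faithful :=
      inferInstanceAs (𝟭 _).Faithful
    have hΦ : FibCat.IsEquivOver Φ :=
      isEquivOver_comp (prodToFp_isEquivOver X X) (fpMap_isEquivOver _ _ isEquivOver_id isEquivOver_id)
    refine (repByAlgSpWith_iff_of_square (f := weaken p p t) (f' := AlgSt.overMap m) (a := toFp p) (b := Φ)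
      (toFp_isEquivOver p) hΦ ?_).2 (repByAlgSpWith_overMap stableBC_isAffineMor hmA)
    refine BasedNatIso.mkNatIso (NatIso.ofComponents (fun c => fpIsoMk
      (Over.isoMk (Iso.refl _) ?_) (Over.isoMk (Iso.refl _) ?_) ?_) ?_) ?_
    · show 𝟙 c.left ≫ (c.hom ≫ torsorπ p) = (c.hom ≫ m) ≫ fst X X
      simp [m]
    · show 𝟙 c.left ≫ (c.hom ≫ (torsor p).φ) = (c.hom ≫ m) ≫ snd X X
      simp [m]
    · refine self_square (T := c.left) (T₁ := c.left) (T₂ := c.left) (BasedFunctor.comp p t) (BasedFunctor.comp p t) ?_ ?_ ?_ ?_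
      · exact isHomLift_id_of_map_eq (p := (FibCat.overCat X).p)
          (a := ((BasedFunctor.comp (AlgSt.overMap m) Φ).obj c).obj.fst)
          (b := ((BasedFunctor.comp (toFp p) (weaken p p t)).obj c).obj.fst) (S := c.left) rfl rfl rfl
      · exact isHomLift_id_of_map_eq (p := (FibCat.overCat X).p)
          (a := ((BasedFunctor.comp (AlgSt.overMap m) Φ).obj c).obj.snd)
          (b := ((BasedFunctor.comp (toFp p) (weaken p p t)).obj c).obj.snd) (S := c.left) rfl rfl rfl
      · exact ((BasedFunctor.comp (toFp p) (weaken p p t)).obj c).property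
      · exact ((BasedFunctor.comp (AlgSt.overMap m) Φ).obj c).property
    · intro a b k
      exact ObjectProperty.hom_ext _ (CategoricalPullback.hom_ext (Over.OverMorphism.ext (by simp; rfl))
        (Over.OverMorphism.ext (by simp; rfl)))
    · intro c
      exact fp_isHomLift (F := BasedFunctor.comp p t) (G := BasedFunctor.comp p t) _ _
        (h := isHomLift_id_of_map_eq (p := (FibCat.overCat X).p)
          (a := ((BasedFunctor.comp (AlgSt.overMap m) Φ).obj c).obj.fst)
          (b := ((BasedFunctor.comp (toFp p) (weaken p p t)).obj c).obj.fst) (S := (FibCat.overCat P).p.obj c) rfl rfl rfl)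
  exact repByAlgSpWith_of_locEssSurj stableBC_isAffineMor
    (isLocalOnBase_fppf_of_fpqc isLocalOnBase_fpqc_isAffineMor) (isAlgStack_quotSt aX).diag
    (locEssSurj_pairMap t hes hes)
    ((repByAlgSpWith_iff_of_square (f' := weaken p p t) (f := FibCat.fpFst (pairMap p p t) (FibCat.diag t))
      (a := diagComparison p p t) (b := BasedFunctor.id _) (diagComparison_isEquivOver p p t) isEquivOver_id
      (Iso.refl _)).2 hw)

end Groth.Agent.AlgStkX
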