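import Groth.Agent.AlgStkX.QuotComp
import Groth.Agent.AlgStLib.SpTorsor
import Groth.Agent.AlgStLib.SpQuotStack
import Groth.Agent.AlgSpLib.AffineDescProps
import Groth.Agent.AlgSpLib.Covers
import Groth.Agent.FibBase.Basic
import Groth.Agent.StkLib.Basic

/-!
# fppf torsors under an affine group scheme are schemes; `[X/G]` is a stack
-/

set_option backward.isDefEq.respectTransparency false
set_option backward.isDefEq.respectTransparency.types false

universe u

open CategoryTheory CategoryTheory.Limits MonoidalCategory CartesianMonoidalCategory MonObj AlgebraicGeometry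
open AlgSp
open scoped CategoryTheory.Obj

namespace Groth.Agent.AlgStkX

variable {S : Scheme.{u}} {G : Over S} [GrpObj G] {X : Over S} (aX : AlgGrp.Action G X)

local notation "K₀" => Scheme.fppfPrecoverage

variable [IsAffineHom G.hom]

/-- The projection of an fppf sheaf torsor under an affine group scheme is affine. -/
theorem isAffineMor_torsor (A : AlgSt.SpQuotObj K₀ ((toB S).obj G) (mapAct aX)) : IsAffineMor A.π.left := by
  obtain ⟨I, U, f, s, hs, hcov⟩ := AlgStLib.exists_sections_cover (A := A)
  have hG : IsAlgSpace ((toB S).obj G).left := IsAlgSpace.yon_obj G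
  have hB : IsAlgSpace (B₀ S) := IsAlgSpace.yon_obj _
  choose Q a p c h1 h2 using fun i => AlgStLib.exists_isPullback_of_section A (f i) (s i) (hs i)
  have hQ : ∀ i, IsAlgSpace (Q i) := fun i =>
    AlgSpLib.isAlgSpace_of_isPullback (h2 i) hG (IsAlgSpace.yon_obj _) hB
  refine (AlgSpLib.isLocalOnBase_fpqc_isAffineMor (fun i => (yon S).obj (U i)) (fun i => (yon S).map (f i))
    (IsAlgSpace.yon_obj A.base) (fun i => IsAlgSpace.yon_obj _)
    (AlgSpLib.isFpqcCover_of_isFppfCover (IsAlgSpace.yon_obj A.base) (fun i => IsAlgSpace.yon_obj _) _ hcov)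
    A.π.left (AlgStLib.isAlgSpace_torsor hB hG A) Q p a hQ h1).2 fun i => ?_
  refine AlgSpLib.isAffineMor_of_isPullback (h2 i) (AlgSpDec.isAffineMor_of_repWith le_rfl ?_)
  refine (repWith_yon_map_iff (P := @IsAffineHom) _).2 ?_
  have e : (Over.mkIdTerminal.from G).left = G.hom := by simpa using Over.w (Over.mkIdTerminal.from G)
  show IsAffineHom (Over.mkIdTerminal.from G).left
  rw [e]
  infer_instance

/-- The total sheaf of an fppf torsor under an affine group scheme is a scheme. -/
theorem exists_rep_torsor (A : AlgSt.SpQuotObj K₀ ((toB S).obj G) (mapAct aX)) :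
    ∃ Q : Over S, Nonempty ((yon S).obj Q ≅ A.P.left) := by
  have hr := AlgSpDec.repWith_isAffineHom_of_isAffineMor (isAffineMor_torsor aX A)
  have h := hr.1.isPullback (𝟙 ((yon S).obj A.base))
  have : IsIso (hr.1.fst (𝟙 ((yon S).obj A.base))) := h.isIso_fst_of_isIso
  exact ⟨_, ⟨asIso (hr.1.fst (𝟙 ((yon S).obj A.base)))⟩⟩

/-- For an affine group scheme scheme torsors and sheaf torsors give the same quotient stack. -/
theorem cmp_isEquivOver : FibCat.IsEquivOver (cmp aX K₀) :=
  FibBase.isEquivOver_of_exists_iso _ inferInstance inferInstance fun A => by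
    obtain ⟨A₀, e, he⟩ := exists_cmpObj_iso aX K₀ A (exists_rep_torsor aX A)
    exact ⟨A₀, e, he⟩

/-- `[X/G]` is a stack for affine `G`. -/
theorem isStack_quotSt : Stk.IsStack (AlgSp.J S) (AlgSt.QuotSt K₀ G aX) :=
  (StkLib.isStack_iff_of_isEquivOver (AlgSp.J S) (cmp_isEquivOver aX)).2 AlgStLib.SpQuot.isStack

end Groth.Agent.AlgStkX
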