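import Mathlib

/-!
# Structure constants of commutative algebras which are free of rank `d`

The ring `Univ A d` of structure constants over `A` and the universal algebra `UnivAlg A d` over it.
-/

set_option autoImplicit false

universe u

open TensorProduct

namespace Groth.Agent.AlgStkX

section AlgOn

variable {R : Type u} [CommRing R] {d : ℕ}

/-- Structure constants of a commutative algebra structure on `R^d`. -/
structure StrConst (R : Type u) [CommRing R] (d : ℕ) where
  c : Fin d → Fin d → Fin d → R
  e : Fin d → R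
  comm : ∀ i j l, c i j l = c j i l
  assoc : ∀ i j k l, (∑ m, c i j m * c m k l) = ∑ m, c j k m * c i m l
  one_mul : ∀ i l, (∑ m, e m * c m i l) = if i = l then 1 else 0

/-- `R^d` with the multiplication given by structure constants. -/
def AlgOn (_σ : StrConst R d) : Type u := Fin d → R

namespace AlgOn

variable (σ : StrConst R d)

instance : AddCommGroup (AlgOn σ) := inferInstanceAs (AddCommGroup (Fin d → R))

instance : Module R (AlgOn σ) := inferInstanceAs (Module R (Fin d → R))

/-- The standard basis. -/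
noncomputable def basis : Module.Basis (Fin d) R (AlgOn σ) := Pi.basisFun R (Fin d)

/-- The multiplication as a bilinear map. -/
noncomputable def mulₗ : AlgOn σ →ₗ[R] AlgOn σ →ₗ[R] AlgOn σ :=
  (basis σ).constr R fun i => (basis σ).constr R fun j => ∑ l, σ.c i j l • basis σ l

theorem mulₗ_basis (i j : Fin d) : mulₗ σ (basis σ i) (basis σ j) = ∑ l, σ.c i j l • basis σ l := by
  simp [mulₗ]

/-- The unit. -/
noncomputable def oneV : AlgOn σ := ∑ l, σ.e l • basis σ l

theorem mulₗ_comm (x y : AlgOn σ) : mulₗ σ x y = mulₗ σ y x := by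
  have : mulₗ σ = (mulₗ σ).flip := (basis σ).ext fun i => (basis σ).ext fun j => by
    rw [LinearMap.flip_apply, mulₗ_basis, mulₗ_basis]
    exact Finset.sum_congr rfl fun l _ => by rw [σ.comm]
  exact LinearMap.congr_fun (LinearMap.congr_fun this x) y

theorem mulₗ_assoc (x y z : AlgOn σ) : mulₗ σ (mulₗ σ x y) z = mulₗ σ x (mulₗ σ y z) := by
  have : (LinearMap.llcomp R (AlgOn σ) (AlgOn σ) (AlgOn σ →ₗ[R] AlgOn σ) (mulₗ σ)).comp (mulₗ σ) =
      (LinearMap.llcomp R (AlgOn σ) _ _).flip (mulₗ σ) ∘ₗ (LinearMap.llcomp R (AlgOn σ) (AlgOn σ) (AlgOn σ)) ∘ₗ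
        (mulₗ σ) := by
    refine (basis σ).ext fun i => (basis σ).ext fun j => (basis σ).ext fun k => ?_
    simp only [LinearMap.comp_apply, LinearMap.llcomp_apply, LinearMap.flip_apply, mulₗ_basis, map_sum,
      map_smul, LinearMap.sum_apply, LinearMap.smul_apply, Finset.smul_sum, smul_smul]
    rw [Finset.sum_comm]
    conv_rhs => rw [Finset.sum_comm]
    refine Finset.sum_congr rfl fun l _ => ?_
    rw [← Finset.sum_smul, ← Finset.sum_smul, σ.assoc]
  exact LinearMap.congr_fun (LinearMap.congr_fun (LinearMap.congr_fun this x) y) z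

theorem oneV_mulₗ (x : AlgOn σ) : mulₗ σ (oneV σ) x = x := by
  have : mulₗ σ (oneV σ) = LinearMap.id := (basis σ).ext fun i => by
    simp only [oneV, map_sum, map_smul, LinearMap.sum_apply, LinearMap.smul_apply, mulₗ_basis, Finset.smul_sum,
      smul_smul, LinearMap.id_apply]
    rw [Finset.sum_comm, Finset.sum_eq_single i]
    · rw [← Finset.sum_smul, σ.one_mul, if_pos rfl, one_smul]
    · intro l _ hl
      rw [← Finset.sum_smul, σ.one_mul, if_neg (Ne.symm hl), zero_smul]
    · simp
  exact LinearMap.congr_fun this x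

noncomputable instance : Mul (AlgOn σ) := ⟨fun x y => mulₗ σ x y⟩

noncomputable instance : One (AlgOn σ) := ⟨oneV σ⟩

theorem mul_def (x y : AlgOn σ) : x * y = mulₗ σ x y := rfl

theorem one_def : (1 : AlgOn σ) = oneV σ := rfl

noncomputable instance commRing : CommRing (AlgOn σ) :=
  { (inferInstance : AddCommGroup (AlgOn σ)) with
    mul := (· * ·)
    one := 1
    left_distrib := fun x y z => by simp [mul_def]
    right_distrib := fun x y z => by simp [mul_def]
    zero_mul := fun x => by simp [mul_def]
    mul_zero := fun x => by simp [mul_def]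
    mul_assoc := mulₗ_assoc σ
    one_mul := oneV_mulₗ σ
    mul_one := fun x => (mulₗ_comm σ x (oneV σ)).trans (oneV_mulₗ σ x)
    mul_comm := mulₗ_comm σ }

noncomputable instance algebra : Algebra R (AlgOn σ) :=
  Algebra.ofModule (fun r x y => by simp [mul_def]) (fun r x y => by simp [mul_def])

instance : IsScalarTower R (AlgOn σ) (AlgOn σ) := ⟨fun r x y => by simp [mul_def, smul_eq_mul]⟩

theorem basis_mul_basis (i j : Fin d) : basis σ i * basis σ j = ∑ l, σ.c i j l • basis σ l :=
  mulₗ_basis σ i j

instance : Module.Free R (AlgOn σ) := .of_basis (basis σ)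

instance : Module.Finite R (AlgOn σ) := .of_basis (basis σ)

end AlgOn

end AlgOn

section Univ

variable (A : Type u) [CommRing A] (d : ℕ)

/-- The indeterminate structure constants. -/
abbrev ScVar (d : ℕ) : Type := (Fin d × Fin d × Fin d) ⊕ Fin d

/-- The generic `c`. -/
noncomputable def cX (i j l : Fin d) : MvPolynomial (ScVar d) A := MvPolynomial.X (Sum.inl (i, j, l))

/-- The generic `e`. -/
noncomputable def eX (l : Fin d) : MvPolynomial (ScVar d) A := MvPolynomial.X (Sum.inr l)

/-- The equations of structure constants. -/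
noncomputable def scRels : Finset (MvPolynomial (ScVar d) A) :=
  haveI := Classical.decEq (MvPolynomial (ScVar d) A)
  (Finset.univ.image fun p : Fin d × Fin d × Fin d => cX A d p.1 p.2.1 p.2.2 - cX A d p.2.1 p.1 p.2.2) ∪
  (Finset.univ.image fun p : Fin d × Fin d × Fin d × Fin d =>
    (∑ m, cX A d p.1 p.2.1 m * cX A d m p.2.2.1 p.2.2.2) - ∑ m, cX A d p.2.1 p.2.2.1 m * cX A d p.1 m p.2.2.2) ∪
  (Finset.univ.image fun p : Fin d × Fin d =>
    (∑ m, eX A d m * cX A d m p.1 p.2) - if p.1 = p.2 then 1 else 0)

/-- The ring of structure constants of rank `d` over `A`. -/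
def Univ : Type u := MvPolynomial (ScVar d) A ⧸ Ideal.span (scRels A d : Set (MvPolynomial (ScVar d) A))

noncomputable instance : CommRing (Univ A d) :=
  inferInstanceAs (CommRing (MvPolynomial (ScVar d) A ⧸ Ideal.span (scRels A d : Set (MvPolynomial (ScVar d) A))))

noncomputable instance : Algebra A (Univ A d) :=
  inferInstanceAs (Algebra A (MvPolynomial (ScVar d) A ⧸ Ideal.span (scRels A d : Set (MvPolynomial (ScVar d) A))))

/-- The quotient map to `Univ A d`. -/
noncomputable def Univ.mk : MvPolynomial (ScVar d) A →ₐ[A] Univ A d :=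
  Ideal.Quotient.mkₐ A (Ideal.span (scRels A d : Set (MvPolynomial (ScVar d) A)))

instance : Algebra.FinitePresentation A (Univ A d) :=
  Algebra.FinitePresentation.quotient (I := Ideal.span (scRels A d : Set (MvPolynomial (ScVar d) A)))
    ⟨scRels A d, rfl⟩

theorem Univ.algHom_ext {A' : Type u} [CommRing A'] [Algebra A A'] {f g : Univ A d →ₐ[A] A'}
    (h : f.comp (Univ.mk A d) = g.comp (Univ.mk A d)) : f = g :=
  Ideal.Quotient.algHom_ext A h

theorem Univ.mk_eq_mk {x y : MvPolynomial (ScVar d) A}
    (h : x - y ∈ Ideal.span (scRels A d : Set (MvPolynomial (ScVar d) A))) : Univ.mk A d x = Univ.mk A d y :=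
  Ideal.Quotient.eq.2 h

/-- The universal structure constants. -/
noncomputable def univConst : StrConst (Univ A d) d where
  c i j l := Univ.mk A d (cX A d i j l)
  e l := Univ.mk A d (eX A d l)
  comm i j l := by
    refine Univ.mk_eq_mk A d ?_
    refine Ideal.subset_span ?_
    simp only [scRels, Finset.coe_union, Finset.coe_image, Finset.coe_univ, Set.image_univ]
    exact Or.inl (Or.inl ⟨(i, j, l), rfl⟩)
  assoc i j k l := by
    simp only [← map_mul, ← map_sum]
    refine Univ.mk_eq_mk A d ?_
    refine Ideal.subset_span ?_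
    simp only [scRels, Finset.coe_union, Finset.coe_image, Finset.coe_univ, Set.image_univ]
    exact Or.inl (Or.inr ⟨(i, j, k, l), rfl⟩)
  one_mul i l := by
    simp only [← map_mul, ← map_sum]
    rw [show (if i = l then (1 : Univ A d) else 0) = Univ.mk A d (if i = l then 1 else 0) by split <;> simp]
    refine Univ.mk_eq_mk A d ?_
    refine Ideal.subset_span ?_
    simp only [scRels, Finset.coe_union, Finset.coe_image, Finset.coe_univ, Set.image_univ]
    exact Or.inr ⟨(i, l), rfl⟩

/-- The universal algebra of rank `d`. -/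
abbrev UnivAlg : Type u := AlgOn (univConst A d)

variable {A d}

/-- A based algebra is classified by a point of `Univ A d`. -/
theorem exists_classify {A' B : Type u} [CommRing A'] [Algebra A A'] [CommRing B] [Algebra A' B]
    (b : Module.Basis (Fin d) A' B) :
    ∃ φ : Univ A d →ₐ[A] A',
      (∀ i j l, φ ((univConst A d).c i j l) = b.repr (b i * b j) l) ∧
      (∀ l, φ ((univConst A d).e l) = b.repr 1 l) := by
  classical
  let v : ScVar d → A' := Sum.elim (fun p => b.repr (b p.1 * b p.2.1) p.2.2) (fun l => b.repr 1 l)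
  let ψ : MvPolynomial (ScVar d) A →ₐ[A] A' := MvPolynomial.aeval v
  have hc : ∀ i j l, ψ (cX A d i j l) = b.repr (b i * b j) l := fun i j l => by simp [ψ, cX, v]
  have he : ∀ l, ψ (eX A d l) = b.repr 1 l := fun l => by simp [ψ, eX, v]
  have h0 : Ideal.span (scRels A d : Set (MvPolynomial (ScVar d) A)) ≤ RingHom.ker ψ.toRingHom := by
    rw [Ideal.span_le]
    intro x hx
    simp only [scRels, Finset.coe_union, Finset.coe_image, Finset.coe_univ, Set.image_univ, Set.mem_union] at hx
    rcases hx with (⟨⟨i, j, l⟩, rfl⟩ | ⟨⟨i, j, k, l⟩, rfl⟩) | ⟨⟨i, l⟩, rfl⟩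
    · show ψ _ = 0
      rw [map_sub, hc, hc, mul_comm (b i), sub_self]
    · show ψ _ = 0
      rw [map_sub, map_sum, map_sum]
      simp only [map_mul, hc, sub_eq_zero]
      calc ∑ m, b.repr (b i * b j) m * b.repr (b m * b k) l
          = b.repr ((∑ m, b.repr (b i * b j) m • b m) * b k) l := by
            simp [-Module.Basis.sum_repr, Finset.sum_mul, smul_mul_assoc, Finsupp.finsetSum_apply]
        _ = b.repr (b i * (∑ m, b.repr (b j * b k) m • b m)) l := by
            rw [b.sum_repr, b.sum_repr, mul_assoc]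
        _ = ∑ m, b.repr (b j * b k) m * b.repr (b i * b m) l := by
            simp [-Module.Basis.sum_repr, Finset.mul_sum, Finsupp.finsetSum_apply]
    · show ψ _ = 0
      rw [map_sub, map_sum, apply_ite ψ, map_one, map_zero]
      simp only [map_mul, hc, he, sub_eq_zero]
      calc ∑ m, b.repr 1 m * b.repr (b m * b i) l = b.repr ((∑ m, b.repr 1 m • b m) * b i) l := by
            simp [-Module.Basis.sum_repr, Finset.sum_mul, smul_mul_assoc, Finsupp.finsetSum_apply]
        _ = _ := by rw [b.sum_repr, _root_.one_mul, b.repr_self, Finsupp.single_apply]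
  exact ⟨Ideal.Quotient.liftₐ _ ψ fun a ha => h0 ha, fun i j l => hc i j l, he⟩

/-- The algebra of a point of `Univ A d` with the constants of a based algebra is that algebra. -/
theorem exists_equiv_of_consts {A' B : Type u} [CommRing A'] [CommRing B] [Algebra A' B] [Algebra (Univ A d) A']
    (b : Module.Basis (Fin d) A' B)
    (hc : ∀ i j l, algebraMap (Univ A d) A' ((univConst A d).c i j l) = b.repr (b i * b j) l)
    (he : ∀ l, algebraMap (Univ A d) A' ((univConst A d).e l) = b.repr 1 l) :
    ∃ ε : A' ⊗[Univ A d] UnivAlg A d ≃ₐ[A'] B, ∀ i, ε (1 ⊗ₜ AlgOn.basis (univConst A d) i) = b i := by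
  let bT := Algebra.TensorProduct.basis A' (AlgOn.basis (univConst A d))
  have hb : ∀ i, bT i = 1 ⊗ₜ AlgOn.basis (univConst A d) i := fun i => by simp [bT]
  let L : A' ⊗[Univ A d] UnivAlg A d ≃ₗ[A'] B := bT.equiv b (Equiv.refl _)
  have hL : ∀ i, L (bT i) = b i := fun i => by simp [L]
  have hone : L 1 = 1 := by
    rw [Algebra.TensorProduct.one_def, AlgOn.one_def, AlgOn.oneV, tmul_sum, map_sum]
    conv_rhs => rw [← b.sum_repr 1]
    refine Finset.sum_congr rfl fun l _ => ?_
    rw [tmul_smul, ← algebraMap_smul A' ((univConst A d).e l), map_smul, ← hb, hL, he]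
  have hmul : ∀ x y, L (x * y) = L x * L y := by
    have : (LinearMap.mul A' (A' ⊗[Univ A d] UnivAlg A d)).compr₂ L.toLinearMap =
        (LinearMap.mul A' B).compl₁₂ L.toLinearMap L.toLinearMap := by
      refine bT.ext fun i => bT.ext fun j => ?_
      simp only [LinearMap.compr₂_apply, LinearMap.mul_apply', LinearEquiv.coe_coe, LinearMap.compl₁₂_apply, hL]
      rw [hb, hb, Algebra.TensorProduct.tmul_mul_tmul, _root_.one_mul, AlgOn.basis_mul_basis, tmul_sum, map_sum]
      conv_rhs => rw [← b.sum_repr (b i * b j)]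
      refine Finset.sum_congr rfl fun l _ => ?_
      rw [tmul_smul, ← algebraMap_smul A' ((univConst A d).c i j l), map_smul, ← hb, hL, hc]
    exact fun x y => LinearMap.congr_fun (LinearMap.congr_fun this x) y
  exact ⟨AlgEquiv.ofLinearEquiv L hone hmul, fun i => by rw [← hb]; exact hL i⟩

end Univ

end Groth.Agent.AlgStkX
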