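import Groth.Agent.AlgStkX.ResSpec
import Groth.Agent.AlgStkX.ActGlue
import Mathlib.RingTheory.Flat.Rank
import Mathlib.AlgebraicGeometry.Morphisms.Affine

/-!
# A free smooth surjective space for a flat affine group of finite presentation
-/

set_option autoImplicit false
set_option backward.isDefEq.respectTransparency false
set_option maxHeartbeats 1000000

universe u

open CategoryTheory CategoryTheory.Limits MonoidalCategory CartesianMonoidalCategory MonObj AlgebraicGeometry
open TensorProduct

namespace Groth.Agent.AlgStkX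

variable {S : Scheme.{u}} (G : Over S) [GrpObj G]

/-- An open immersion from a spectrum meeting a point, with the group restricted to it. -/
theorem exists_affine_piece [IsAffineHom G.hom] (s : S) :
    ∃ (A C : Type u) (_ : CommRing A) (_ : CommRing C) (_ : Algebra A C) (j : Spec (CommRingCat.of A) ⟶ S)
      (_ : IsOpenImmersion j) (gC : Spec (CommRingCat.of C) ⟶ G.left),
      IsPullback gC (sp (algebraMap A C)) G.hom j ∧ ∃ y, j y = s := by
  obtain ⟨i, y, hy⟩ := S.affineCover.exists_eq s
  let U := S.affineCover.X i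
  let A := Γ(U, ⊤)
  let j : Spec A ⟶ S := U.isoSpec.inv ≫ S.affineCover.f i
  have : IsAffineHom (pullback.snd G.hom j) := MorphismProperty.pullback_snd _ _ inferInstance
  have : IsAffine (pullback G.hom j) := isAffine_of_isAffineHom (pullback.snd G.hom j)
  let P := pullback G.hom j
  let C := Γ(P, ⊤)
  obtain ⟨f, hf⟩ := sp_surjective (A := A) (B := C) (P.isoSpec.inv ≫ pullback.snd G.hom j)
  let := f.toAlgebra
  refine ⟨A, C, inferInstance, inferInstance, f.toAlgebra, j, inferInstance, P.isoSpec.inv ≫ pullback.fst G.hom j,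
    ?_, U.isoSpec.hom y, ?_⟩
  · exact (IsPullback.of_hasPullback G.hom j).of_iso P.isoSpec (Iso.refl _) (Iso.refl _) (Iso.refl _)
      (by rw [Iso.hom_inv_id_assoc, Iso.refl_hom, Category.comp_id])
      (by rw [show sp (algebraMap A C) = P.isoSpec.inv ≫ pullback.snd G.hom j from hf, Iso.hom_inv_id_assoc,
        Iso.refl_hom, Category.comp_id])
      (by simp) (by simp)
  · refine Eq.trans ?_ hy
    exact (Scheme.Hom.comp_apply U.isoSpec.hom j y).symm.trans
      (congrArg (fun h : U ⟶ S => h y) (Iso.hom_inv_id_assoc U.isoSpec (S.affineCover.f i)))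

/-- A free smooth `G`-scheme over `S` meeting a given fibre. -/
theorem exists_free_smooth_through [Flat G.hom] [LocallyOfFinitePresentation G.hom] [IsAffineHom G.hom] (s : S) :
    ∃ (M : Over S) (a : AlgGrp.Action G M),
      (∀ ⦃T : Over S⦄ (g : T ⟶ G) (x : T ⟶ M), lift g x ≫ a.act = x → g = 1) ∧
      Smooth M.hom ∧ ∃ x : M.left, M.hom x = s := by
  obtain ⟨A, C, _, _, _, j, _, gC, sq, y, hy⟩ := exists_affine_piece G s
  have : Module.Flat A C := by
    have h : Flat (sp (algebraMap A C)) := MorphismProperty.of_isPullback sq ‹_›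
    have := (HasRingHomProperty.Spec_iff (P := @Flat)).1 h
    exact RingHom.flat_algebraMap_iff.1 this
  have : Algebra.FinitePresentation A C := by
    have h : LocallyOfFinitePresentation (sp (algebraMap A C)) := MorphismProperty.of_isPullback sq ‹_›
    have := (HasRingHomProperty.Spec_iff (P := @LocallyOfFinitePresentation)).1 h
    exact RingHom.finitePresentation_algebraMap.1 this
  let p : Ideal A := (y : PrimeSpectrum A).asIdeal
  have hne : Nontrivial (p.ResidueField ⊗[A] C) := by
    refine (PrimeSpectrum.nontrivial_iff_mem_rangeComap (S := C) y).2 ?_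
    have hone : (1 : 𝟙_ (Over S) ⟶ G).left ≫ G.hom = 𝟙 S := Over.w (1 : 𝟙_ (Over S) ⟶ G)
    obtain ⟨z, -, hz⟩ := Scheme.exists_preimage_of_isPullback sq ((1 : 𝟙_ (Over S) ⟶ G).left s) y (by
      rw [← Scheme.Hom.comp_apply, hone, hy]; rfl)
    exact ⟨z, hz⟩
  obtain ⟨d, hd, hsmooth⟩ := exists_isSmoothAt_weil (A := A) (C := C) p
  obtain ⟨R, _, _, _, _, _, g, huniv⟩ := exists_weilRing A (Univ A d) (UnivAlg A d) C (AlgOn.basis (univConst A d))
  have : Algebra.FinitePresentation A R := Algebra.FinitePresentation.trans A (Univ A d) R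
  obtain ⟨m, _, hmp, hm⟩ := hsmooth R g huniv
  have hR := isRes_spec j d gC sq g huniv
  have hflat : Flat (resP j d).left :=
    (HasRingHomProperty.Spec_iff (P := @Flat)).2
      (RingHom.flat_algebraMap_iff.2 (inferInstance : Module.Flat (Univ A d) (UnivAlg A d)))
  have hsurj : Surjective (resP j d).left := ⟨by
    have hinj : Function.Injective (algebraMap (Univ A d) (UnivAlg A d)) := fun r r' h => by
      have h2 : r • AlgOn.basis (univConst A d) ⟨0, hd⟩ = r' • AlgOn.basis (univConst A d) ⟨0, hd⟩ := by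
        rw [Algebra.smul_def, Algebra.smul_def, h]
      simpa using congrArg (fun v => (AlgOn.basis (univConst A d)).repr v ⟨0, hd⟩) h2
    exact PrimeSpectrum.comap_surjective_iff_injective_of_finite.2 hinj⟩
  let N := resN R j
  have : LocallyOfFinitePresentation N.hom := by
    have : LocallyOfFinitePresentation (sp (algebraMap A R)) :=
      (HasRingHomProperty.Spec_iff (P := @LocallyOfFinitePresentation)).2
        (RingHom.finitePresentation_algebraMap.2 ‹_›)
    exact inferInstanceAs (LocallyOfFinitePresentation (sp (algebraMap A R) ≫ j))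
  let U := N.hom.smoothLocus
  let M : Over S := Over.mk (U.ι ≫ N.hom)
  let e : M ⟶ N := Over.homMk U.ι
  have : LocallyOfFinitePresentation M.hom := inferInstanceAs (LocallyOfFinitePresentation (U.ι ≫ N.hom))
  have : IsOpenImmersion e.left := inferInstanceAs (IsOpenImmersion U.ι)
  have hinv := act_preimage_smoothLocus hR.act
  obtain ⟨a, ha⟩ := exists_act_restrict e hR.act (by
    show (snd G N).left ⁻¹ᵁ U.ι.opensRange ≤ hR.act.act.left ⁻¹ᵁ U.ι.opensRange
    rw [Scheme.Opens.opensRange_ι]
    exact hinv.ge)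
  refine ⟨M, a, fun T g' x h => ?_, ?_, ?_⟩
  · refine hR.act_free g' (x ≫ e) ?_
    have := congrArg (· ≫ e) h
    simp only [Category.assoc, ha, lift_whiskerLeft_assoc] at this
    exact this
  · rw [← Scheme.Hom.smoothLocus_eq_top_iff]
    exact (Scheme.Hom.preimage_smoothLocus_eq U.ι N.hom).symm.trans U.ι_preimage_self
  · have hxU : (⟨m, inferInstance⟩ : PrimeSpectrum R) ∈ U := by
      rw [Scheme.Hom.mem_smoothLocus]
      exact (MorLib.SmoothLoc.sm_comp_right (sp (algebraMap A R)) j _).2 ((MorLib.SmoothLoc.sm_Spec_iff _).2 hm)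
    refine ⟨⟨_, hxU⟩, ?_⟩
    show (U.ι ≫ sp (algebraMap A R) ≫ j) ⟨_, hxU⟩ = s
    rw [← hy]
    exact congrArg j (PrimeSpectrum.ext hmp)

/-- A free smooth surjective `G`-scheme over `S`. -/
theorem exists_free_smooth_surjective [Flat G.hom] [LocallyOfFinitePresentation G.hom] [IsAffineHom G.hom] :
    ∃ (M : Over S) (a : AlgGrp.Action G M),
      (∀ ⦃T : Over S⦄ (g : T ⟶ G) (x : T ⟶ M), lift g x ≫ a.act = x → g = 1) ∧
      Smooth M.hom ∧ Surjective M.hom := by
  choose M a hfree hsm x hx using exists_free_smooth_through G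
  obtain ⟨b, hb⟩ := exists_act_sigma (Mi := M) a
  exact ⟨sigmaOverS M, b, free_sigma hfree b hb, smooth_sigmaOverS hsm,
    surjective_sigmaOverS fun s => ⟨s, x s, hx s⟩⟩

end Groth.Agent.AlgStkX
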