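import Groth.Agent.AlgStkX.FreeCover
import Groth.Agent.AlgStkX.ExistsCover

/-!
# Artin's theorem for quotient stacks by flat affine groups of finite presentation
-/

set_option autoImplicit false
set_option backward.isDefEq.respectTransparency false
set_option backward.isDefEq.respectTransparency.types false

universe u

open CategoryTheory CategoryTheory.Limits MonoidalCategory CartesianMonoidalCategory MonObj AlgebraicGeometry

namespace Groth.Agent.AlgStkX

open Groth.Agent.GrpSchLib

variable {S : Scheme.{u}} {G : Over S} [GrpObj G]

/-- The diagonal action on a product. -/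
theorem exists_act_prod {X M : Over S} (aX : AlgGrp.Action G X) (aM : AlgGrp.Action G M) :
    ∃ b : AlgGrp.Action G (X ⊗ M), b.act ≫ fst X M = (G ◁ fst X M) ≫ aX.act ∧
      b.act ≫ snd X M = (G ◁ snd X M) ≫ aM.act := by
  refine ⟨⟨lift ((G ◁ fst X M) ≫ aX.act) ((G ◁ snd X M) ≫ aM.act), ?_, ?_⟩, lift_fst _ _, lift_snd _ _⟩
  · apply CartesianMonoidalCategory.hom_ext
    · rw [Category.assoc, lift_fst, ← MonoidalCategory.whisker_exchange_assoc, aX.one_act]
      simp
    · rw [Category.assoc, lift_snd, ← MonoidalCategory.whisker_exchange_assoc, aM.one_act]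
      simp
  · apply CartesianMonoidalCategory.hom_ext
    · rw [Category.assoc, lift_fst, ← MonoidalCategory.whisker_exchange_assoc, aX.mul_act,
        Category.assoc, Category.assoc, lift_fst, ← MonoidalCategory.whiskerLeft_comp_assoc, lift_fst,
        MonoidalCategory.associator_naturality_right_assoc, MonoidalCategory.whiskerLeft_comp, Category.assoc]
    · rw [Category.assoc, lift_snd, ← MonoidalCategory.whisker_exchange_assoc, aM.mul_act,
        Category.assoc, Category.assoc, lift_snd, ← MonoidalCategory.whiskerLeft_comp_assoc, lift_snd,
        MonoidalCategory.associator_naturality_right_assoc, MonoidalCategory.whiskerLeft_comp, Category.assoc]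

/-- `[X/G]` is an algebraic stack for `G` affine, flat and locally of finite presentation. -/
theorem isAlgStack_quotSt [Flat G.hom] [LocallyOfFinitePresentation G.hom] [IsAffineHom G.hom] {X : Over S}
    (aX : AlgGrp.Action G X) :
    AlgSt.IsAlgStack Scheme.fppfPrecoverage (AlgSt.QuotSt Scheme.fppfPrecoverage G aX) := by
  obtain ⟨M, aM, hfree, hsm, hsu⟩ := exists_free_smooth_surjective G
  obtain ⟨b, h1, h2⟩ := exists_act_prod aX aM
  have sq : IsPullback (fst X M).left (snd X M).left X.hom M.hom := IsPullback.of_hasPullback X.hom M.hom
  have : Smooth (fst X M).left := MorphismProperty.of_isPullback sq.flip hsm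
  have : Surjective (fst X M).left := MorphismProperty.of_isPullback sq.flip hsu
  refine isAlgStack_of_free_cover (aP := b) h1 (fun T g x h => hfree g (x ≫ snd X M) ?_)
  have := congrArg (· ≫ snd X M) h
  simp only [Category.assoc, h2, lift_whiskerLeft_assoc] at this
  exact this

end Groth.Agent.AlgStkX
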