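import Groth.Agent.AlgStkX.StackExtend
import Groth.Prelude.Def_StGerb2

/-!
# Comparing two points with the same automorphism presheaf

For a terminal-like object `U` and two `U`-points `y`, `x` with the same automorphism presheaf `A`, the
functor from the image of `y` to the stack of `x` sending `y_T` to `x_T`; it is fully faithful.
-/

set_option autoImplicit false
set_option backward.isDefEq.respectTransparency false
set_option backward.isDefEq.respectTransparency.types false

universe w v₃ u₃ v₂ u₂ v u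

open CategoryTheory CategoryTheory.Functor Opposite Groth.Agent.FibBase Groth.Agent.StkLib

namespace Groth.Agent.AlgStkX.AutCompare

variable {C : Type u} [Category.{v} C] {U : C} {𝒬 : BasedCategory.{v₂, u₂} C} {𝒳 : BasedCategory.{v₃, u₃} C}

variable (y : FibCat.overCat U ⥤ᵇ 𝒬)

/-- The full subcategory on the values of a point, indexed by the slice. -/
def Img : BasedCategory.{v₂, max u v} C :=
  .ofFunctor (inducedFunctor (D := 𝒬.obj) (fun a : Over U => y.obj a) ⋙ 𝒬.p)

/-- Its inclusion. -/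
def incl : Img y ⥤ᵇ 𝒬 where
  toFunctor := inducedFunctor (D := 𝒬.obj) (fun a : Over U => y.obj a)
  w := rfl

instance : (incl y).toFunctor.Full := InducedCategory.full _
instance : (incl y).toFunctor.Faithful := InducedCategory.faithful _

variable {y}

/-- The base morphism of a morphism between values of a point. -/
def baseMap (hU : ∀ {V : C} (a b : V ⟶ U), a = b) {a b : Over U} (h : y.obj a ⟶ y.obj b) : a ⟶ b :=
  Over.homMk (eqToHom (y.w_obj a).symm ≫ 𝒬.p.map h ≫ eqToHom (y.w_obj b)) (hU _ _)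

theorem baseMap_lift (hU : ∀ {V : C} (a b : V ⟶ U), a = b) {a b : Over U} (h : y.obj a ⟶ y.obj b) :
    𝒬.p.IsHomLift (baseMap hU h).left h :=
  IsHomLift.of_fac 𝒬.p _ h (y.w_obj a) (y.w_obj b) rfl

theorem baseMap_eq (hU : ∀ {V : C} (a b : V ⟶ U), a = b) {a b : Over U} (h : y.obj a ⟶ y.obj b) (t : a ⟶ b)
    (ht : 𝒬.p.IsHomLift t.left h) : baseMap hU h = t := by
  refine Over.OverMorphism.ext ?_
  have h1 := IsHomLift.fac 𝒬.p t.left h
  exact h1.symm

/-- Underlying morphisms of products of automorphisms over the identity. -/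
theorem autO_mul {q : 𝒬.obj} (α β : Gerb.AutO q) : (α * β).hom.1 = β.hom.1 ≫ α.hom.1 := rfl

theorem autO_one (q : 𝒬.obj) : (1 : Gerb.AutO q).hom.1 = 𝟙 q := rfl

theorem autO_ext {q : 𝒬.obj} {α β : Gerb.AutO q} (e : α.hom.1 = β.hom.1) : α = β :=
  Aut.ext (Functor.Fiber.hom_ext e)

variable (h𝒬 : FibCat.IsFibGrpd 𝒬.p) (hU : ∀ {V : C} (a b : V ⟶ U), a = b)

include h𝒬 hU in
theorem existsUnique_dec {a b : Over U} (h : y.obj a ⟶ y.obj b) :
    ∃! α : Gerb.AutO (y.obj a), α.hom.1 ≫ y.map (baseMap hU h) = h := by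
  let t := baseMap hU h
  have : 𝒬.p.IsHomLift t.left (y.map t) := overMap_isHomLift y t
  have := baseMap_lift hU h
  have := isSC (hp := h𝒬) t.left (y.map t)
  let s := IsCartesian.map 𝒬.p t.left (y.map t) h
  have hs : 𝒬.p.IsHomLift (𝟙 a.left) s := inferInstance
  have := isIso_of_lift (hp := h𝒬) (𝟙 a.left) s
  have hs' : 𝒬.p.IsHomLift (𝟙 (𝒬.p.obj (y.obj a))) s := isHomLift_id_congr (y.w_obj a).symm hs
  refine ⟨{ hom := ⟨s, hs'⟩
            inv := ⟨inv s, IsHomLift.lift_id_inv_isIso 𝒬.p _ s⟩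
            hom_inv_id := Functor.Fiber.hom_ext (IsIso.hom_inv_id s)
            inv_hom_id := Functor.Fiber.hom_ext (IsIso.inv_hom_id s) },
    IsCartesian.fac 𝒬.p t.left (y.map t) h, fun β hβ => autO_ext ?_⟩
  have : 𝒬.p.IsHomLift (𝟙 a.left) β.hom.1 := isHomLift_id_congr (y.w_obj a) β.hom.2
  exact IsCartesian.map_uniq 𝒬.p t.left (y.map t) h β.hom.1 hβ

/-- The vertical part of a morphism between values of a point. -/
noncomputable def dec {a b : Over U} (h : y.obj a ⟶ y.obj b) : Gerb.AutO (y.obj a) :=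
  (existsUnique_dec h𝒬 hU h).choose

theorem dec_fac {a b : Over U} (h : y.obj a ⟶ y.obj b) :
    (dec h𝒬 hU h).hom.1 ≫ y.map (baseMap hU h) = h :=
  (existsUnique_dec h𝒬 hU h).choose_spec.1

include h𝒬 hU in
theorem baseMap_mk {a b : Over U} (t : a ⟶ b) (α : Gerb.AutO (y.obj a)) :
    baseMap hU (α.hom.1 ≫ y.map t) = t := by
  refine baseMap_eq hU _ t ?_
  have : 𝒬.p.IsHomLift (𝟙 a.left) α.hom.1 := isHomLift_id_congr (y.w_obj a) α.hom.2
  have : 𝒬.p.IsHomLift t.left (y.map t) := overMap_isHomLift y t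
  exact IsHomLift.comp_lift_id_left' 𝒬.p a.left _ t.left _

theorem dec_mk {a b : Over U} (t : a ⟶ b) (α : Gerb.AutO (y.obj a)) :
    dec h𝒬 hU (α.hom.1 ≫ y.map t) = α :=
  ((existsUnique_dec h𝒬 hU _).choose_spec.2 α (by rw [baseMap_mk h𝒬 hU])).symm

variable {A : (Over U)ᵒᵖ ⥤ GrpCat.{w}} (ry : Gerb.AutRep y A) (x : FibCat.overCat U ⥤ᵇ 𝒳) (rx : Gerb.AutRep x A)

/-- The transported automorphism. -/
noncomputable def transfer {a : Over U} (α : Gerb.AutO (y.obj a)) : Gerb.AutO (x.obj a) :=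
  rx.iso a ((ry.iso a).symm α)

/-- The comparison functor from the image of `y`. -/
noncomputable def compare : Img y ⥤ᵇ 𝒳 where
  toFunctor :=
    { obj := fun a => x.obj a
      map := fun {a b} h => (transfer ry x rx (dec h𝒬 hU h.hom)).hom.1 ≫ x.map (baseMap hU h.hom)
      map_id := fun a => by
        have e : (𝟙 a : a ⟶ a).hom = (1 : Gerb.AutO (y.obj a)).hom.1 ≫ y.map (𝟙 _) := by
          rw [y.toFunctor.map_id, autO_one]
          exact (Category.comp_id _).symm
        rw [e, dec_mk, baseMap_mk h𝒬 hU, transfer, map_one, map_one, x.toFunctor.map_id, autO_one]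
        exact Category.comp_id _
      map_comp := fun {a b c} h h' => by
        let α₀ := (ry.iso a).symm (dec h𝒬 hU h.hom)
        let β₀ := (ry.iso b).symm (dec h𝒬 hU h'.hom)
        let t := baseMap hU h.hom
        let t' := baseMap hU h'.hom
        have e : (h ≫ h').hom = (ry.iso a (A.map t.op β₀ * α₀)).hom.1 ≫ y.map (t ≫ t') := by
          rw [map_mul, autO_mul, Category.assoc, y.toFunctor.map_comp, reassoc_of% (ry.natural t β₀),
            MulEquiv.apply_symm_apply, MulEquiv.apply_symm_apply, reassoc_of% (dec_fac h𝒬 hU h.hom)]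
          exact (congrArg (h.hom ≫ ·) (dec_fac h𝒬 hU h'.hom)).symm
        rw [e, dec_mk, baseMap_mk h𝒬 hU, transfer, MulEquiv.symm_apply_apply, map_mul, autO_mul, Category.assoc,
          x.toFunctor.map_comp, reassoc_of% (rx.natural t β₀), Category.assoc]
        rfl }
  w := CategoryTheory.Functor.ext (fun a => (x.w_obj a).trans (y.w_obj a).symm) fun a b h => by
    have : 𝒳.p.IsHomLift (𝟙 a.left) (transfer ry x rx (dec h𝒬 hU h.hom)).hom.1 :=
      isHomLift_id_congr (x.w_obj a) (transfer ry x rx (dec h𝒬 hU h.hom)).hom.2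
    have : 𝒳.p.IsHomLift (baseMap hU h.hom).left (x.map (baseMap hU h.hom)) := overMap_isHomLift x _
    have hl : 𝒳.p.IsHomLift (baseMap hU h.hom).left
        ((transfer ry x rx (dec h𝒬 hU h.hom)).hom.1 ≫ x.map (baseMap hU h.hom)) :=
      IsHomLift.comp_lift_id_left' 𝒳.p a.left _ _ _
    show 𝒳.p.map ((transfer ry x rx (dec h𝒬 hU h.hom)).hom.1 ≫ x.map (baseMap hU h.hom)) =
      eqToHom _ ≫ 𝒬.p.map h.hom ≫ eqToHom _
    rw [IsHomLift.fac' 𝒳.p (baseMap hU h.hom).left
        ((transfer ry x rx (dec h𝒬 hU h.hom)).hom.1 ≫ x.map (baseMap hU h.hom))]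
    simp [baseMap]

include rx in
theorem compare_full_faithful (h𝒳 : FibCat.IsFibGrpd 𝒳.p) :
    (compare h𝒬 hU ry x rx).toFunctor.Full ∧ (compare h𝒬 hU ry x rx).toFunctor.Faithful := by
  refine ⟨⟨fun {a b} φ => ?_⟩, ⟨fun {a b} h h' e => ?_⟩⟩
  · refine ⟨InducedCategory.homMk ((ry.iso a ((rx.iso a).symm (dec h𝒳 hU φ))).hom.1 ≫ y.map (baseMap hU φ)), ?_⟩
    show (transfer ry x rx (dec h𝒬 hU _)).hom.1 ≫ x.map (baseMap hU _) = φ
    rw [InducedCategory.homMk_hom, dec_mk, baseMap_mk h𝒬 hU, transfer, MulEquiv.symm_apply_apply,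
      MulEquiv.apply_symm_apply]
    exact dec_fac h𝒳 hU φ
  · have e' : (transfer ry x rx (dec h𝒬 hU h.hom)).hom.1 ≫ x.map (baseMap hU h.hom) =
        (transfer ry x rx (dec h𝒬 hU h'.hom)).hom.1 ≫ x.map (baseMap hU h'.hom) := e
    have eb : baseMap hU h.hom = baseMap hU h'.hom :=
      ((baseMap_mk h𝒳 hU _ _).symm.trans (congrArg (baseMap hU) e')).trans (baseMap_mk h𝒳 hU _ _)
    have ed := congrArg (dec h𝒳 hU) e'
    rw [dec_mk, dec_mk] at ed
    have ed' : dec h𝒬 hU h.hom = dec h𝒬 hU h'.hom := (ry.iso a).symm.injective ((rx.iso a).injective ed)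
    exact InducedCategory.hom_ext (by rw [← dec_fac h𝒬 hU h.hom, ← dec_fac h𝒬 hU h'.hom, ed', eb])

/-- The image category is fibred in groupoids. -/
theorem img_isFibGrpd (h𝒬 : FibCat.IsFibGrpd 𝒬.p) : FibCat.IsFibGrpd (Img y).p where
  exists_lift := fun {a} {V} f => by
    let f' : V ⟶ (a : Over U).left := f ≫ eqToHom (y.w_obj a)
    let a' : Over U := Over.mk (f' ≫ (a : Over U).hom)
    let t : a' ⟶ (a : Over U) := Over.homMk f' rfl
    refine ⟨a', InducedCategory.homMk (y.map t), IsHomLift.of_fac' _ f _ (y.w_obj a') rfl ?_⟩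
    have := overMap_isHomLift y t
    show 𝒬.p.map (y.map t) = _
    rw [IsHomLift.fac' 𝒬.p t.left (y.map t)]
    simp [t, f']
  isStronglyCartesian := fun {a b} φ =>
    { toIsHomLift := IsHomLift.map _ φ
      universal_property' := fun {a'} g φ' hφ' => by
        have := h𝒬.isStronglyCartesian φ.hom
        have hl : 𝒬.p.IsHomLift (g ≫ 𝒬.p.map φ.hom) φ'.hom := ((incl y).isHomLift_iff _ φ').2 hφ'
        refine ⟨InducedCategory.homMk
          (IsStronglyCartesian.map 𝒬.p (𝒬.p.map φ.hom) φ.hom (g := g) rfl φ'.hom), ⟨?_, ?_⟩, fun ψ hψ => ?_⟩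
        · refine ((incl y).isHomLift_iff g _).1 ?_
          exact inferInstanceAs (𝒬.p.IsHomLift g (IsStronglyCartesian.map 𝒬.p (𝒬.p.map φ.hom) φ.hom (g := g) rfl φ'.hom))
        · exact InducedCategory.hom_ext (IsStronglyCartesian.fac 𝒬.p (𝒬.p.map φ.hom) φ.hom (g := g) rfl φ'.hom)
        · obtain ⟨h1, h2⟩ := hψ
          have : 𝒬.p.IsHomLift g ψ.hom := ((incl y).isHomLift_iff g ψ).2 h1
          exact InducedCategory.hom_ext (IsStronglyCartesian.map_uniq 𝒬.p (𝒬.p.map φ.hom) φ.hom (g := g) rfl φ'.hom ψ.hom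
            (congrArg InducedCategory.Hom.hom h2)) }

/-- The point into its image. -/
def toImg : FibCat.overCat U ⥤ᵇ Img y where
  toFunctor :=
    { obj := fun a => a
      map := fun {a b} t => InducedCategory.homMk (y.map t)
      map_id := fun a => InducedCategory.hom_ext (y.toFunctor.map_id a)
      map_comp := fun f g => InducedCategory.hom_ext (y.toFunctor.map_comp f g) }
  w := y.w

/-- The comparison sends `y` to `x`. -/
noncomputable def toImgCompareIso : BasedFunctor.comp toImg (compare h𝒬 hU ry x rx) ≅ x :=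
  BasedNatIso.mkNatIso (NatIso.ofComponents (fun a => Iso.refl _) (fun {a b} t => by
    refine (Category.comp_id _).trans (Eq.trans ?_ (Category.id_comp _).symm)
    show (transfer ry x rx (dec h𝒬 hU (y.map t))).hom.1 ≫ x.map (baseMap hU (y.map t)) = x.map t
    have e : y.map t = (1 : Gerb.AutO (y.obj a)).hom.1 ≫ y.map t := by
      rw [autO_one]; exact (Category.id_comp _).symm
    rw [e, dec_mk, baseMap_mk h𝒬 hU, transfer, map_one, map_one, autO_one]
    exact Category.id_comp _))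
    fun a => IsHomLift.id (x.w_obj a)

end Groth.Agent.AlgStkX.AutCompare
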