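import Groth.Prelude.Def_StGerb2
import Groth.Agent.QuotLib.TrivHom
import Groth.Agent.QuotLib.Atlas
import Groth.Agent.AlgStLib.FppfSite
import Groth.Agent.FibBase.Basic

/-!
# The classifying stack as a gerbe over the base with its trivial section
-/

set_option autoImplicit false
set_option backward.isDefEq.respectTransparency false
set_option backward.isDefEq.respectTransparency.types false

universe u

open CategoryTheory CategoryTheory.Functor CategoryTheory.Limits MonoidalCategory CartesianMonoidalCategory MonObj GrpObj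
  AlgebraicGeometry Opposite

namespace Groth.Agent.AlgStkX

open Groth.Agent.FibBase Groth.Agent.QuotLib Groth.Agent.GrpSchLib

variable {S : Scheme.{u}} (G : Over S) [GrpObj G]

local notation "K₀" => Scheme.fppfPrecoverage
local notation "pt" => (Over.mk (𝟙 S) : Over S)

/-- The structure functor of a category over `(Sch/S)`, into the slice of the base. -/
noncomputable def toBase (𝒳 : AlgSt.Cat S) : 𝒳 ⥤ᵇ FibCat.overCat pt where
  toFunctor :=
    { obj := fun A => Over.mk (Over.mkIdTerminal.from (𝒳.p.obj A))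
      map := fun f => Over.homMk (𝒳.p.map f) (Over.mkIdTerminal.hom_ext _ _)
      map_id := fun A => Over.OverMorphism.ext (𝒳.p.map_id A)
      map_comp := fun f g => Over.OverMorphism.ext (𝒳.p.map_comp f g) }
  w := rfl

/-- The trivial torsor as a section. -/
noncomputable abbrev bgPoint : FibCat.overCat pt ⥤ᵇ AlgSt.BG K₀ G :=
  quotOver K₀ G (AlgSt.trivAction G)

/-- The trivial torsor is a section of the structure functor. -/
noncomputable def bgPointSection :
    BasedFunctor.comp (bgPoint G) (toBase (AlgSt.BG K₀ G)) ≅ BasedFunctor.id (FibCat.overCat pt) :=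
  overIso _ _ fun x => Over.mkIdTerminal.hom_ext _ _

variable {G}

/-- A covering presieve of a scheme over `S` gives a covering sieve of the big site. -/
theorem exists_sieve_of_presieve {U : Over S} {R : Presieve U.left}
    (hR : R ∈ (Scheme.fppfPrecoverage : Precoverage Scheme.{u}) U.left) :
    ∃ R' ∈ QuotSh.J K₀ S U, ∀ ⦃V : Over S⦄ (f : V ⟶ U), R'.arrows f →
      ∃ (Y : Scheme.{u}) (h : V.left ⟶ Y) (r : Y ⟶ U.left), R r ∧ h ≫ r = f.left := by
  refine ⟨(Sieve.overEquiv U).symm (Sieve.generate R), ?_, fun V f hf => ?_⟩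
  · exact GrothendieckTopology.overEquiv_symm_mem_over _ U _ (Precoverage.generate_mem_toGrothendieck hR)
  · rw [Sieve.overEquiv_symm_iff] at hf
    obtain ⟨Y, h, r, hr, hfac⟩ := hf
    exact ⟨Y, h, r, hr, hfac⟩

/-- Lifts of a morphism to the total space of a torsor along a member of a trivialising covering. -/
theorem exists_sieve_sections {X : Over S} {aX : AlgGrp.Action G X} (A : AlgSt.QuotObj K₀ G aX) :
    ∃ R ∈ QuotSh.J K₀ S A.base, ∀ ⦃V : Over S⦄ (f : V ⟶ A.base), R.arrows f →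
      ∃ b : V ⟶ A.P, b ≫ A.π = f := by
  obtain ⟨R, hR, hsec⟩ := A.loc
  obtain ⟨R', hR', hmem⟩ := exists_sieve_of_presieve hR
  refine ⟨R', hR', fun V f hf => ?_⟩
  obtain ⟨Y, h, r, hr, hfac⟩ := hmem f hf
  obtain ⟨s, hs⟩ := hsec r hr
  have hs' : s ≫ A.π.left = r := hs
  refine ⟨Over.homMk (h ≫ s) ?_, Over.OverMorphism.ext ?_⟩
  · show (h ≫ s) ≫ A.P.hom = V.hom
    rw [← Over.w A.π, Category.assoc, ← Category.assoc s, hs', ← Category.assoc, hfac]
    exact Over.w f
  · show (h ≫ s) ≫ A.π.left = f.left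
    rw [Category.assoc, hs', hfac]

variable (G)

/-- `BG` is a gerbe over the base. -/
theorem bg_isGerbeOver : Gerb.IsGerbeOver (QuotSh.J K₀ S) (toBase (AlgSt.BG K₀ G)) := by
  refine ⟨fun y => ⟨⊤, (QuotSh.J K₀ S).top_mem _, fun {V} f _ => ?_⟩, fun x x' b hb => ?_⟩
  · let g : (toBase (AlgSt.BG K₀ G)).obj ((bgPoint G).obj (Over.mk (Over.mkIdTerminal.from V))) ⟶ y :=
      Over.homMk f (Over.mkIdTerminal.hom_ext _ _)
    exact ⟨_, g, IsHomLift.of_fac' (FibCat.overCat pt).p f g rfl rfl ((Category.comp_id _).trans (Category.id_comp _)).symm⟩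
  · have : (FibCat.overCat pt).p.IsHomLift (𝟙 x.base) b := hb
    have hb' : x'.base = x.base := IsHomLift.codomain_eq (FibCat.overCat pt).p (𝟙 x.base) b
    obtain ⟨R, hR, hsec⟩ := exists_sieve_sections x
    obtain ⟨R', hR', hsec'⟩ := exists_sieve_sections x'
    have hbl : b.left = eqToHom rfl ≫ 𝟙 x.base ≫ eqToHom hb'.symm :=
      IsHomLift.fac' (FibCat.overCat pt).p (𝟙 x.base) b
    refine ⟨R ⊓ R'.pullback b.left, (QuotSh.J K₀ S).intersection_covering hR
      ((QuotSh.J K₀ S).pullback_stable _ hR'), fun {V} f hf => ?_⟩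
    obtain ⟨s, hs⟩ := hsec f hf.1
    obtain ⟨s', hs'⟩ := hsec' (f ≫ b.left) hf.2
    let φ := trivHom x s (toUnit V) (toUnit_unique _ _)
    let ψ := trivHom x' s' (toUnit V) (toUnit_unique _ _)
    refine ⟨_, φ, ψ, ?_, ?_, ?_⟩
    · exact IsHomLift.of_fac' (AlgSt.BG K₀ G).p f φ rfl rfl
        (hs.trans ((Category.comp_id _).trans (Category.id_comp _)).symm)
    · refine IsHomLift.of_fac' (AlgSt.BG K₀ G).p f ψ rfl hb' (hs'.trans ?_)
      show f ≫ b.left = 𝟙 V ≫ f ≫ eqToHom hb'.symm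
      rw [hbl]
      simp
    · refine Over.OverMorphism.ext ?_
      show (s ≫ x.π) ≫ b.left = s' ≫ x'.π
      rw [hs, hs']

/-- `BG` is a gerbe over the site. -/
theorem bg_isGerbeOver_self : Gerb.IsGerbeOver (QuotSh.J K₀ S) (FibCat.toSelf (AlgSt.BG K₀ G)) := by
  refine ⟨fun y => ⟨⊤, (QuotSh.J K₀ S).top_mem _, fun {V} f _ => ⟨triv K₀ G (AlgSt.trivAction G) (toUnit V), f, ?_⟩⟩,
    fun x x' b hb => ?_⟩
  · exact IsHomLift.of_fac' (FibCat.selfOver (Over S)).p f f rfl rfl
      ((Category.comp_id _).trans (Category.id_comp _)).symm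
  · let b' : (toBase (AlgSt.BG K₀ G)).obj x ⟶ (toBase (AlgSt.BG K₀ G)).obj x' :=
      Over.homMk b (Over.mkIdTerminal.hom_ext _ _)
    have : (FibCat.selfOver (Over S)).p.IsHomLift (𝟙 x.base) b := hb
    have hb' : x'.base = x.base := IsHomLift.codomain_eq (FibCat.selfOver (Over S)).p (𝟙 x.base) b
    have hl : (FibCat.overCat pt).p.IsHomLift (𝟙 x.base) b' :=
      IsHomLift.of_fac' (FibCat.overCat pt).p _ b' rfl hb' (IsHomLift.fac' (FibCat.selfOver (Over S)).p (𝟙 x.base) b)
    obtain ⟨R, hR, h⟩ := (bg_isGerbeOver G).2 x x' b' hl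
    refine ⟨R, hR, fun {V} f hf => ?_⟩
    obtain ⟨x₀, φ, ψ, h1, h2, h3⟩ := h f hf
    exact ⟨x₀, φ, ψ, h1, h2, congrArg CommaMorphism.left h3⟩

/-- The trivial torsor over `T` is pointed by the unit. -/
noncomputable def ptSecHom {T : Over S} (x : T ⟶ 𝟙_ (Over S)) (g : T ⟶ G) :
    triv K₀ G (AlgSt.trivAction G) x ⟶ triv K₀ G (AlgSt.trivAction G) x :=
  trivHom (triv K₀ G (AlgSt.trivAction G) x) (lift g (𝟙 T)) x (toUnit_unique _ _)

section

variable {T : Over S} (x : T ⟶ 𝟙_ (Over S))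

theorem ptSecHom_base (g : T ⟶ G) : (ptSecHom G x g).base = 𝟙 T := lift_snd g (𝟙 T)

theorem sec_ptSecHom (g : T ⟶ G) : sec G T ≫ (ptSecHom G x g).top = lift g (𝟙 T) :=
  trivHom_sec _ _ _ _

theorem ptSecHom_comp (g g' : T ⟶ G) : ptSecHom G x g ≫ ptSecHom G x g' = ptSecHom G x (g * g') := by
  refine hom_ext_sec ?_
  show sec G T ≫ (ptSecHom G x g).top ≫ (ptSecHom G x g').top = _
  rw [← Category.assoc, sec_ptSecHom, sec_ptSecHom]
  show lift g (𝟙 T) ≫ (G ◁ lift g' (𝟙 T)) ≫ (AlgSt.leftMul G T).act = _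
  rw [whisker_lift_leftMul, comp_lift, MonObj.comp_mul, lift_fst, lift_snd_assoc, Category.id_comp]
  simp

theorem ptSecHom_one : ptSecHom G x (1 : T ⟶ G) = 𝟙 _ := by
  refine hom_ext_sec ?_
  rw [sec_ptSecHom]
  exact (Category.comp_id _).symm

theorem eq_ptSecHom
    (h : triv K₀ G (AlgSt.trivAction G) x ⟶ triv K₀ G (AlgSt.trivAction G) x)
    (hb : h.base = 𝟙 T) : ptSecHom G x ((sec G T ≫ h.top) ≫ fst G T) = h := by
  refine hom_ext_sec ?_
  rw [sec_ptSecHom]
  apply CartesianMonoidalCategory.hom_ext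
  · exact lift_fst _ _
  · rw [lift_snd]
    show 𝟙 T = (sec G T ≫ h.top) ≫ (triv K₀ G (AlgSt.trivAction G) x).π
    rw [Category.assoc, h.cart.w, hb, triv_π, QuotLib.sec, lift_snd_assoc]
    exact (Category.id_comp _).symm

/-- Points of `G` are automorphisms of trivial torsors. -/
noncomputable def autEquiv :
    (T ⟶ G) ≃* Gerb.AutO (𝒳 := AlgSt.BG K₀ G) (triv K₀ G (AlgSt.trivAction G) x) where
  toFun g :=
    { hom := ⟨ptSecHom G x g⁻¹, IsHomLift.of_fac' (AlgSt.BG K₀ G).p _ _ rfl rfl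
        ((ptSecHom_base G x g⁻¹).trans ((Category.comp_id _).trans (Category.id_comp _)).symm)⟩
      inv := ⟨ptSecHom G x g, IsHomLift.of_fac' (AlgSt.BG K₀ G).p _ _ rfl rfl
        ((ptSecHom_base G x g).trans ((Category.comp_id _).trans (Category.id_comp _)).symm)⟩
      hom_inv_id := Functor.Fiber.hom_ext (by
        show ptSecHom G x g⁻¹ ≫ ptSecHom G x g = 𝟙 _
        rw [ptSecHom_comp, inv_mul_cancel, ptSecHom_one])
      inv_hom_id := Functor.Fiber.hom_ext (by
        show ptSecHom G x g ≫ ptSecHom G x g⁻¹ = 𝟙 _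
        rw [ptSecHom_comp, mul_inv_cancel, ptSecHom_one]) }
  invFun α := ((sec G T ≫ α.hom.1.top) ≫ fst G T)⁻¹
  left_inv g := by
    show ((sec G T ≫ (ptSecHom G x g⁻¹).top) ≫ fst G T)⁻¹ = g
    rw [sec_ptSecHom, lift_fst, _root_.inv_inv]
  right_inv α := Aut.ext (Functor.Fiber.hom_ext (by
    show ptSecHom G x ((sec G T ≫ α.hom.1.top) ≫ fst G T)⁻¹⁻¹ = α.hom.1
    rw [_root_.inv_inv]
    refine eq_ptSecHom G x α.hom.1 ?_
    have h := @IsHomLift.fac' _ _ _ _ (AlgSt.BG K₀ G).p _ _ _ _ _ α.hom.1 α.hom.2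
    exact h.trans ((congrArg (_ ≫ ·) (Category.comp_id _)).trans (Category.id_comp _))))
  map_mul' g g' := Aut.ext (Functor.Fiber.hom_ext (by
    show ptSecHom G x (g * g')⁻¹ = ptSecHom G x g'⁻¹ ≫ ptSecHom G x g⁻¹
    rw [ptSecHom_comp, _root_.mul_inv_rev]))

theorem whisker_ptSecHom {T' : Over S} (x' : T' ⟶ 𝟙_ (Over S)) (f : T' ⟶ T) (g : T ⟶ G) :
    (ptSecHom G x' (f ≫ g)).top ≫ (G ◁ f) = (G ◁ f) ≫ (ptSecHom G x g).top := by
  show ((G ◁ lift (f ≫ g) (𝟙 T')) ≫ (AlgSt.leftMul G T').act) ≫ (G ◁ f) =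
    (G ◁ f) ≫ (G ◁ lift g (𝟙 T)) ≫ (AlgSt.leftMul G T).act
  rw [whisker_lift_leftMul, whisker_lift_leftMul]
  apply CartesianMonoidalCategory.hom_ext
  · simp [MonObj.comp_mul]
  · simp

end

/-- `G` represents the automorphisms of the trivial torsor. -/
noncomputable def bgAutRep : Gerb.AutRep (bgPoint G) (Gerb.ptsGrp pt G) where
  iso T :=
    MulEquiv.trans
      (show ((Over.iteratedSliceForward pt).obj T ⟶ G) ≃* (T.left ⟶ G) from
        { toFun := fun a => (Over.homMk (𝟙 T.left.left) (by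
            show 𝟙 _ ≫ T.hom.left = T.left.hom
            rw [Category.id_comp]
            exact (Category.comp_id _).symm.trans (Over.w T.hom)) : T.left ⟶ (Over.iteratedSliceForward pt).obj T) ≫ a
          invFun := fun g => (Over.homMk (𝟙 T.left.left) (by
            show 𝟙 _ ≫ T.left.hom = T.hom.left
            rw [Category.id_comp]
            exact ((Category.comp_id _).symm.trans (Over.w T.hom)).symm) : (Over.iteratedSliceForward pt).obj T ⟶ T.left) ≫ g
          left_inv := fun a => Over.OverMorphism.ext ((Category.id_comp _).trans (Category.id_comp _))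
          right_inv := fun g => Over.OverMorphism.ext ((Category.id_comp _).trans (Category.id_comp _))
          map_mul' := fun a b => MonObj.comp_mul _ a b })
      (autEquiv G T.hom)
  natural {T' T} h a := AlgSt.QuotObj.hom_ext
    (show (ptSecHom G _ _).base ≫ h.left = h.left ≫ (ptSecHom G _ _).base by
      rw [ptSecHom_base, ptSecHom_base]
      exact (Category.id_comp _).trans (Category.comp_id _).symm) (by
    show (ptSecHom G _ _).top ≫ (G ◁ h.left) = (G ◁ h.left) ≫ (ptSecHom G _ _).top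
    rw [← whisker_ptSecHom G T.hom T'.hom h.left, GrpObj.comp_inv]
    refine congrArg (fun g => (ptSecHom G T'.hom g⁻¹).top ≫ (G ◁ h.left)) ?_
    refine Over.OverMorphism.ext ?_
    simp
    rfl)

end Groth.Agent.AlgStkX
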