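import Groth.Agent.AlgStkX.AutCompare
import Groth.Agent.AlgStkX.BGGerbe
import Groth.Agent.AlgStkX.AffineTorsor

/-!
# The functor `BG ⟶ 𝒳` attached to a point of a stack with automorphism group `G`
-/

set_option autoImplicit false
set_option backward.isDefEq.respectTransparency false
set_option backward.isDefEq.respectTransparency.types false

universe u

open CategoryTheory CategoryTheory.Functor CategoryTheory.Limits MonoidalCategory CartesianMonoidalCategory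
  AlgebraicGeometry Opposite

namespace Groth.Agent.AlgStkX

open Groth.Agent.FibBase Groth.Agent.QuotLib StackExtend AutCompare

variable {S : Scheme.{u}} (G : Over S) [GrpObj G] [IsAffineHom G.hom]

local notation "K₀" => Scheme.fppfPrecoverage
local notation "pt" => (Over.mk (𝟙 S) : Over S)

theorem hom_pt_eq {V : Over S} (a b : V ⟶ pt) : a = b := Over.mkIdTerminal.hom_ext a b

/-- `BG` is fibred in groupoids. -/
theorem bg_isFibGrpd : FibCat.IsFibGrpd (AlgSt.BG K₀ G).p := (isStack_quotSt (AlgSt.trivAction G)).1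

omit [IsAffineHom G.hom] in
/-- Every torsor is locally trivial. -/
theorem bg_locSurjObj : Gerb.LocSurjObj (QuotSh.J K₀ S) (incl (bgPoint G)) := fun A => by
  obtain ⟨R, hR, hsec⟩ := exists_sieve_sections A
  refine ⟨R, hR, fun V f hf => ?_⟩
  obtain ⟨b, hb⟩ := hsec f hf
  let a : Over pt := Over.mk (Over.mkIdTerminal.from V)
  let g : (bgPoint G).obj a ⟶ A := trivHom A b a.hom (toUnit_unique _ _)
  exact ⟨a, g, IsHomLift.of_fac' (AlgSt.BG K₀ G).p f g rfl rfl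
    (hb.trans ((Category.comp_id _).trans (Category.id_comp _)).symm)⟩

instance : (incl (bgPoint G)).toFunctor.Full := InducedCategory.full _

instance : (incl (bgPoint G)).toFunctor.Faithful := InducedCategory.faithful _

variable {G} {𝒳 : AlgSt.Cat S}

/-- The functor on trivial torsors. -/
noncomputable def bgPre (x : FibCat.overCat pt ⥤ᵇ 𝒳) (r : Gerb.AutRep x (Gerb.ptsGrp pt G)) : Img (bgPoint G) ⥤ᵇ 𝒳 :=
  AutCompare.compare (bg_isFibGrpd G) hom_pt_eq (bgAutRep G) x r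

/-- The classifying functor of a point. -/
noncomputable def bgExtend (h𝒳 : Stk.IsStack (QuotSh.J K₀ S) 𝒳) (x : FibCat.overCat pt ⥤ᵇ 𝒳) (r : Gerb.AutRep x (Gerb.ptsGrp pt G)) : AlgSt.BG K₀ G ⥤ᵇ 𝒳 :=
  StackExtend.extend (i := incl (bgPoint G)) (bg_isFibGrpd G) (img_isFibGrpd (bg_isFibGrpd G)) (bg_locSurjObj G) h𝒳
    (bgPre x r)

/-- It extends the functor on trivial torsors. -/
noncomputable def bgExtendIso (h𝒳 : Stk.IsStack (QuotSh.J K₀ S) 𝒳) (x : FibCat.overCat pt ⥤ᵇ 𝒳) (r : Gerb.AutRep x (Gerb.ptsGrp pt G)) : bgPre x r ≅ BasedFunctor.comp (incl (bgPoint G)) (bgExtend h𝒳 x r) :=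
  StackExtend.extendIso (i := incl (bgPoint G)) (bg_isFibGrpd G) (img_isFibGrpd (bg_isFibGrpd G)) (bg_locSurjObj G)
    h𝒳 (bgPre x r)

/-- It is fully faithful on trivial torsors. -/
theorem comp_bgExtend_ff (h𝒳 : Stk.IsStack (QuotSh.J K₀ S) 𝒳) (x : FibCat.overCat pt ⥤ᵇ 𝒳) (r : Gerb.AutRep x (Gerb.ptsGrp pt G)) : (BasedFunctor.comp (incl (bgPoint G)) (bgExtend h𝒳 x r)).toFunctor.Full ∧
    (BasedFunctor.comp (incl (bgPoint G)) (bgExtend h𝒳 x r)).toFunctor.Faithful := by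
  obtain ⟨h1, h2⟩ := compare_full_faithful (bg_isFibGrpd G) hom_pt_eq (bgAutRep G) x r h𝒳.1
  have : ((BasedNatTrans.forgetful (Img (bgPoint G)) 𝒳).obj (bgPre x r)).Full := h1
  have : ((BasedNatTrans.forgetful (Img (bgPoint G)) 𝒳).obj (bgPre x r)).Faithful := h2
  let e := (BasedNatTrans.forgetful (Img (bgPoint G)) 𝒳).mapIso (bgExtendIso h𝒳 x r)
  exact ⟨Functor.Full.of_iso e, Functor.Faithful.of_iso e⟩

/-- It is fully faithful. -/
theorem bgExtend_ff (h𝒳 : Stk.IsStack (QuotSh.J K₀ S) 𝒳) (x : FibCat.overCat pt ⥤ᵇ 𝒳) (r : Gerb.AutRep x (Gerb.ptsGrp pt G)) : (bgExtend h𝒳 x r).toFunctor.Full ∧ (bgExtend h𝒳 x r).toFunctor.Faithful := by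
  obtain ⟨_, _⟩ := comp_bgExtend_ff h𝒳 x r
  exact StackExtend.full_faithful_of_comp (i := incl (bgPoint G)) (bg_isFibGrpd G) (img_isFibGrpd (bg_isFibGrpd G))
    (bg_locSurjObj G) h𝒳 _ (isStack_quotSt (AlgSt.trivAction G))

/-- It is an equivalence when `𝒳` is a gerbe with that point as a section. -/
theorem bgExtend_isEquivOver (h𝒳 : Stk.IsStack (QuotSh.J K₀ S) 𝒳) (x : FibCat.overCat pt ⥤ᵇ 𝒳) (r : Gerb.AutRep x (Gerb.ptsGrp pt G)) {π : 𝒳 ⥤ᵇ FibCat.overCat pt} (hπ : Gerb.IsGerbeOver (QuotSh.J K₀ S) π) :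
    FibCat.IsEquivOver (bgExtend h𝒳 x r) := by
  obtain ⟨_, _⟩ := comp_bgExtend_ff h𝒳 x r
  refine StackExtend.isEquivOver_of_comp (i := incl (bgPoint G)) (bg_isFibGrpd G) (img_isFibGrpd (bg_isFibGrpd G))
    (bg_locSurjObj G) h𝒳 _ (isStack_quotSt (AlgSt.trivAction G)) fun ξ => ?_
  let T : Over S := 𝒳.p.obj ξ
  let a : Over pt := Over.mk (Over.mkIdTerminal.from T)
  have ha : 𝒳.p.obj (x.obj a) = T := x.w_obj a
  have e1 : (π.obj (x.obj a)).left = T := (π.w_obj _).trans ha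
  have e2 : (π.obj ξ).left = T := π.w_obj ξ
  let b : π.obj (x.obj a) ⟶ π.obj ξ := Over.homMk (eqToHom (e1.trans e2.symm)) (hom_pt_eq _ _)
  have hbl : (FibCat.overCat pt).p.IsHomLift (𝟙 (𝒳.p.obj (x.obj a))) b :=
    IsHomLift.of_fac' _ _ b (π.w_obj _) (e2.trans ha.symm) (by
      show eqToHom (e1.trans e2.symm) = _
      simp)
  obtain ⟨R, hR, hloc⟩ := hπ.2 (x.obj a) ξ b hbl
  refine ⟨R.pullback (eqToHom ha.symm), (QuotSh.J K₀ S).pullback_stable _ hR, fun V f hf => ?_⟩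
  obtain ⟨x₀, φ, ψ, hφ, hψ, -⟩ := hloc (f ≫ eqToHom ha.symm) hf
  let a' : Over pt := Over.mk (Over.mkIdTerminal.from V)
  let t : a' ⟶ a := Over.homMk f (hom_pt_eq _ _)
  have h1 : 𝒳.p.IsHomLift f (x.map t) := overMap_isHomLift x t
  have lift : ∀ {z : 𝒳.obj} (hz : 𝒳.p.obj z = T) (θ : x₀ ⟶ z), 𝒳.p.IsHomLift (f ≫ eqToHom ha.symm) θ →
      𝒳.p.IsHomLift f θ := fun hz θ h => IsHomLift.of_fac' _ f θ
    (IsHomLift.domain_eq 𝒳.p (f ≫ eqToHom ha.symm) θ) hz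
    (by rw [IsHomLift.fac' 𝒳.p (f ≫ eqToHom ha.symm) θ]; simp)
  have hφ' : 𝒳.p.IsHomLift f φ := lift ha φ hφ
  have hψ' : 𝒳.p.IsHomLift f ψ := lift rfl ψ hψ
  have := isSC (hp := h𝒳.1) f φ
  let s := IsCartesian.map 𝒳.p f φ (x.map t)
  let u := (isoApp (bgExtendIso h𝒳 x r) a').inv
  have hu : 𝒳.p.IsHomLift (𝟙 V) u :=
    isHomLift_id_congr (rfl : V = V) (BasedNatTrans.isHomLift (bgExtendIso h𝒳 x r).inv
      (show (Img (bgPoint G)).p.obj a' = V from rfl))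
  refine ⟨a', u ≫ s ≫ ψ, ?_⟩
  have : 𝒳.p.IsHomLift f (s ≫ ψ) := IsHomLift.comp_lift_id_left' 𝒳.p V s f ψ
  exact IsHomLift.comp_lift_id_left' 𝒳.p V u f _

/-- It sends the trivial torsor to the point. -/
noncomputable def bgPointExtendIso (h𝒳 : Stk.IsStack (QuotSh.J K₀ S) 𝒳) (x : FibCat.overCat pt ⥤ᵇ 𝒳)
    (r : Gerb.AutRep x (Gerb.ptsGrp pt G)) : BasedFunctor.comp (bgPoint G) (bgExtend h𝒳 x r) ≅ x :=
  (whiskerLeftIso (toImg (y := bgPoint G)) (bgExtendIso h𝒳 x r)).symm ≪≫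
    toImgCompareIso (bg_isFibGrpd G) hom_pt_eq (bgAutRep G) x r

end Groth.Agent.AlgStkX
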