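import Groth.Agent.AlgStkX.TrivCalc
import Groth.Agent.AlgStkX.AutCompare
import Groth.Agent.AlgStkX.AffineTorsor
import Groth.Agent.QuotLib.Atlas

/-!
# Change of group for quotient stacks

For a homomorphism `i : H ⟶ G` and a map `φ : Z ⟶ Y` equivariant along `i`, the functor `[Z/H] ⟶ [Y/G]`
and a criterion for it to be an equivalence.
-/

set_option autoImplicit false
set_option backward.isDefEq.respectTransparency false
set_option backward.isDefEq.respectTransparency.types false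

universe u

open CategoryTheory CategoryTheory.Functor CategoryTheory.Limits MonoidalCategory CartesianMonoidalCategory MonObj
  GrpObj AlgebraicGeometry

namespace Groth.Agent.AlgStkX.ChangeGroup

open Groth.Agent.FibBase Groth.Agent.QuotLib StackExtend AutCompare

variable {S : Scheme.{u}}

local notation "K₀" => Scheme.fppfPrecoverage

variable (H : Over S) [GrpObj H] {Z : Over S} (aZ : AlgGrp.Action H Z)

/-- The trivial torsors inside `[Z/H]`. -/
noncomputable abbrev Triv := Img (quotOver K₀ H aZ)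

instance : (incl (quotOver K₀ H aZ)).toFunctor.Full := InducedCategory.full _

instance : (incl (quotOver K₀ H aZ)).toFunctor.Faithful := InducedCategory.faithful _

/-- Every torsor is locally trivial. -/
theorem triv_locSurjObj : Gerb.LocSurjObj (QuotSh.J K₀ S) (incl (quotOver K₀ H aZ)) := fun A => by
  obtain ⟨R, hR, hsec⟩ := exists_sieve_lift A.π A.loc (𝟙 A.base)
  refine ⟨R, hR, fun V f hf => ?_⟩
  obtain ⟨b, hb⟩ := hsec f hf
  rw [Category.comp_id] at hb
  let a : Over Z := Over.mk (b ≫ A.φ)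
  let g : (quotOver K₀ H aZ).obj a ⟶ A := trivHom A b (b ≫ A.φ) rfl
  exact ⟨a, g, IsHomLift.of_fac' (AlgSt.QuotSt K₀ H aZ).p f g rfl rfl
    (hb.trans ((Category.comp_id _).trans (Category.id_comp _)).symm)⟩

variable {H aZ} {G : Over S} [GrpObj G] {Y : Over S} (aY : AlgGrp.Action G Y) (i : H ⟶ G) [IsMonHom i] (φ : Z ⟶ Y)
  (heq : ∀ {T : Over S} (h : T ⟶ H) (z : T ⟶ Z), lift (h ≫ i) (z ≫ φ) ≫ aY.act = (lift h z ≫ aZ.act) ≫ φ)

include heq in
theorem push_cond {T T' : Over S} {z : T ⟶ Z} {z' : T' ⟶ Z} (m : triv K₀ H aZ z ⟶ triv K₀ H aZ z') :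
    lift (gOf m ≫ i) (bOf m ≫ z' ≫ φ) ≫ aY.act = z ≫ φ := by
  rw [← Category.assoc (bOf m), heq, lift_gOf_act]

/-- The image of a morphism of trivial torsors. -/
noncomputable def push {T T' : Over S} {z : T ⟶ Z} {z' : T' ⟶ Z} (m : triv K₀ H aZ z ⟶ triv K₀ H aZ z') :
    triv K₀ G aY (z ≫ φ) ⟶ triv K₀ G aY (z' ≫ φ) :=
  mor (z ≫ φ) (z' ≫ φ) (gOf m ≫ i) (bOf m) (push_cond aY i φ heq m)

theorem bOf_push {T T' : Over S} {z : T ⟶ Z} {z' : T' ⟶ Z} (m : triv K₀ H aZ z ⟶ triv K₀ H aZ z') :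
    bOf (push aY i φ heq m) = bOf m := mor_base _ _ _ _ _

theorem gOf_push {T T' : Over S} {z : T ⟶ Z} {z' : T' ⟶ Z} (m : triv K₀ H aZ z ⟶ triv K₀ H aZ z') :
    gOf (push aY i φ heq m) = gOf m ≫ i := gOf_mor _ _ _ _ _

theorem push_id {T : Over S} (z : T ⟶ Z) : push aY i φ heq (𝟙 (triv K₀ H aZ z)) = 𝟙 _ := by
  refine mor_ext (bOf_push aY i φ heq _) ?_
  rw [gOf_push, gOf_id, gOf_id, MonObj.one_comp]

theorem push_comp {T T' T'' : Over S} {z : T ⟶ Z} {z' : T' ⟶ Z} {z'' : T'' ⟶ Z}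
    (m : triv K₀ H aZ z ⟶ triv K₀ H aZ z') (m' : triv K₀ H aZ z' ⟶ triv K₀ H aZ z'') :
    push aY i φ heq (m ≫ m') = push aY i φ heq m ≫ push aY i φ heq m' := by
  refine mor_ext ?_ ?_
  · show _ = bOf (push aY i φ heq m) ≫ bOf (push aY i φ heq m')
    rw [bOf_push, bOf_push, bOf_push]
    rfl
  · rw [gOf_push, gOf_comp, gOf_comp, gOf_push, gOf_push, bOf_push, MonObj.mul_comp, Category.assoc]

/-- The change of group functor on trivial torsors. -/
noncomputable def pre : Triv H aZ ⥤ᵇ AlgSt.QuotSt K₀ G aY where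
  toFunctor :=
    { obj := fun a => triv K₀ G aY ((a : Over Z).hom ≫ φ)
      map := fun {a b} m => push aY i φ heq m.hom
      map_id := fun a => push_id aY i φ heq _
      map_comp := fun m m' => push_comp aY i φ heq m.hom m'.hom }
  w := CategoryTheory.Functor.ext (fun a => rfl) fun a b m => by
    refine (bOf_push aY i φ heq m.hom).trans ?_
    exact ((Category.comp_id _).trans rfl).symm.trans (Category.id_comp _).symm

variable (hinj : ∀ {T : Over S} (h h' : T ⟶ H), h ≫ i = h' ≫ i → h = h')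
  (hfree : ∀ {T : Over S} (g : T ⟶ G) (z z' : T ⟶ Z), lift g (z ≫ φ) ≫ aY.act = z' ≫ φ →
    ∃ h : T ⟶ H, h ≫ i = g ∧ lift h z ≫ aZ.act = z')

include hinj hfree in
theorem pre_full_faithful : (pre aY i φ heq).toFunctor.Full ∧ (pre aY i φ heq).toFunctor.Faithful := by
  refine ⟨⟨fun {a b} n => ?_⟩, ⟨fun {a b} m m' e => ?_⟩⟩
  · have hn := lift_gOf_act n
    rw [← Category.assoc] at hn
    obtain ⟨h, h1, h2⟩ := hfree (gOf n) (bOf n ≫ (b : Over Z).hom) (a : Over Z).hom hn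
    let m := mor (K := K₀) (aX := aZ) (a : Over Z).hom (b : Over Z).hom h (bOf n) h2
    refine ⟨InducedCategory.homMk m, ?_⟩
    show push aY i φ heq m = n
    exact mor_ext ((bOf_push aY i φ heq m).trans (mor_base _ _ _ _ _))
      ((gOf_push aY i φ heq m).trans (by rw [gOf_mor, h1]))
  · have e' : push aY i φ heq m.hom = push aY i φ heq m'.hom := e
    refine InducedCategory.hom_ext (mor_ext ?_ ?_)
    · have := congrArg bOf e'
      rwa [bOf_push, bOf_push] at this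
    · have := congrArg gOf e'
      rw [gOf_push, gOf_push] at this
      exact hinj _ _ this

variable (hsurj : ∀ {T : Over S} (t : T ⟶ Y), ∃ R ∈ QuotSh.J K₀ S T, ∀ ⦃V : Over S⦄ (f : V ⟶ T), R.arrows f →
    ∃ (g : V ⟶ G) (z : V ⟶ Z), lift g (z ≫ φ) ≫ aY.act = f ≫ t)

include hsurj in
theorem pre_locSurjObj : Gerb.LocSurjObj (QuotSh.J K₀ S) (pre aY i φ heq) := fun A => by
  obtain ⟨R₁, hR₁, hsec⟩ := exists_sieve_lift A.π A.loc (𝟙 A.base)
  choose b hb using hsec
  choose R₂ hR₂ hloc using fun {V : Over S} (f : V ⟶ A.base) (hf : R₁.arrows f) => hsurj (b f hf ≫ A.φ)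
  refine ⟨Sieve.bind R₁.arrows fun V f hf => R₂ f hf,
    GrothendieckTopology.bind_covering _ hR₁ fun V f hf => hR₂ f hf, ?_⟩
  rintro W _ ⟨V, f', f, hf, hf', rfl⟩
  obtain ⟨g, z, hg⟩ := hloc f hf f' hf'
  let a : Over Z := Over.mk z
  let β : W ⟶ A.P := lift g⁻¹ (f' ≫ b f hf) ≫ A.act.act
  have hφ : β ≫ A.φ = z ≫ φ := by
    rw [Category.assoc, A.eqv, lift_whiskerLeft_assoc, Category.assoc, ← hg, ← AlgGrp.Action.lift_mul_act,
      inv_mul_cancel, AlgGrp.Action.lift_one_act]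
  have hπ : β ≫ A.π = f' ≫ f := by
    rw [Category.assoc, A.cart.w, lift_snd_assoc, Category.assoc, hb f hf, Category.comp_id]
  let n : (pre aY i φ heq).obj a ⟶ A := trivHom A β (z ≫ φ) hφ
  exact ⟨a, n, IsHomLift.of_fac' (AlgSt.QuotSt K₀ G aY).p (f' ≫ f) n rfl rfl
    (hπ.trans ((Category.comp_id _).trans (Category.id_comp _)).symm)⟩

include hinj hfree hsurj heq in
/-- The change of group functor is an equivalence. -/
theorem isQuotientOf [IsAffineHom H.hom] [IsAffineHom G.hom] :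
    AlgSt.IsQuotientOf K₀ H aZ (AlgSt.QuotSt K₀ G aY) := by
  have hZ := isStack_quotSt aZ
  have hY := isStack_quotSt aY
  have hP := img_isFibGrpd (y := quotOver K₀ H aZ) hZ.1
  let E := StackExtend.extend (i := incl (quotOver K₀ H aZ)) hZ.1 hP (triv_locSurjObj H aZ) hY (pre aY i φ heq)
  let e := StackExtend.extendIso (i := incl (quotOver K₀ H aZ)) hZ.1 hP (triv_locSurjObj H aZ) hY (pre aY i φ heq)
  obtain ⟨h1, h2⟩ := pre_full_faithful aY i φ heq hinj hfree
  have : ((BasedNatTrans.forgetful (Triv H aZ) (AlgSt.QuotSt K₀ G aY)).obj (pre aY i φ heq)).Full := h1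
  have : ((BasedNatTrans.forgetful (Triv H aZ) (AlgSt.QuotSt K₀ G aY)).obj (pre aY i φ heq)).Faithful := h2
  let e₀ := (BasedNatTrans.forgetful (Triv H aZ) (AlgSt.QuotSt K₀ G aY)).mapIso e
  have : (BasedFunctor.comp (incl (quotOver K₀ H aZ)) E).toFunctor.Full := Functor.Full.of_iso e₀
  have : (BasedFunctor.comp (incl (quotOver K₀ H aZ)) E).toFunctor.Faithful := Functor.Faithful.of_iso e₀
  refine ⟨E, StackExtend.isEquivOver_of_comp (i := incl (quotOver K₀ H aZ)) hZ.1 hP (triv_locSurjObj H aZ) hY E hZ ?_⟩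
  intro A
  obtain ⟨R, hR, h⟩ := pre_locSurjObj aY i φ heq hsurj A
  refine ⟨R, hR, fun V f hf => ?_⟩
  obtain ⟨a, n, hn⟩ := h f hf
  have hV : (Triv H aZ).p.obj a = V :=
    ((pre aY i φ heq).w_obj a).symm.trans (IsHomLift.domain_eq (AlgSt.QuotSt K₀ G aY).p f n)
  have : (AlgSt.QuotSt K₀ G aY).p.IsHomLift (𝟙 V) (isoApp e a).inv := BasedNatTrans.isHomLift e.inv hV
  exact ⟨a, (isoApp e a).inv ≫ n, IsHomLift.comp_lift_id_left' (AlgSt.QuotSt K₀ G aY).p V _ f n⟩

end Groth.Agent.AlgStkX.ChangeGroup
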