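import Groth.Agent.AlgStLib.SmoothBootstrap
import Groth.Agent.AlgStLib.Bootstrap
import Groth.Agent.AlgStLib.FppfSite
import Groth.Agent.AlgSpDec.SpQuot
import Groth.Agent.AlgSpDec.FppfFamily
import Groth.Agent.AlgSpLib.Covers

/-!
# fppf descent of representability by algebraic spaces, without algebraicity hypotheses
-/

set_option backward.isDefEq.respectTransparency false
set_option backward.isDefEq.respectTransparency.types false

universe u

open CategoryTheory CategoryTheory.Functor CategoryTheory.Limits AlgebraicGeometry Opposite AlgSp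

namespace Groth.Agent.AlgStkX

open Groth.Agent.FibBase Groth.Agent.AlgStLib Groth.Agent.AlgSpLib

variable {S : Scheme.{u}} {𝒳 𝒴 𝒵 : AlgSt.Cat S}

/-- A stack in setoids over a scheme is an algebraic space once its base changes along an fppf covering family
are. -/
theorem repByAlgSp_of_fppf_locally (h𝒵 : Stk.IsStack (J S) 𝒵) (hs : FibCat.IsFibSetoid 𝒵.p) {U : Over S}
    (q : 𝒵 ⥤ᵇ FibCat.overCat U) {ι : Type u} (V : ι → Over S) (v : ∀ i, V i ⟶ U)
    (hvf : ∀ i, Flat (v i).left) (hvp : ∀ i, LocallyOfFinitePresentation (v i).left)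
    (hvs : ∀ x : U.left, ∃ i, x ∈ Set.range (v i).left)
    (h : ∀ i, AlgSt.RepByAlgSp (FibCat.fp (AlgSt.overMap (v i)) q)) : AlgSt.RepByAlgSp 𝒵 := by
  let P := clsPsh 𝒵 hs.1
  obtain ⟨e, he, -⟩ := isEquivOver_inv (toCls_isEquivOver 𝒵 hs.1 hs)
  have hP : Presheaf.IsSheaf (J S) P := (isSheaf_iff_isSheaf_of_type _ _).2
    ((StkLib.isStack_ofPsh_iff P (J S)).1 ((StkLib.isStack_iff_of_isEquivOver (J := J S) he).2 h𝒵))
  let F : Sp S := ⟨P, hP⟩
  let q' : 𝒵 ⥤ᵇ AlgSt.ofSch U := BasedFunctor.comp q (AlgSt.ofOverCat U)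
  let a' : P ⟶ (pyon S).obj U := pshMap (BasedFunctor.comp e q')
  let a : F ⟶ (yon S).obj U := ObjectProperty.homMk a'
  let i : BasedFunctor.comp e q' ≅ Stk.ofPshMap a' := isoOfPshMap _
  have := full_of_isEquivOver (isEquivOver_toOverCat U)
  have := faithful_of_isEquivOver (isEquivOver_toOverCat U)
  have key : ∀ k, IsAlgSpace (pullback a ((yon S).map (v k))) := fun k => by
    have sq := (IsPullback.of_hasPullback a ((yon S).map (v k))).map (sheafToPresheaf (J S) _)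
    let m := fpMap (F := AlgSt.overMap (v k)) (G := q)
      (F' := BasedFunctor.comp (AlgSt.ofOverCat (V k)) (Stk.ofPshMap ((yon S).map (v k)).hom)) (G' := q')
      (a := BasedFunctor.id _) (b := BasedFunctor.id _) (c := AlgSt.toOverCat U)
      (overMapIso (v k)).symm (whiskerLeftIso q (ofOverCatIso U))
    let E : AlgSt.ofSp (pullback a ((yon S).map (v k))) ⥤ᵇ FibCat.fp (AlgSt.overMap (v k)) q :=
      BasedFunctor.comp (compare q' e i sq) m
    have hE : FibCat.IsEquivOver E :=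
      isEquivOver_comp (compare_isEquivOver q' e i he sq) (fpMap_isEquivOver _ _ isEquivOver_id isEquivOver_id)
    obtain ⟨W, w, hw⟩ := h k
    obtain ⟨g, hg, -⟩ := isEquivOver_inv hE
    have := isIso_spHom (Φ := BasedFunctor.comp w g) (isEquivOver_comp hw hg)
    exact W.property.of_iso (asIso (spHom (BasedFunctor.comp w g)))
  have hF : IsAlgSpace F := AlgSpDec.isAlgSpace_of_fppf_local (IsAlgSpace.yon_obj U)
    (fun k => IsAlgSpace.yon_obj (V k)) _ (isFppfCover_yon_map V v hvf hvp hvs) a key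
  exact ⟨⟨F, hF⟩, e, he⟩

/-- A faithful functor of stacks is representable once its base change along a locally essentially surjective
functor is. -/
theorem repByAlgSp1_of_locEssSurj (h𝒳 : Stk.IsStack (J S) 𝒳) (h𝒴 : Stk.IsStack (J S) 𝒴) {f : 𝒳 ⥤ᵇ 𝒴}
    [f.toFunctor.Faithful] {g : 𝒵 ⥤ᵇ 𝒴} (hg : LocEssSurj g)
    (h : AlgSt.RepByAlgSp1 (FibCat.fpFst g f)) : AlgSt.RepByAlgSp1 f := fun U y => by
  have hst : Stk.IsStack (J S) (FibCat.fp y f) := Groth.Agent.StkLib.isStack_fp y f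
    (isStack_of_repByAlgSp (repByAlgSp_overCat U)) h𝒳 (Groth.Agent.StkLib.isPrestack_of_isStack h𝒴)
  have hset : FibCat.IsFibSetoid (FibCat.fp y f).p := isFibSetoid_iff.2 ⟨hst.1, faithful_fp y⟩
  obtain ⟨R, hR, hz⟩ := hg U y
  obtain ⟨ι, V, v, hvf, hvp, hvs, hvR⟩ := exists_fppf_of_mem_J (show R ∈ J S U from hR)
  refine repByAlgSp_of_fppf_locally hst hset (FibCat.fpFst y f) V v hvf hvp hvs fun k => ?_
  obtain ⟨z, ⟨iz⟩⟩ := hz (v k) (hvR k)
  have key : AlgSt.RepByAlgSp (FibCat.fp (BasedFunctor.comp z g) f) :=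
    repByAlgSp_of_equiv _ (pasteVert_isEquivOver z g f) (h (V k) z)
  have key₂ : AlgSt.RepByAlgSp (FibCat.fp (BasedFunctor.comp (AlgSt.overMap (v k)) y) f) :=
    repByAlgSp_of_equiv _ (fpMap_isEquivOver (F := BasedFunctor.comp (AlgSt.overMap (v k)) y) (G := f)
      (F' := BasedFunctor.comp z g) (G' := f) (a := BasedFunctor.id _) (b := BasedFunctor.id _)
      (c := BasedFunctor.id _) iz.symm (Iso.refl _) isEquivOver_id isEquivOver_id) key
  exact (repByAlgSp_iff_of_equiv _ (pasteVert_isEquivOver (AlgSt.overMap (v k)) y f)).2 key₂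

/-- A stack in setoids with an fppf cover by an algebraic space, representable by algebraic spaces, is an
algebraic space. -/
theorem repByAlgSp_of_fppf_cover (h𝒳 : Stk.IsStack (J S) 𝒳) (hs : FibCat.IsFibSetoid 𝒳.p) {X : Sp S}
    (hX : IsAlgSpace X) (x : AlgSt.ofSp X ⥤ᵇ 𝒳) (hx₁ : AlgSt.RepByAlgSpWith (LocP @Flat) x)
    (hx₂ : AlgSt.RepByAlgSpWith (LocP @LocallyOfFinitePresentation) x)
    (hx₃ : AlgSt.RepByAlgSpWith IsSurjectiveMor x) : AlgSt.RepByAlgSp 𝒳 := by
  let P := clsPsh 𝒳 hs.1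
  have he : FibCat.IsEquivOver (toCls 𝒳 hs.1) := toCls_isEquivOver 𝒳 hs.1 hs
  have hP : Presheaf.IsSheaf (J S) P := (isSheaf_iff_isSheaf_of_type _ _).2
    ((StkLib.isStack_ofPsh_iff P (J S)).1 ((StkLib.isStack_iff_of_isEquivOver (J := J S) he).1 h𝒳))
  let F : Sp S := ⟨P, hP⟩
  let Φ : AlgSt.ofSp X ⥤ᵇ AlgSt.ofSp F := BasedFunctor.comp x (toCls 𝒳 hs.1)
  let p : X ⟶ F := spHom Φ
  have i : Φ ≅ AlgSt.ofSpMap p := isoOfSpMap Φ
  have := full_of_isEquivOver he
  have := faithful_of_isEquivOver he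
  have hid : FibCat.IsEquivOver (BasedFunctor.id (AlgSt.ofSp X)) := isEquivOver_id
  let i' : BasedFunctor.comp (BasedFunctor.id _) x ≅ x := Iso.refl _
  have hp : RepBySpWith (IsSurjectiveMor ⊓ LocP @Flat ⊓ LocP @LocallyOfFinitePresentation) p.hom :=
    fun T ξ F' fst snd sq => by
      have conv : ∀ {Q : MorphismProperty (Sp S)}, StableBC Q → AlgSt.RepByAlgSpWith Q x →
          RepBySpWith Q p.hom := fun {Q} hQ hxQ => by
        have h1 : AlgSt.RepByAlgSpWith Q Φ :=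
          (repByAlgSpWith_iff_of_square (f := Φ) (f' := x) (a := BasedFunctor.id _) (b := toCls 𝒳 hs.1)
            hid he (Iso.refl _)).2 hxQ
        exact fun T ξ F' fst snd sq => repBySpWith_of_repByAlgSpWith Φ (BasedFunctor.id _) hQ hid h1 i ξ fst snd sq
      obtain ⟨h₁, hA, hf⟩ := conv stableBC_locP hx₁ ξ fst snd sq
      obtain ⟨h₂, hA₂, hl⟩ := conv stableBC_locP hx₂ ξ fst snd sq
      obtain ⟨h₃, hA₃, hj⟩ := conv stableBC_isSurjectiveMor hx₃ ξ fst snd sq
      exact ⟨h₁, hA, ⟨hj, hf⟩, hl⟩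
  have hF : IsAlgSpace F := AlgSpDec.isAlgSpace_of_fppf_space_cover hX hp
  obtain ⟨g, hg, -⟩ := isEquivOver_inv he
  exact ⟨⟨F, hF⟩, g, hg⟩

end Groth.Agent.AlgStkX
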