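import Groth.Agent.AlgStLib.OpenSubChart
import Groth.Agent.AlgStLib.LocQCalc
import Groth.Agent.SrcDescent.LocalAtSource

/-!
# Open substacks on which a morphism is smooth
-/

set_option autoImplicit false
set_option backward.isDefEq.respectTransparency false
set_option backward.isDefEq.respectTransparency.types false

universe u

open CategoryTheory CategoryTheory.Functor CategoryTheory.Limits AlgebraicGeometry Opposite AlgSp

namespace Groth.Agent.AlgStkX.SmoothOpen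

open Groth.Agent.FibBase Groth.Agent.AlgSpLib Groth.Agent.AlgStLib

variable {S : Scheme.{u}} {𝒳 𝒴 : AlgSt.Cat S}

local notation "K₀" => Scheme.fppfPrecoverage

/-- The largest open on which a morphism of schemes is smooth. -/
def smOpen {X Y : Scheme.{u}} (h : X ⟶ Y) : X.Opens := sSup {V : X.Opens | Smooth (V.ι ≫ h)}

theorem le_smOpen {X Y : Scheme.{u}} {h : X ⟶ Y} {V : X.Opens} (hV : Smooth (V.ι ≫ h)) : V ≤ smOpen h :=
  le_sSup hV

theorem smooth_smOpen {X Y : Scheme.{u}} (h : X ⟶ Y) : Smooth ((smOpen h).ι ≫ h) := by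
  let s := {V : X.Opens | Smooth (V.ι ≫ h)}
  let O : X.Opens := smOpen h
  refine IsZariskiLocalAtSource.of_iSup_eq_top (P := @Smooth)
    (fun V : s => O.ι ⁻¹ᵁ V.1) ?_ fun V => ?_
  · refine top_le_iff.1 fun z _ => ?_
    obtain ⟨V, hV, hz⟩ := TopologicalSpace.Opens.mem_sSup.1 z.2
    exact TopologicalSpace.Opens.mem_iSup.2 ⟨⟨V, hV⟩, hz⟩
  · let W := O.ι ⁻¹ᵁ V.1
    have hV : Smooth (V.1.ι ≫ h) := V.2
    have hr : Set.range (W.ι ≫ O.ι) ⊆ Set.range V.1.ι := by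
      rintro _ ⟨w, rfl⟩
      rw [Scheme.Opens.range_ι]
      exact w.2
    let k := IsOpenImmersion.lift V.1.ι (W.ι ≫ O.ι) hr
    have hk : k ≫ V.1.ι = W.ι ≫ O.ι := IsOpenImmersion.lift_fac _ _ _
    have : IsOpenImmersion (k ≫ V.1.ι) := by rw [hk]; infer_instance
    have : IsOpenImmersion k := IsOpenImmersion.of_comp k V.1.ι
    show Smooth (W.ι ≫ O.ι ≫ h)
    rw [← Category.assoc, ← hk, Category.assoc]
    infer_instance

/-- The inverse image of an open set of points in a chart. -/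
def chartOpen (h𝒳 : AlgSt.IsAlgStack K₀ 𝒳) {U : Over S} (x : FibCat.overCat U ⥤ᵇ 𝒳)
    {T : Set (AlgSt.Points 𝒳)} (hT : IsOpen T) : U.left.Opens :=
  ⟨AlgSt.Points.ofChart x ⁻¹' T, hT.preimage (continuous_ofChart h𝒳.isStack.1 h𝒳.atlas x)⟩

/-- The inclusion of an open of a chart. -/
abbrev openHom {U : Over S} (V : U.left.Opens) : Over.mk (V.ι ≫ U.hom) ⟶ U := Over.homMk V.ι rfl

theorem smooth_openHom {U : Over S} (V : U.left.Opens) : LocP @Smooth ((yon S).map (openHom V)) :=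
  locP_of_repWith ((repWith_yon_map_iff _ _).2 (inferInstanceAs (Smooth V.ι)))

section Chart

variable {U : Over S} (x : FibCat.overCat U ⥤ᵇ 𝒳) (V : U.left.Opens) (T : Set (AlgSt.Points 𝒳))

/-- A chart restricted to an open landing in an open substack. -/
theorem exists_restrict (h𝒳 : AlgSt.IsAlgStack K₀ 𝒳) (hT : IsOpen T)
    (hx : AlgSt.RepByAlgSpWith (LocP @Smooth) x) (hV : ∀ v ∈ V, AlgSt.Points.ofChart x v ∈ T) :
    ∃ g : FibCat.overCat (Over.mk (V.ι ≫ U.hom)) ⥤ᵇ AlgSt.fullSub 𝒳 (PtsIn T),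
      AlgSt.RepByAlgSpWith (LocP @Smooth) g ∧
      Nonempty (BasedFunctor.comp g (AlgSt.subIncl 𝒳 (PtsIn T)) ≅ BasedFunctor.comp (AlgSt.overMap (openHom V)) x) := by
  have hmem : ∀ c : Over (Over.mk (V.ι ≫ U.hom)), PtsIn T (x.obj ((AlgSt.overMap (openHom V)).obj c)) := fun c =>
    (ptsIn_chart_iff h𝒳.isStack.1 x _).2 fun w => by
      show AlgSt.Points.ofChart x (V.ι (c.hom.left w)) ∈ T
      exact hV _ (c.hom.left w).2
  let g : FibCat.overCat (Over.mk (V.ι ≫ U.hom)) ⥤ᵇ AlgSt.fullSub 𝒳 (PtsIn T) :=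
    { toFunctor := ObjectProperty.lift _ (BasedFunctor.comp (AlgSt.overMap (openHom V)) x).toFunctor hmem
      w := (BasedFunctor.comp (AlgSt.overMap (openHom V)) x).w }
  let k : BasedFunctor.comp g (AlgSt.subIncl 𝒳 (PtsIn T)) ≅ BasedFunctor.comp (AlgSt.overMap (openHom V)) x :=
    Iso.refl _
  have hmono := isMono_of_isImm (repByAlgSpWith_mono
    (fun _ _ _ h => repWith_mono (fun _ _ g (_ : IsOpenImmersion g) => inferInstanceAs (IsImmersion g)) _ h)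
    (isOpenImm_ptsIn h𝒳 hT))
  exact ⟨g, repByAlgSpWith_of_comp stableBC_locP (cancels_mono stableBC_locP) hmono
    (repByAlgSpWith_of_iso k.symm (repByAlgSpWith_locP_comp (isFibGrpd_overCat _) (isFibGrpd_overCat U)
      (repByAlgSpWith_overMap stableBC_locP (smooth_openHom V)) hx)), ⟨k⟩⟩

end Chart

variable {f : 𝒳 ⥤ᵇ 𝒴} {U W : Over S} {x : FibCat.overCat U ⥤ᵇ 𝒳} {y : FibCat.overCat W ⥤ᵇ 𝒴} {h : U ⟶ W}

/-- A morphism is smooth on the image of an open of a chart on which the chart map is smooth. -/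
theorem locQ_of_open (h𝒳 : AlgSt.IsAlgStack K₀ 𝒳) (hx : AlgSt.RepByAlgSpWith (LocP @Smooth) x)
    (hy : AlgSt.RepByAlgSpWith (LocP @Smooth) y)
    (α : BasedFunctor.comp x f ≅ BasedFunctor.comp (AlgSt.overMap h) y) {V : U.left.Opens}
    (hV : Smooth (V.ι ≫ h.left)) {T : Set (AlgSt.Points 𝒳)} (hT : IsOpen T)
    (himg : T = AlgSt.Points.ofChart x '' (V : Set U.left)) :
    AlgSt.LocQ (LocP @Smooth) (BasedFunctor.comp (AlgSt.subIncl 𝒳 (PtsIn T)) f) := by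
  obtain ⟨g, hg, ⟨k⟩⟩ := exists_restrict x V T h𝒳 hT hx fun v hv => himg ▸ ⟨v, hv, rfl⟩
  refine ⟨_, W, g, y, openHom V ≫ h,
    (show BasedFunctor.comp g (BasedFunctor.comp (AlgSt.subIncl 𝒳 (PtsIn T)) f) ≅
        BasedFunctor.comp (AlgSt.overMap (openHom V)) (BasedFunctor.comp x f) from whiskerRightIso k f) ≪≫
      whiskerLeftIso (AlgSt.overMap (openHom V)) α ≪≫ whiskerRightIso (overMapCompIso (openHom V) h) y,
    hg, ?_, hy, locP_of_repWith ((repWith_yon_map_iff _ _).2 hV)⟩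
  have h𝒯 := (isOpenSubstack_ptsIn h𝒳 hT).2.1.isStack.1
  refine repByAlgSpWith_surjective_of_isSurjective (isFibGrpd_overCat _) h𝒯
    (repByAlgSp1_of_repByAlgSpWith hg) fun w => ?_
  have hw : AlgSt.Points.map (AlgSt.subIncl 𝒳 (PtsIn T)) w ∈ T := range_subIncl_ptsIn.subset ⟨w, rfl⟩
  obtain ⟨v, hv, hv'⟩ := himg.le hw
  refine ⟨ptAt (Over.mk (V.ι ≫ U.hom)) ⟨v, hv⟩, pts_map_injective_of_isMono h𝒯 h𝒳.isStack.1
    (isMono_of_isImm (repByAlgSpWith_mono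
      (fun _ _ _ h => repWith_mono (fun _ _ g (_ : IsOpenImmersion g) => inferInstanceAs (IsImmersion g)) _ h)
      (isOpenImm_ptsIn h𝒳 hT))) ?_⟩
  rw [← pts_map_comp, pts_map_congr k, ← ofChart_eq_map, ofChart_overMap]
  exact hv'

/-- The chart map of a morphism is smooth over an open substack on which the morphism is smooth. -/
theorem smooth_of_locQ (h𝒳 : AlgSt.IsAlgStack K₀ 𝒳) (h𝒴 : AlgSt.IsAlgStack K₀ 𝒴)
    (c : FibCat.overCat U ⥤ᵇ FibCat.fp f y) (hc : AlgSt.RepByAlgSpWith (LocP @Smooth) c)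
    (hy : AlgSt.RepByAlgSpWith (LocP @Smooth) y)
    (ih : BasedFunctor.comp c (FibCat.fpSnd f y) ≅ AlgSt.overMap h)
    {T : Set (AlgSt.Points 𝒳)} (hT : IsOpen T)
    (hloc : AlgSt.LocQ (LocP @Smooth) (BasedFunctor.comp (AlgSt.subIncl 𝒳 (PtsIn T)) f)) :
    Smooth ((chartOpen h𝒳 (BasedFunctor.comp c (FibCat.fpFst f y)) hT).ι ≫ h.left) := by
  let x := BasedFunctor.comp c (FibCat.fpFst f y)
  let V := chartOpen h𝒳 x hT
  let incl := AlgSt.subIncl 𝒳 (PtsIn T)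
  have h𝒯 := (isOpenSubstack_ptsIn h𝒳 hT).2.1
  have hfib := fp_isFibGrpd (F := f) (G := y) h𝒳.isStack.1 (isFibGrpd_overCat W) h𝒴.isStack.1
  obtain ⟨g, -, ⟨k⟩⟩ := exists_restrict x V T h𝒳 hT
    (repByAlgSpWith_locP_comp (isFibGrpd_overCat U) hfib hc (repByAlgSpWith_fpFst f hy)) fun v hv => hv
  let F := BasedFunctor.comp (AlgSt.overMap (openHom V)) c
  let c₁ : FibCat.overCat (Over.mk (V.ι ≫ U.hom)) ⥤ᵇ FibCat.fp incl (FibCat.fpFst f y) :=
    FibCat.fpLift g F k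
  have hF : AlgSt.RepByAlgSpWith (LocP @Smooth) F :=
    repByAlgSpWith_locP_comp (isFibGrpd_overCat _) (isFibGrpd_overCat U)
      (repByAlgSpWith_overMap stableBC_locP (smooth_openHom V)) hc
  have hmono : AlgSt.IsMono incl := isMono_of_isImm (repByAlgSpWith_mono
    (fun _ _ _ h => repWith_mono (fun _ _ g (_ : IsOpenImmersion g) => inferInstanceAs (IsImmersion g)) _ h)
    (isOpenImm_ptsIn h𝒳 hT))
  have hc₁ : AlgSt.RepByAlgSpWith (LocP @Smooth) c₁ :=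
    repByAlgSpWith_of_comp stableBC_locP (cancels_mono stableBC_locP)
      (repByAlgSpWith_fpSnd (FibCat.fpFst f y) hmono) (f := c₁) hF
  let c₂ := BasedFunctor.comp c₁ (pasteVert incl f y)
  have hc₂ : AlgSt.RepByAlgSpWith (LocP @Smooth) c₂ :=
    repByAlgSpWith_postcomp (pasteVert_isEquivOver incl f y) hc₁
  have key := LocQS.scheme ((locQ_iff_locQS isSmoothLocalST_smooth h𝒯 h𝒴 _).1 hloc) c₂ hy hc₂
    (h := openHom V ≫ h)
    ((show BasedFunctor.comp c₂ (FibCat.fpSnd (BasedFunctor.comp incl f) y) ≅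
        BasedFunctor.comp (AlgSt.overMap (openHom V)) (BasedFunctor.comp c (FibCat.fpSnd f y)) from Iso.refl _) ≪≫
      whiskerLeftIso _ ih ≪≫ overMapCompIso (openHom V) h)
  exact locP_yon_map key

/-- Membership in a cut-out substack of the image of an object. -/
theorem ptsIn_map_iff {𝒳' : AlgSt.Cat S} (h𝒳 : FibCat.IsFibGrpd 𝒳.p) (h𝒳' : FibCat.IsFibGrpd 𝒳'.p)
    (g : 𝒳' ⥤ᵇ 𝒳) (T : Set (AlgSt.Points 𝒳)) (a : 𝒳'.obj) :
    PtsIn T (g.obj a) ↔ PtsIn (AlgSt.Points.map g ⁻¹' T) a := by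
  refine ⟨fun h p φ => ?_, fun h p φ => ?_⟩
  · exact h (p.map g) (g.map φ)
  · let G : Over.mk p.str ⟶ 𝒳'.p.obj a := eqToHom p.lies.symm ≫ 𝒳.p.map φ ≫ eqToHom (g.w_obj a)
    obtain ⟨o, ψ, hψ⟩ := h𝒳'.exists_lift (x := a) G
    have hp : 𝒳'.p.obj o = Over.mk p.str := IsHomLift.domain_eq 𝒳'.p G ψ
    have h₁ : 𝒳.p.IsHomLift G φ := IsHomLift.of_fac 𝒳.p G φ p.lies (g.w_obj a) rfl
    have h₂ : 𝒳.p.IsHomLift G (g.map ψ) := g.preserves_isHomLift G ψ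
    obtain ⟨j, -, -⟩ := exists_iso_of_lifts (hp := h𝒳) G (g.map ψ) φ
    let q : AlgSt.FPt 𝒳' := { K := p.K, str := p.str, obj := o, lies := hp }
    rw [show AlgSt.Points.mk p = AlgSt.Points.map g (AlgSt.Points.mk q) from pts_eq_of_hom (q := q.map g) j.hom]
    exact h q ψ

/-- The points on which a morphism is smooth, read on an atlas. -/
theorem exists_smooth_chart (h𝒳 : AlgSt.IsAlgStack K₀ 𝒳) (h𝒴 : AlgSt.IsAlgStack K₀ 𝒴) (f : 𝒳 ⥤ᵇ 𝒴) :
    ∃ (U W : Over S) (y : FibCat.overCat W ⥤ᵇ 𝒴) (c : FibCat.overCat U ⥤ᵇ FibCat.fp f y) (h : U ⟶ W),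
      AlgSt.RepByAlgSpWith (LocP @Smooth) y ∧
      AlgSt.RepByAlgSpWith (LocP @Smooth) c ∧
      AlgSt.RepByAlgSpWith (LocP @Smooth) (BasedFunctor.comp c (FibCat.fpFst f y)) ∧
      AlgSt.RepByAlgSpWith IsSurjectiveMor (BasedFunctor.comp c (FibCat.fpFst f y)) ∧
      Nonempty (BasedFunctor.comp c (FibCat.fpSnd f y) ≅ AlgSt.overMap h) := by
  obtain ⟨W, y, hy, hy'⟩ := h𝒴.atlas
  obtain ⟨U, c, hc, hc'⟩ := (isAlgStack_fp h𝒳 (isAlgStack_overCat W) h𝒴.isStack h𝒴.diag f y).atlas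
  obtain ⟨h, ⟨i⟩⟩ := exists_mapB (BasedFunctor.comp c (FibCat.fpSnd f y))
  have hfib := fp_isFibGrpd (F := f) (G := y) h𝒳.isStack.1 (isFibGrpd_overCat W) h𝒴.isStack.1
  exact ⟨U, W, y, c, h, hy, hc,
    repByAlgSpWith_locP_comp (isFibGrpd_overCat U) hfib hc (repByAlgSpWith_fpFst f hy),
    repByAlgSpWith_isSurjectiveMor_comp (isFibGrpd_overCat U) hfib hc' (repByAlgSpWith_fpFst f hy'), ⟨i.symm⟩⟩

theorem isOpen_image {U : Over S} (h𝒳 : AlgSt.IsAlgStack K₀ 𝒳) {x : FibCat.overCat U ⥤ᵇ 𝒳}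
    (hx : AlgSt.RepByAlgSpWith (LocP @Smooth) x) (V : U.left.Opens) :
    IsOpen (AlgSt.Points.ofChart x '' (V : Set U.left)) :=
  isOpenMap_ofChart h𝒳.isStack.1 (repByAlgSpWith_flat_of_smooth hx) (repByAlgSpWith_lfp_of_smooth hx) _ V.2

/-- There is a largest open substack on which a morphism is smooth. -/
theorem exists_largest (h𝒳 : AlgSt.IsAlgStack K₀ 𝒳) (h𝒴 : AlgSt.IsAlgStack K₀ 𝒴) (f : 𝒳 ⥤ᵇ 𝒴) :
    ∃ Q : 𝒳.obj → Prop, AlgSt.IsOpenSubstack 𝒳 Q K₀ ∧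
      AlgSt.LocQ (LocP @Smooth) (BasedFunctor.comp (AlgSt.subIncl 𝒳 Q) f) ∧
      ∀ Q' : 𝒳.obj → Prop, AlgSt.IsOpenSubstack 𝒳 Q' K₀ →
        AlgSt.LocQ (LocP @Smooth) (BasedFunctor.comp (AlgSt.subIncl 𝒳 Q') f) → ∀ a, Q' a → Q a := by
  obtain ⟨U, W, y, c, h, hy, hc, hx, hx', ⟨ih⟩⟩ := exists_smooth_chart h𝒳 h𝒴 f
  let x := BasedFunctor.comp c (FibCat.fpFst f y)
  let α : BasedFunctor.comp x f ≅ BasedFunctor.comp (AlgSt.overMap h) y :=
    whiskerLeftIso c (FibCat.fpIso f y) ≪≫ whiskerRightIso ih y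
  let T := AlgSt.Points.ofChart x '' (smOpen h.left : Set U.left)
  have hT : IsOpen T := isOpen_image h𝒳 hx _
  refine ⟨PtsIn T, isOpenSubstack_ptsIn h𝒳 hT, locQ_of_open h𝒳 hx hy α (smooth_smOpen h.left) hT rfl,
    fun Q' hQ' hloc a ha => ?_⟩
  obtain ⟨T', hT', rfl⟩ : ∃ T', IsOpen T' ∧ Q' = PtsIn T' :=
    ⟨_, isOpen_range_of_isOpenImm hQ'.2.1 h𝒳 hQ'.2.2, eq_ptsIn_range h𝒳 hQ'⟩
  have hle := le_smOpen (smooth_of_locQ h𝒳 h𝒴 c hc hy ih hT' hloc)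
  intro p φ
  obtain ⟨u, hu⟩ := ofChart_surjective h𝒳.isStack.1 hx' (AlgSt.Points.mk p)
  exact ⟨u, hle (show AlgSt.Points.ofChart x u ∈ T' from hu ▸ ha p φ), hu⟩

end Groth.Agent.AlgStkX.SmoothOpen
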