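import Groth.Agent.S2121
import Groth.Agent.AlgStLib.QuasiCompact
import Groth.Agent.AlgStkX.SmoothOpen

/-!
# Valuation rings at points in the closure of the image of a quasi-compact morphism
-/

set_option backward.isDefEq.respectTransparency false
set_option backward.isDefEq.respectTransparency.types false

universe u

open CategoryTheory CategoryTheory.Functor CategoryTheory.Limits AlgebraicGeometry Opposite AlgSp
open Groth.Agent.FibBase Groth.Agent.AlgSpLib Groth.Agent.AlgStLib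

namespace Groth.Agent.AlgStkX.ValWitness

variable {S : Scheme.{u}} {𝒳 𝒴 : AlgSt.Cat S}

local notation "K₀" => Scheme.fppfPrecoverage

/-- Preimages of closures under open maps. -/
theorem mem_closure_preimage {α β : Type*} [TopologicalSpace α] [TopologicalSpace β] {p : α → β}
    (hp : IsOpenMap p) {t : α} {s : Set β} (h : p t ∈ closure s) : t ∈ closure (p ⁻¹' s) :=
  hp.preimage_closure_subset_closure_preimage h

/-- An affine chart through a point of an algebraic stack. -/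
theorem exists_affine_chart (h𝒴 : AlgSt.IsAlgStack K₀ 𝒴) (y : AlgSt.Points 𝒴) :
    ∃ (V : Over S) (v : FibCat.overCat V ⥤ᵇ 𝒴) (t : ↥V.left), IsAffine V.left ∧
      AlgSt.RepByAlgSpWith (LocP @Smooth) v ∧ AlgSt.Points.ofChart v t = y := by
  obtain ⟨U, x, hx, hx'⟩ := id h𝒴.atlas
  obtain ⟨t, rfl⟩ := ofChart_surjective h𝒴.isStack.1 hx' y
  obtain ⟨A, hA, ht, -⟩ := exists_isAffineOpen_mem_and_subset (X := U.left) (x := t) (U := ⊤) trivial
  let V : Over S := Over.mk (A.ι ≫ U.hom)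
  let o : V ⟶ U := Over.homMk A.ι rfl
  have ho : LocP @Smooth ((yon S).map o) := locP_of_repWith ((repWith_yon_map_iff (P := @Smooth) _).2
    (inferInstanceAs (Smooth A.ι)))
  refine ⟨V, BasedFunctor.comp (AlgSt.overMap o) x, ⟨t, ht⟩, hA,
    repByAlgSpWith_locP_comp (isFibGrpd_overCat V) (isFibGrpd_overCat U)
      (repByAlgSpWith_overMap stableBC_locP ho) hx, ?_⟩
  rw [ofChart_overMap]
  rfl

/-- Image of a chart of a fibre product. -/
theorem range_eq_preimage (h𝒳 : AlgSt.IsAlgStack K₀ 𝒳) (h𝒴 : AlgSt.IsAlgStack K₀ 𝒴) (f : 𝒳 ⥤ᵇ 𝒴)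
    {U V : Over S} {v : FibCat.overCat V ⥤ᵇ 𝒴} {c : FibCat.overCat U ⥤ᵇ FibCat.fp v f}
    (hc : AlgSt.RepByAlgSpWith IsSurjectiveMor c) {k : U ⟶ V}
    (i : BasedFunctor.comp c (FibCat.fpFst v f) ≅ AlgSt.overMap k) :
    AlgSt.Points.ofChart v ⁻¹' Set.range (AlgSt.Points.map f) ⊆ Set.range k.left := by
  rintro t ⟨w, hw⟩
  obtain ⟨q, hq, -⟩ := exists_pts_fp h𝒳.isStack.1 h𝒴.isStack.1 (isFibGrpd_overCat V) f v (ptAt V t) w
    (by rw [← ofChart_eq_map]; exact hw.symm)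
  obtain ⟨s, rfl⟩ := ofChart_surjective (fp_isFibGrpd (isFibGrpd_overCat V) h𝒳.isStack.1 h𝒴.isStack.1) hc q
  refine ⟨s, ?_⟩
  rw [← toSch_ptAt V t, ← hq, ofChart_eq_map, ← pts_map_comp, pts_map_congr i, toSch_map_overMap, toSch_ptAt]

theorem exists_valuationRing (h𝒳 : AlgSt.IsAlgStack K₀ 𝒳) (h𝒴 : AlgSt.IsAlgStack K₀ 𝒴) (f : 𝒳 ⥤ᵇ 𝒴)
    (hf : AlgSt.IsQuasiCompactMor K₀ f) (y : AlgSt.Points 𝒴) (hy : y ∈ closure (Set.range (AlgSt.Points.map f))) :
    ∃ (A : Type u) (_ : CommRing A) (_ : IsDomain A) (_ : ValuationRing A) (sA : Spec (CommRingCat.of A) ⟶ S)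
      (a : FibCat.overCat (Over.mk sA) ⥤ᵇ 𝒴)
      (x : FibCat.overCat (Over.mk (Spec.map (CommRingCat.ofHom (algebraMap A (FractionRing A))) ≫ sA)) ⥤ᵇ 𝒳),
      Nonempty (BasedFunctor.comp x f ≅
        BasedFunctor.comp (AlgSt.overMap (Over.homMk (Spec.map (CommRingCat.ofHom (algebraMap A (FractionRing A)))) rfl :
          Over.mk (Spec.map (CommRingCat.ofHom (algebraMap A (FractionRing A))) ≫ sA) ⟶ Over.mk sA)) a) ∧
      AlgSt.Points.ofChart a (IsLocalRing.closedPoint A) = y := by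
  obtain ⟨V, v, t, hV, hv, rfl⟩ := exists_affine_chart h𝒴 y
  have := hV
  obtain ⟨U, c, hU, -, hc⟩ := hf _ (isAlgStack_overCat V) (isQuasiCompact_overCat V) v
  obtain ⟨k, ⟨i⟩⟩ := exists_mapB (BasedFunctor.comp c (FibCat.fpFst v f))
  have := hU
  have hqc : QuasiCompact k.left := inferInstance
  have ht : t ∈ closure (Set.range k.left) :=
    closure_mono (range_eq_preimage h𝒳 h𝒴 f hc i.symm)
      (mem_closure_preimage (isOpenMap_ofChart h𝒴.isStack.1 (repByAlgSpWith_flat_of_smooth hv)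
        (repByAlgSpWith_lfp_of_smooth hv)) hy)
  obtain ⟨A, _, _, hA, xK, yA, hxy, hcl⟩ := Groth.Agent.S2121.result k.left t ht
  let sA : Spec (CommRingCat.of A) ⟶ S := yA ≫ V.hom
  let a' : Over.mk sA ⟶ V := Over.homMk yA rfl
  let T : Over S := Over.mk (Spec.map (CommRingCat.ofHom (algebraMap A (FractionRing A))) ≫ sA)
  let j : T ⟶ Over.mk sA := Over.homMk (Spec.map (CommRingCat.ofHom (algebraMap A (FractionRing A)))) rfl
  let x' : T ⟶ U := Over.homMk xK (by
    show xK ≫ U.hom = _ ≫ yA ≫ V.hom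
    rw [← Category.assoc (Spec.map _), ← hxy, Category.assoc, Over.w k])
  have e : x' ≫ k = j ≫ a' := Over.OverMorphism.ext hxy
  refine ⟨A, inferInstance, inferInstance, hA, sA, BasedFunctor.comp (AlgSt.overMap a') v,
    BasedFunctor.comp (AlgSt.overMap x') (BasedFunctor.comp c (FibCat.fpSnd v f)), ⟨?_⟩, ?_⟩
  · exact (whiskerLeftIso (BasedFunctor.comp (AlgSt.overMap x') c) (FibCat.fpIso v f)).symm ≪≫
      whiskerRightIso (whiskerLeftIso (AlgSt.overMap x') i.symm ≪≫ overMapCompIso x' k ≪≫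
        eqToIso (congrArg AlgSt.overMap e) ≪≫ (overMapCompIso j a').symm) v
  · rw [ofChart_overMap]
    exact congrArg _ hcl

end Groth.Agent.AlgStkX.ValWitness
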