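import Groth.Agent.AlgSpVal.DvrThrough
import Groth.Agent.AlgStkX.ValWitness
import Groth.Agent.AlgStkX.AffineDiag
import Groth.Agent.AlgStLib.Graph

/-!
# Specialisations in Noetherian algebraic stacks are traced by discrete valuation rings
-/

set_option backward.isDefEq.respectTransparency false
set_option backward.isDefEq.respectTransparency.types false

universe u

open CategoryTheory CategoryTheory.Functor CategoryTheory.Limits MonoidalCategory CartesianMonoidalCategory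
  AlgebraicGeometry Opposite AlgSp IsLocalRing
open Groth.Agent.FibBase Groth.Agent.AlgSpLib Groth.Agent.AlgStLib

namespace Groth.Agent.AlgStkX.DvrSpec

variable {S : Scheme.{u}} {𝒳 𝒴 : AlgSt.Cat S}

/-- Two quasi-compact schemes over a quasi-separated base give a quasi-compact fibre product over a stack with
quasi-compact diagonal. -/
theorem exists_compact_chart [QuasiSeparatedSpace ↥S] (h𝒴 : FibCat.IsFibGrpd 𝒴.p)
    (hΔ : AlgSt.RepByAlgSpWith IsQuasiCompactMor (FibCat.diag (FibCat.toSelf 𝒴))) {A B : Over S} [IsAffine A.left]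
    [IsAffine B.left] (z : FibCat.overCat A ⥤ᵇ 𝒴) (v : FibCat.overCat B ⥤ᵇ 𝒴) :
    ∃ (U : Over S) (c : FibCat.overCat U ⥤ᵇ FibCat.fp z v), IsAffine U.left ∧
      AlgSt.RepByAlgSpWith IsSurjectiveMor c := by
  let t := FibCat.toSelf 𝒴
  have : (BasedFunctor.id (FibCat.selfOver (Over S) : AlgSt.Cat S)).toFunctor.Full := inferInstanceAs (𝟭 _).Full
  have : (BasedFunctor.id (FibCat.selfOver (Over S) : AlgSt.Cat S)).toFunctor.Faithful :=
    inferInstanceAs (𝟭 _).Faithful
  let Φ : FibCat.overCat (A ⊗ B) ⥤ᵇ FibCat.fp (BasedFunctor.comp z t) (BasedFunctor.comp v t) :=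
    BasedFunctor.comp (prodToFp A B) (fpMap (F := BasedFunctor.comp z t) (G := BasedFunctor.comp v t)
      (F' := FibCat.toSelf (FibCat.overCat A)) (G' := FibCat.toSelf (FibCat.overCat B))
      (a := BasedFunctor.id _) (b := BasedFunctor.id _) (c := BasedFunctor.id _) (selfIso _ _) (selfIso _ _))
  have hΦ : FibCat.IsEquivOver Φ :=
    isEquivOver_comp (prodToFp_isEquivOver A B) (fpMap_isEquivOver _ _ isEquivOver_id isEquivOver_id)
  let w := weaken z v t
  obtain ⟨F, e, he, ha⟩ := repByAlgSpWith_weaken z v t hΔ (A ⊗ B) Φ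
  have : CompactSpace ↥(A ⊗ B).left := QuasiCompact.compactSpace_of_compactSpace (pullback.fst A.hom B.hom)
  have hF : IsQuasiCompactSp F.obj := ha (IsAlgSpace.yon_obj _)
    ((AlgSpPts.isQuasiCompactSp_iff (IsAlgSpace.yon_obj _)).2 (Points.schemeHomeo (A ⊗ B)).compactSpace) (𝟙 _)
    (𝟙 F.obj) _ (IsPullback.of_horiz_isIso ⟨(Category.id_comp _).trans (Category.comp_id _).symm⟩)
  have hq : AlgSt.IsQuasiCompact (FibCat.fp Φ w) := isQuasiCompact_of_equiv he (isQuasiCompact_ofSp F hF)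
  have : (BasedFunctor.id (FibCat.fp (BasedFunctor.comp z t) (BasedFunctor.comp v t))).toFunctor.Full :=
    inferInstanceAs (𝟭 _).Full
  have : (BasedFunctor.id (FibCat.fp (BasedFunctor.comp z t) (BasedFunctor.comp v t))).toFunctor.Faithful :=
    inferInstanceAs (𝟭 _).Faithful
  have hm : FibCat.IsEquivOver (BasedFunctor.comp
      (fpMap (F := BasedFunctor.id _) (G := w) (F' := Φ) (G' := w) (a := Φ) (b := BasedFunctor.id _)
        (c := BasedFunctor.id _) (Iso.refl _) (Iso.refl _)) (FibCat.fpSnd (BasedFunctor.id _) w)) :=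
    isEquivOver_comp (fpMap_isEquivOver _ _ hΦ isEquivOver_id) (fpSnd_id_isEquivOver w)
  obtain ⟨U, c, hU, -, hc⟩ := isQuasiCompact_of_equiv hm hq
  exact ⟨U, c, hU, hc⟩

theorem exists_dvr [QuasiSeparatedSpace ↥S] (h𝒳 : FibCat.IsFibGrpd 𝒳.p)
    (h𝒴 : FibCat.IsFibGrpd 𝒴.p) (hA : AlgSt.HasAtlas (LocP @Smooth) 𝒴)
    (hn : AlgSt.SmoothLocally (fun T => IsLocallyNoetherian T) 𝒴)
    (hΔ : AlgSt.RepByAlgSpWith IsQuasiCompactMor (FibCat.diag (FibCat.toSelf 𝒴)))
    (f : 𝒳 ⥤ᵇ 𝒴) (hft : AlgSt.LocQ (LocP @LocallyOfFiniteType) f)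
    (x : AlgSt.Points 𝒳) (y₀ : AlgSt.Points 𝒴) (hsp : AlgSt.Points.map f x ⤳ y₀) :
    ∃ (R : Type u) (_ : CommRing R) (_ : IsDomain R) (_ : IsDiscreteValuationRing R)
      (sR : Spec (CommRingCat.of R) ⟶ S)
      (a : FibCat.overCat (Over.mk (Spec.map (CommRingCat.ofHom (algebraMap R (FractionRing R))) ≫ sR)) ⥤ᵇ 𝒳)
      (b : FibCat.overCat (Over.mk sR) ⥤ᵇ 𝒴),
      Nonempty (BasedFunctor.comp a f ≅
        BasedFunctor.comp (AlgSt.overMap (Over.homMk (Spec.map (CommRingCat.ofHom (algebraMap R (FractionRing R)))) rfl :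
          Over.mk (Spec.map (CommRingCat.ofHom (algebraMap R (FractionRing R))) ≫ sR) ⟶ Over.mk sR)) b) ∧
      (∀ p, AlgSt.Points.ofChart a p = x) ∧
      AlgSt.Points.ofChart b (IsLocalRing.closedPoint R) = y₀ := by
  obtain ⟨U, W, x₁, y₁, h, α, -, hx₁, hy₁, hh⟩ := hft
  have : LocallyOfFiniteType h.left := locP_yon_map (P := @LocallyOfFiniteType) hh
  obtain ⟨u₀, rfl⟩ := ofChart_surjective h𝒳 hx₁ x
  -- an affine chart at the specialisation
  obtain ⟨W', x', hx', hx''⟩ := id hA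
  obtain ⟨t₀, rfl⟩ := ofChart_surjective h𝒴 hx'' y₀
  obtain ⟨O, hO, htO, -⟩ := exists_isAffineOpen_mem_and_subset (X := W'.left) (x := t₀) (U := ⊤) trivial
  let V : Over S := Over.mk (O.ι ≫ W'.hom)
  let o : V ⟶ W' := Over.homMk O.ι rfl
  let t : ↥V.left := ⟨t₀, htO⟩
  let v := BasedFunctor.comp (AlgSt.overMap o) x'
  have hv : AlgSt.RepByAlgSpWith (LocP @Smooth) v :=
    repByAlgSpWith_locP_comp (isFibGrpd_overCat V) (isFibGrpd_overCat W')
      (repByAlgSpWith_overMap stableBC_locP (locP_of_repWith ((repWith_yon_map_iff (P := @Smooth) _).2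
        (inferInstanceAs (Smooth O.ι))))) hx'
  have : IsAffine V.left := hO
  have : IsLocallyNoetherian V.left := hn V v hv
  have hvt : AlgSt.Points.ofChart v t = AlgSt.Points.ofChart x' t₀ := ofChart_overMap o x' t
  -- a generalisation over the given point
  let K : Over S := Over.mk (U.left.fromSpecResidueField u₀ ≫ U.hom)
  let r : K ⟶ U := Over.homMk (U.left.fromSpecResidueField u₀) rfl
  let z := BasedFunctor.comp (BasedFunctor.comp (AlgSt.overMap r) x₁) f
  have : IsAffine K.left := inferInstanceAs (IsAffine (Spec _))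
  obtain ⟨U', c, hU', hc⟩ := exists_compact_chart h𝒴 hΔ z v
  have hz : ∀ p : ↥K.left, AlgSt.Points.ofChart z p = AlgSt.Points.map f (AlgSt.Points.ofChart x₁ u₀) := fun p => by
    rw [← map_ofChart, ofChart_overMap]
    exact congrArg (fun s => AlgSt.Points.map f (AlgSt.Points.ofChart x₁ s))
      (Scheme.fromSpecResidueField_apply (X := U.left) u₀ p)
  obtain ⟨k, ⟨i₀⟩⟩ := exists_mapB (BasedFunctor.comp c (FibCat.fpSnd z v))
  let i : AlgSt.overMap k ≅ BasedFunctor.comp c (FibCat.fpSnd z v) := i₀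
  have hcl : t ∈ closure (Set.range k.left) := by
    refine closure_mono ?_ (ValWitness.mem_closure_preimage (isOpenMap_ofChart h𝒴 (repByAlgSpWith_flat_of_smooth hv)
      (repByAlgSpWith_lfp_of_smooth hv)) (s := {AlgSt.Points.map f (AlgSt.Points.ofChart x₁ u₀)})
      (specializes_iff_mem_closure.1 (hvt ▸ hsp)))
    intro t' ht'
    obtain ⟨q, -, hq⟩ := exists_pts_fp (isFibGrpd_overCat V) h𝒴 (isFibGrpd_overCat K) v z
      (ptAt K (IsLocalRing.closedPoint (U.left.residueField u₀))) (ptAt V t')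
      (by rw [← ofChart_eq_map, ← ofChart_eq_map, hz]; exact ht'.symm)
    obtain ⟨s, rfl⟩ := ofChart_surjective (fp_isFibGrpd (isFibGrpd_overCat K) (isFibGrpd_overCat V) h𝒴) hc q
    refine ⟨s, ?_⟩
    rw [← toSch_ptAt V t', ← hq, ofChart_eq_map, ← pts_map_comp, pts_map_congr i.symm, toSch_map_overMap,
      toSch_ptAt]
  obtain ⟨u', hu'⟩ := AlgSpVal.exists_specializes_of_mem_closure_range k.left hcl
  have hvu : AlgSt.Points.ofChart v (k.left u') = AlgSt.Points.map f (AlgSt.Points.ofChart x₁ u₀) := by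
    obtain ⟨l, ⟨il₀⟩⟩ := exists_mapB (BasedFunctor.comp c (FibCat.fpFst z v))
    let il : AlgSt.overMap l ≅ BasedFunctor.comp c (FibCat.fpFst z v) := il₀
    rw [← ofChart_overMap, ofChart_eq_map, pts_map_congr (whiskerRightIso i v ≪≫
      (whiskerLeftIso c (FibCat.fpIso z v)).symm ≪≫ (whiskerRightIso il z).symm), ← ofChart_eq_map, ofChart_overMap, hz]
  -- a scheme chart of finite type through both points
  obtain ⟨T₀, k₀, h₀, ⟨j⟩, hpts, hR, -⟩ := exists_chart_fp h𝒴 v (repByAlgSp1_of_repByAlgSpWith hy₁)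
  have : Smooth k₀.left := hR @Smooth etale_le_smooth hy₁
  obtain ⟨s₀, hs₀, hs₀'⟩ := hpts (k.left u') (h.left u₀) (by
    rw [hvu, map_ofChart, ofChart_eq_map, pts_map_congr α, ← ofChart_eq_map, ofChart_overMap])
  obtain ⟨p, hp₁, hp₂⟩ := Scheme.Pullback.exists_preimage_pullback (f := h.left) (g := h₀.left) u₀ s₀ hs₀'.symm
  let g : pullback h.left h₀.left ⟶ V.left := pullback.snd h.left h₀.left ≫ k₀.left
  have hg : g p ⤳ t := by
    rw [Scheme.Hom.comp_apply, hp₂, hs₀]
    exact hu'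
  obtain ⟨R, _, _, hDVR, iV, kK, hi, hk, hcomm⟩ := AlgSpVal.exists_dvr_path_field g p t hg
  let sR : Spec (CommRingCat.of R) ⟶ S := iV ≫ V.hom
  let b' : Over.mk sR ⟶ V := Over.homMk iV rfl
  let T : Over S := Over.mk (Spec.map (CommRingCat.ofHom (algebraMap R (FractionRing R))) ≫ sR)
  let jR : T ⟶ Over.mk sR := Over.homMk (Spec.map (CommRingCat.ofHom (algebraMap R (FractionRing R)))) rfl
  let aT : T ⟶ T₀ := Over.homMk (kK ≫ pullback.snd h.left h₀.left) (by
    show (kK ≫ _) ≫ T₀.hom = _ ≫ iV ≫ V.hom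
    rw [← Over.w k₀, ← Category.assoc (Spec.map _), ← hcomm]
    simp [g])
  let aU : T ⟶ U := Over.homMk (kK ≫ pullback.fst h.left h₀.left) (by
    show (kK ≫ _) ≫ U.hom = _ ≫ iV ≫ V.hom
    rw [← Over.w h, Category.assoc, ← Category.assoc (pullback.fst _ _), pullback.condition, Category.assoc,
      Over.w h₀, ← Over.w k₀, ← Category.assoc (Spec.map _), ← hcomm]
    simp [g])
  have e₁ : aU ≫ h = aT ≫ h₀ := Over.OverMorphism.ext (by
    show (kK ≫ _) ≫ h.left = (kK ≫ _) ≫ h₀.left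
    rw [Category.assoc, Category.assoc, pullback.condition])
  have e₂ : aT ≫ k₀ = jR ≫ b' := Over.OverMorphism.ext ((Category.assoc _ _ _).trans hcomm)
  refine ⟨R, inferInstance, inferInstance, hDVR, sR, BasedFunctor.comp (AlgSt.overMap aU) x₁,
    BasedFunctor.comp (AlgSt.overMap b') v, ⟨?_⟩, fun q => ?_, ?_⟩
  · exact whiskerLeftIso (AlgSt.overMap aU) α ≪≫
      whiskerRightIso (overMapCompIso aU h ≪≫ eqToIso (congrArg AlgSt.overMap e₁) ≪≫ (overMapCompIso aT h₀).symm) y₁ ≪≫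
      whiskerLeftIso (AlgSt.overMap aT) j.symm ≪≫
      whiskerRightIso (overMapCompIso aT k₀ ≪≫ eqToIso (congrArg AlgSt.overMap e₂) ≪≫ (overMapCompIso jR b').symm) v
  · rw [ofChart_overMap]
    refine congrArg _ ?_
    rw [Subsingleton.elim (α := PrimeSpectrum (FractionRing R)) q (IsLocalRing.closedPoint (FractionRing R))]
    exact (Scheme.Hom.comp_apply _ _ _).trans ((congrArg _ hk).trans hp₁)
  · rw [ofChart_overMap, ← hvt]
    exact congrArg _ hi

end Groth.Agent.AlgStkX.DvrSpec
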