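import Groth.Agent.AlgStkX.Artin
import Groth.Agent.AlgStkX.AffineTorsor
import Groth.Agent.AlgStLib.SmoothBootstrap
import Groth.Agent.AlgSpDec.SmoothSheafCover
import Groth.Agent.QuotLib.AtlasProps
import Groth.Agent.QuotLib.Descend

/-!
# Etale and fppf torsors under a smooth affine group
-/

set_option autoImplicit false
set_option backward.isDefEq.respectTransparency false
set_option backward.isDefEq.respectTransparency.types false

universe u

open CategoryTheory CategoryTheory.Functor CategoryTheory.Limits MonoidalCategory CartesianMonoidalCategory MonObj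
  AlgebraicGeometry AlgSp

namespace Groth.Agent.AlgStkX.EtaleQuot

open Groth.Agent.FibBase Groth.Agent.QuotLib Groth.Agent.AlgStLib Groth.Agent.AlgSpLib

variable {S : Scheme.{u}} {G : Over S} [GrpObj G] {X : Over S} (aX : AlgGrp.Action G X)

local notation "Kf" => Scheme.fppfPrecoverage
local notation "Ke" => Scheme.etalePrecoverage

/-- Etale coverings are fppf coverings. -/
theorem mem_fppf_of_etale {T : Scheme.{u}} {R : Presieve T} (hR : R ∈ (Ke : Precoverage Scheme.{u}) T) :
    R ∈ (Kf : Precoverage Scheme.{u}) T :=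
  Scheme.precoverage_mono (P := @Etale) (Q := @Flat ⊓ @LocallyOfFinitePresentation)
    (fun _ _ f (_ : Etale f) => ⟨inferInstanceAs (Flat f), inferInstanceAs (LocallyOfFinitePresentation f)⟩) T hR

/-- An etale torsor is an fppf torsor. -/
def toF (A : AlgSt.QuotObj Ke G aX) : AlgSt.QuotObj Kf G aX where
  base := A.base
  P := A.P
  act := A.act
  π := A.π
  cart := A.cart
  loc := let ⟨R, hR, h⟩ := A.loc; ⟨R, mem_fppf_of_etale hR, h⟩
  φ := A.φ
  eqv := A.eqv

/-- Etale torsors inside fppf torsors. -/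
def toFppf : AlgSt.QuotSt Ke G aX ⥤ᵇ AlgSt.QuotSt Kf G aX where
  toFunctor :=
    { obj := toF aX
      map := fun f => ⟨f.base, f.top, f.eqv, f.cart, f.wφ⟩ }
  w := rfl

variable [Smooth G.hom]

theorem smooth_π (A : AlgSt.QuotObj Kf G aX) : Smooth A.π.left := by
  have h := locP_π (R := @Smooth) (isLocalOnBase_fppf_of_fpqc isLocalOnBase_fpqc_locP) ‹_› A (U := A.base) rfl
  rw [eqToHom_refl, Category.comp_id] at h
  exact locP_left _ h

/-- An fppf torsor under a smooth group is etale locally trivial. -/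
theorem loc_etale (A : AlgSt.QuotObj Kf G aX) :
    NonAbH1.IsLocallyTrivialFor Ke (Over.mk A.π.left : Over A.base.left) := by
  have := smooth_π aX A
  have : Surjective A.π.left := ⟨fun x => by
    obtain ⟨Rv, hR, hsec⟩ := A.loc
    obtain ⟨Y, g, ⟨hg⟩, hx⟩ := hR.1 x
    obtain ⟨w, rfl⟩ := hx
    obtain ⟨s, hs⟩ := hsec _ hg
    exact ⟨s w, (Scheme.Hom.comp_apply s A.π.left w).symm.trans (congrArg (fun k => k w) hs)⟩⟩
  obtain ⟨T, ψ, σ, h1, h2, hσ⟩ := Groth.Agent.AlgSpDec.exists_etale_section A.π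
  refine ⟨Presieve.singleton ψ.left, ?_, fun T' f hf => ?_⟩
  · show Presieve.singleton ψ.left ∈ Scheme.precoverage @Etale A.base.left
    exact (Scheme.singleton_mem_precoverage_iff @Etale ψ.left).2 ⟨fun x => (surjective_iff ψ.left).1 h2 x, h1⟩
  · cases hf
    exact ⟨σ.left, congrArg Over.Hom.left hσ⟩

/-- An fppf torsor under a smooth group as an etale torsor. -/
def toE (A : AlgSt.QuotObj Kf G aX) : AlgSt.QuotObj Ke G aX where
  base := A.base
  P := A.P
  act := A.act
  π := A.π
  cart := A.cart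
  loc := loc_etale aX A
  φ := A.φ
  eqv := A.eqv

/-- For smooth groups etale and fppf torsors agree. -/
theorem toFppf_isEquivOver : FibCat.IsEquivOver (toFppf aX) :=
  isEquivOver_of_exists_iso _ ⟨fun m => ⟨⟨m.base, m.top, m.eqv, m.cart, m.wφ⟩, rfl⟩⟩
    ⟨fun {A B} m m' h => AlgSt.QuotObj.hom_ext (congrArg (fun (t : (toF aX A) ⟶ (toF aX B)) => t.base) h)
      (congrArg (fun (t : (toF aX A) ⟶ (toF aX B)) => t.top) h)⟩
    fun A => ⟨toE aX A, Iso.refl A, IsHomLift.id rfl⟩

variable [IsAffineHom G.hom]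

theorem isAlgStack : AlgSt.IsAlgStack Ke (AlgSt.QuotSt Ke G aX) := by
  have h := isAlgStack_quotSt aX
  exact ⟨isStack_etale_of_fppf ((Groth.Agent.StkLib.isStack_iff_of_isEquivOver (J := AlgSp.J S)
      (toFppf_isEquivOver aX)).2 h.isStack),
    repByAlgSp1_diag_congr (comp_toSelf (toFppf aX))
      ((repByAlgSp1_diag_iff_of_isEquivOver (toFppf_isEquivOver aX) (FibCat.toSelf (AlgSt.QuotSt Kf G aX))).1 h.diag),
    (hasAtlas_iff_of_isEquivOver (toFppf_isEquivOver aX) _).2 h.atlas⟩

theorem quot_smooth : AlgSt.RepByAlgSpWith (LocP @Smooth) (quotOver Ke G aX) :=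
  repByAlgSpWith_quot _ fun A _ eU =>
    locP_π (isLocalOnBase_fppf_of_fpqc isLocalOnBase_fpqc_locP) ‹_› (toF aX A) eU

theorem quot_surjective : AlgSt.RepByAlgSpWith IsSurjectiveMor (quotOver Ke G aX) :=
  repByAlgSpWith_quot _ fun A _ eU => surjective_π (toF aX A) eU

theorem quot_affine : AlgSt.RepByAlgSpWith IsAffineMor (quotOver Ke G aX) :=
  repByAlgSpWith_quot _ fun A U eU => by
    subst eU
    rw [eqToHom_refl, Category.comp_id]
    exact isAffineMor_torsor aX (cmpObj aX Kf (toF aX A))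

end Groth.Agent.AlgStkX.EtaleQuot
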