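import Groth.Agent.AlgStkX.SeqFlat
import Mathlib.RingTheory.Jacobson.Ring
import Mathlib.RingTheory.Jacobson.Artinian
import Mathlib.RingTheory.Ideal.AssociatedPrime.Finiteness

/-!
# Finite quotients of algebras over a field cut out by a regular sequence
-/

set_option autoImplicit false

universe u

open IsLocalRing

namespace Groth.Agent.AlgStkX

/-- Successive regularity modulo `J`. -/
def RegSeqFrom {D : Type u} [CommRing D] : Ideal D → List D → Prop
  | _, [] => True
  | J, f :: l => (∀ t, f * t ∈ J → t ∈ J) ∧ RegSeqFrom (J ⊔ Ideal.span {f}) l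

variable (k : Type u) {D : Type u} [Field k] [CommRing D] [Algebra k D]

theorem regFrom_of_regSeqFrom (q : Ideal D) [q.IsPrime] :
    ∀ (l : List D) (J : Ideal D), RegSeqFrom J l → RegFrom (⊥ : Ideal k) q J l
  | [], _, _ => trivial
  | f :: l, J, ⟨h, hl⟩ => by
    refine ⟨fun t ht => ?_, regFrom_of_regSeqFrom q l _ hl⟩
    obtain ⟨w, hw, hwt⟩ := ht
    rw [Ideal.map_bot, sup_bot_eq, mul_left_comm] at hwt
    exact ⟨w, hw, Ideal.mem_sup_left (h _ hwt)⟩

/-- Some maximal ideal over a non-maximal prime avoids a given finite set. -/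
theorem exists_maximal_not_mem [IsJacobsonRing D] (P : Ideal D) [P.IsPrime] (hP : ¬ P.IsMaximal)
    {s : Set (Ideal D)} (hs : s.Finite) : ∃ m : Ideal D, P ≤ m ∧ m.IsMaximal ∧ m ∉ s := by
  by_contra H
  push Not at H
  have hjac : P.jacobson = P := IsJacobsonRing.out inferInstance (Ideal.IsPrime.isRadical inferInstance)
  have hfin : {J : Ideal D | P ≤ J ∧ J.IsMaximal}.Finite := hs.subset fun J hJ => H J hJ.1 hJ.2
  have hle : hfin.toFinset.inf id ≤ P := by
    conv_rhs => rw [← hjac]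
    exact le_sInf fun J hJ => Finset.inf_le (f := id) (hfin.mem_toFinset.2 hJ)
  obtain ⟨J, hJ, hJP⟩ := (Ideal.IsPrime.inf_le' inferInstance).1 hle
  obtain ⟨hPJ, hJmax⟩ := hfin.mem_toFinset.1 hJ
  exact hP (le_antisymm hPJ hJP ▸ hJmax)

/-- A sequence regular modulo `J` with Artinian quotient. -/
theorem exists_regSeqFrom [IsNoetherianRing D] [IsJacobsonRing D] (J : Ideal D) (hJ : J ≠ ⊤) :
    ∃ l : List D, RegSeqFrom J l ∧ J ⊔ Ideal.ofList l ≠ ⊤ ∧
      ∀ P : Ideal D, P.IsPrime → J ⊔ Ideal.ofList l ≤ P → P.IsMaximal := by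
  induction J using WellFoundedGT.induction with
  | _ J ih =>
    by_cases hdim : ∀ P : Ideal D, P.IsPrime → J ≤ P → P.IsMaximal
    · exact ⟨[], trivial, by simpa using hJ, fun P hP hle => hdim P hP (le_sup_left.trans hle)⟩
    push Not at hdim
    obtain ⟨P, hP, hJP, hnmax⟩ := hdim
    have hfin : (associatedPrimes D (D ⧸ J)).Finite := associatedPrimes.finite D (D ⧸ J)
    obtain ⟨m, hPm, hm, hmA⟩ := exists_maximal_not_mem P hnmax hfin
    obtain ⟨f, hfm, hf⟩ : ∃ f ∈ m, ∀ p ∈ associatedPrimes D (D ⧸ J), f ∉ p := by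
      by_contra H
      push Not at H
      obtain ⟨p, hp, hmp⟩ := (m.subset_union_prime_finite hfin (f := id) ⊥ ⊥ fun _ h _ _ => h.isPrime).1
        (fun x hx => by
          obtain ⟨p, hp, hxp⟩ := H x hx
          exact Set.mem_biUnion hp hxp)
      exact hmA (hm.eq_of_le hp.isPrime.ne_top hmp ▸ hp)
    have hreg : ∀ t, f * t ∈ J → t ∈ J := by
      intro t ht
      by_contra htJ
      have hmem : f ∈ ⋃ p ∈ associatedPrimes D (D ⧸ J), (p : Set D) := by
        rw [biUnion_associatedPrimes_eq_zero_divisors]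
        refine ⟨Ideal.Quotient.mk J t, fun h => htJ (Ideal.Quotient.eq_zero_iff_mem.1 h), ?_⟩
        rw [← Ideal.Quotient.eq_zero_iff_mem, map_mul] at ht
        exact ht
      simp only [Set.mem_iUnion] at hmem
      obtain ⟨p, hp, hfp⟩ := hmem
      exact hf p hp hfp
    have hlt : J < J ⊔ Ideal.span {f} := by
      refine lt_of_le_of_ne le_sup_left fun h => ?_
      have hfJ : f * 1 ∈ J := by
        rw [h, mul_one]; exact Ideal.mem_sup_right (Ideal.mem_span_singleton_self f)
      exact hJ ((Ideal.eq_top_iff_one J).2 (hreg 1 hfJ))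
    have hne : J ⊔ Ideal.span {f} ≠ ⊤ := fun h => hm.ne_top (top_le_iff.1
      (h ▸ sup_le (hJP.trans hPm) ((Ideal.span_singleton_le_iff_mem _).2 hfm)))
    obtain ⟨l, hl, htop, hmax⟩ := ih _ hlt hne
    refine ⟨f :: l, ⟨hreg, hl⟩, ?_⟩
    rw [Ideal.ofList_cons, ← sup_assoc]
    exact ⟨htop, hmax⟩

/-- A finite local quotient of a nonzero algebra of finite type over a field, cut out locally by a regular
sequence. -/
theorem exists_fibre_seq (D : Type u) [CommRing D] [Algebra k D] [Algebra.FiniteType k D] [Nontrivial D] :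
    ∃ (B : Type u) (_ : CommRing B) (_ : IsLocalRing B) (_ : Algebra k B) (_ : Module.Finite k B)
      (gk : D →ₐ[k] B) (l : List D), Function.Surjective gk ∧ (∀ x ∈ l, gk x = 0) ∧
      (∀ x, gk x = 0 → ∃ w ∉ (maximalIdeal B).comap gk.toRingHom, w * x ∈ Ideal.ofList l) ∧
      RegFrom (⊥ : Ideal k) ((maximalIdeal B).comap gk.toRingHom) ⊥ l := by
  have : IsNoetherianRing D := Algebra.FiniteType.isNoetherianRing k D
  have : IsJacobsonRing D := isJacobsonRing_of_finiteType (A := k)
  obtain ⟨l, hl, htop, hmax⟩ := exists_regSeqFrom (⊥ : Ideal D) bot_ne_top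
  rw [bot_sup_eq] at htop hmax
  let K := Ideal.ofList l
  have hdim : Ring.KrullDimLE 0 (D ⧸ K) := by
    rw [Ring.krullDimLE_zero_iff]
    intro P hP
    have h1 : (P.comap (Ideal.Quotient.mk K)).IsMaximal := hmax _ inferInstance fun x hx => by
      show Ideal.Quotient.mk K x ∈ P
      rw [Ideal.Quotient.eq_zero_iff_mem.2 hx]; exact zero_mem _
    rw [← Ideal.map_comap_of_surjective _ Ideal.Quotient.mk_surjective P]
    refine (Ideal.map_eq_top_or_isMaximal_of_surjective _ Ideal.Quotient.mk_surjective h1).resolve_left ?_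
    rw [Ideal.map_comap_of_surjective _ Ideal.Quotient.mk_surjective]
    exact hP.ne_top
  have : IsArtinianRing (D ⧸ K) := isArtinianRing_iff_krullDimLE_zero.2 hdim
  have : Nontrivial (D ⧸ K) := Ideal.Quotient.nontrivial_iff.2 htop
  obtain ⟨qb, hqb⟩ := Ideal.exists_maximal (D ⧸ K)
  let B := Localization.AtPrime qb
  have hsB : Function.Surjective (algebraMap (D ⧸ K) B) :=
    IsArtinianRing.localization_surjective qb.primeCompl B
  have hfinK : Module.Finite k (D ⧸ K) := Module.finite_of_isArtinianRing k (D ⧸ K)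
  let gk : D →ₐ[k] B := (IsScalarTower.toAlgHom k (D ⧸ K) B).comp (Ideal.Quotient.mkₐ k K)
  have hgk : ∀ x, gk x = algebraMap (D ⧸ K) B (Ideal.Quotient.mk K x) := fun x => rfl
  have hq : ∀ x, x ∈ (maximalIdeal B).comap gk.toRingHom ↔ Ideal.Quotient.mk K x ∈ qb := fun x => by
    rw [Ideal.mem_comap]
    show gk x ∈ _ ↔ _
    rw [hgk, IsLocalization.AtPrime.to_map_mem_maximal_iff B qb]
  refine ⟨B, inferInstance, inferInstance, inferInstance,
    Module.Finite.of_surjective (IsScalarTower.toAlgHom k (D ⧸ K) B).toLinearMap hsB, gk, l,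
    hsB.comp Ideal.Quotient.mk_surjective, fun x hx => ?_, fun x hx => ?_, ?_⟩
  · rw [hgk, Ideal.Quotient.eq_zero_iff_mem.2 (show x ∈ K from Ideal.subset_span (s := {y | y ∈ l}) hx), map_zero]
  · rw [hgk, IsLocalization.map_eq_zero_iff qb.primeCompl] at hx
    obtain ⟨⟨c, hc⟩, hcx⟩ := hx
    obtain ⟨w, rfl⟩ := Ideal.Quotient.mk_surjective c
    exact ⟨w, fun h => hc ((hq w).1 h), Ideal.Quotient.eq_zero_iff_mem.1 (by rw [map_mul]; exact hcx)⟩
  · exact regFrom_of_regSeqFrom k _ l ⊥ hl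

end Groth.Agent.AlgStkX
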