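import Groth.Agent.AlgStLib.RatPoint
import Groth.Agent.AlgStLib.LocQ
import Groth.Agent.AlgSpQ4.ChartLift

/-!
# Lifts of closed points along smooth functors over henselian local rings
-/

set_option autoImplicit false
set_option backward.isDefEq.respectTransparency false
set_option backward.isDefEq.respectTransparency.types false

universe u

open CategoryTheory CategoryTheory.Limits AlgebraicGeometry AlgSp

namespace Groth.Agent.AlgStkX.HensLift

open Groth.Agent.FibBase Groth.Agent.AlgSpLib Groth.Agent.AlgStLib Groth.Agent.AlgSpQ4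

variable {S : Scheme.{u}}

/-- The identity of a slice. -/
def overMapIdIso (U : Over S) : AlgSt.overMap (𝟙 U) ≅ BasedFunctor.id (FibCat.overCat U : AlgSt.Cat S) :=
  overIso _ _ fun x => by
    show 𝟙 x.left ≫ x.hom = x.hom ≫ 𝟙 U
    simp

theorem spMapOfOver_toOverCat_comp_overMap {U V : Over S} (k : U ⟶ V) :
    AlgSt.spMapOfOver (BasedFunctor.comp (AlgSt.toOverCat U) (AlgSt.overMap k)) = (yon S).map k := by
  rw [spMapOfOver_congr (toOverCatMapIso k), spMapOfOver_ofSpMap_toOverCat]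

/-- A smooth functor from a space lifts points over henselian local rings from the closed point. -/
theorem exists_lift {𝒵 : AlgSt.Cat S} {Z : AlgSp.Space S} (f : AlgSt.ofSp Z.obj ⥤ᵇ 𝒵)
    (hf : AlgSt.RepByAlgSpWith (LocP @Smooth) f)
    {R : Type u} [CommRing R] [HenselianLocalRing R] (str : Spec (CommRingCat.of R) ⟶ S)
    (z : FibCat.overCat (Over.mk str) ⥤ᵇ 𝒵) (z₀ : (yon S).obj (closedOver R str) ⟶ Z.obj)
    (w : Nonempty (BasedFunctor.comp (overOfMap z₀) f ≅
      BasedFunctor.comp (AlgSt.overMap (closedIncl R str)) z)) :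
    ∃ z' : (yon S).obj (Over.mk str) ⟶ Z.obj, (yon S).map (closedIncl R str) ≫ z' = z₀ ∧
      Nonempty (BasedFunctor.comp (overOfMap z') f ≅ z) := by
  obtain ⟨w⟩ := w
  obtain ⟨F, e, he, hP⟩ := hf _ z
  obtain ⟨g, -, -, ⟨ige⟩⟩ := isEquivOver_inv he
  let i := closedIncl R str
  let C := closedOver R str
  let Φ := BasedFunctor.comp e (FibCat.fpFst z f)
  let q := AlgSt.spMapOfOver Φ
  let b : F.obj ⟶ Z.obj := spHom (BasedFunctor.comp e (FibCat.fpSnd z f))
  let E₀ : FibCat.overCat C ⥤ᵇ FibCat.fp z f := FibCat.fpLift (AlgSt.overMap i) (overOfMap z₀) w.symm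
  let ξ : (yon S).obj C ⟶ F.obj := mapOfOver (BasedFunctor.comp E₀ g)
  let ξ' : AlgSt.ofSch C ⥤ᵇ AlgSt.ofSp F.obj := BasedFunctor.comp (AlgSt.toOverCat C) (BasedFunctor.comp E₀ g)
  have hξq : ξ ≫ q = (yon S).map i := by
    rw [← spMapOfOver_toOverCat_comp_overMap i]
    exact (spMapOfOver_comp ξ' Φ).symm.trans (spMapOfOver_congr
      (whiskerLeftIso (BasedFunctor.comp (AlgSt.toOverCat C) E₀) (whiskerRightIso ige (FibCat.fpFst z f))))
  have hξb : ξ ≫ b = z₀ := by
    refine ((spHom_comp ξ' (BasedFunctor.comp e (FibCat.fpSnd z f))).symm.trans (spHom_congr ?_)).trans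
      (mapOfOver_overOfMap z₀)
    exact whiskerLeftIso (BasedFunctor.comp (AlgSt.toOverCat C) E₀) (whiskerRightIso ige (FibCat.fpSnd z f))
  obtain ⟨V, p, g₀, -, hp, hg₀⟩ := exists_affine_chart_through F.property
    (k := IsLocalRing.ResidueField R) (σ := (closedOver R str).hom) ξ
  obtain ⟨c, hc⟩ := (yon S).map_surjective (p ≫ q)
  have : Smooth c.left := locP_yon_map (hc ▸ locP_comp (IsAlgSpace.yon_obj V) F.property (IsAlgSpace.yon_obj _)
    (locP_mono etale_le_smooth (locP_of_repWith hp)) hP)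
  have hg₀c : g₀ ≫ c = i := (yon S).map_injective (by
    rw [Functor.map_comp, hc, ← Category.assoc]
    exact (congrArg (· ≫ q) hg₀).trans hξq)
  let c' : V.left ⟶ Spec (CommRingCat.of R) := c.left
  have : Smooth c' := ‹Smooth c.left›
  obtain ⟨σ, hσ₁, hσ₂⟩ := exists_section_smooth (IsLocalRing.maximalIdeal R) (Ideal.IsMaximal.ne_top inferInstance)
    c' g₀.left (congrArg (fun m => m.left) hg₀c)
  let σ' : Over.mk str ⟶ V := Over.homMk σ (by
    show σ ≫ V.hom = str
    rw [← Over.w c, ← Category.assoc, show σ ≫ c.left = 𝟙 _ from hσ₁]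
    exact Category.id_comp _)
  have hσc : σ' ≫ c = 𝟙 _ := Over.OverMorphism.ext hσ₁
  have hσi : i ≫ σ' = g₀ := Over.OverMorphism.ext hσ₂
  let y : (yon S).obj (Over.mk str) ⟶ F.obj := (yon S).map σ' ≫ p
  refine ⟨y ≫ b, ?_, ⟨?_⟩⟩
  · rw [← Category.assoc, show (yon S).map i ≫ y = ξ by
      rw [← Category.assoc, ← Functor.map_comp, hσi]; exact hg₀, hξb]
  · have hy : (yon S).map (𝟙 (Over.mk str)) = y ≫ q := by
      rw [Category.assoc, ← hc, ← Functor.map_comp, hσc]
    have hb : spHom (BasedFunctor.comp (AlgSt.ofSpMap y) (BasedFunctor.comp e (FibCat.fpSnd z f))) = y ≫ b := by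
      rw [spHom_comp, spHom_ofSpMap]
    exact whiskerRightIso (whiskerLeftIso (AlgSt.ofOverCat (Over.mk str))
        ((show BasedFunctor.comp (AlgSt.ofSpMap y) (BasedFunctor.comp e (FibCat.fpSnd z f)) ≅
          AlgSt.ofSpMap (y ≫ b) from isoOfSpMap _ ≪≫ eqToIso (congrArg AlgSt.ofSpMap hb))).symm) f ≪≫
      whiskerLeftIso (BasedFunctor.comp (overOfMap y) e) (FibCat.fpIso z f).symm ≪≫
      whiskerRightIso (overMapPullIso y Φ (𝟙 _) hy ≪≫ overMapIdIso _) z

end Groth.Agent.AlgStkX.HensLift
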