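import Groth.Agent.AlgStkX.CoverDescent
import Groth.Agent.AlgStkX.AffineTorsor
import Groth.Agent.QuotLib.AtlasProps
import Groth.Agent.GerbFlat.Section
import Groth.Agent.S12760

/-!
# `[X/G]` is algebraic if a free `G`-scheme covers `X` smoothly and equivariantly
-/

set_option backward.isDefEq.respectTransparency false
set_option backward.isDefEq.respectTransparency.types false
set_option linter.unusedVariables false

universe u

open CategoryTheory CategoryTheory.Functor CategoryTheory.Limits MonoidalCategory CartesianMonoidalCategory MonObj GrpObj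
  AlgebraicGeometry Opposite AlgSp

namespace Groth.Agent.AlgStkX

open Groth.Agent.FibBase Groth.Agent.AlgStLib Groth.Agent.AlgSpLib Groth.Agent.GrpSchLib

variable {S : Scheme.{u}} {G : Over S} [GrpObj G] {X P : Over S} {aX : AlgGrp.Action G X}
  {aP : AlgGrp.Action G P}

local notation "K₀" => Scheme.fppfPrecoverage

/-- A free action: no point has a nontrivial stabiliser. -/
def ActFree (a : AlgGrp.Action G P) : Prop :=
  ∀ ⦃T : Over S⦄ (g : T ⟶ G) (x : T ⟶ P), lift g x ≫ a.act = x → g = 1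

variable (aP) in
/-- A torsor over `P` as a torsor over `X`, along an equivariant map. -/
noncomputable def pushObj (pr : P ⟶ X) (hpr : aP.act ≫ pr = (G ◁ pr) ≫ aX.act)
    (A : AlgSt.QuotObj K₀ G aP) : AlgSt.QuotObj K₀ G aX where
  base := A.base
  P := A.P
  act := A.act
  π := A.π
  cart := A.cart
  loc := A.loc
  φ := A.φ ≫ pr
  eqv := by rw [← Category.assoc, A.eqv, Category.assoc, hpr, MonoidalCategory.whiskerLeft_comp, Category.assoc]

/-- Change of the space acted on along an equivariant map. -/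
noncomputable def pushSt (pr : P ⟶ X) (hpr : aP.act ≫ pr = (G ◁ pr) ≫ aX.act) :
    AlgSt.QuotSt K₀ G aP ⥤ᵇ AlgSt.QuotSt K₀ G aX where
  toFunctor :=
    { obj := pushObj aP pr hpr
      map := fun {A A'} f =>
        { base := f.base
          top := f.top
          eqv := f.eqv
          cart := f.cart
          wφ := by
            show f.top ≫ A'.φ ≫ pr = A.φ ≫ pr
            rw [← Category.assoc, f.wφ] }
      map_id := fun A => AlgSt.QuotObj.hom_ext rfl rfl
      map_comp := fun f g => AlgSt.QuotObj.hom_ext rfl rfl }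
  w := rfl

variable {pr : P ⟶ X} {hpr : aP.act ≫ pr = (G ◁ pr) ≫ aX.act}

instance pushSt_faithful : (pushSt (aX := aX) (aP := aP) pr hpr).toFunctor.Faithful where
  map_injective {A A' f g} h :=
    AlgSt.QuotObj.hom_ext (congrArg (fun t => t.base) h :) (congrArg (fun t => t.top) h :)

/-! ## Free actions give stacks in setoids -/

theorem faithful_forget_of_free (ha : ActFree aP) : (AlgSt.QuotSt K₀ G aP).p.Faithful := by
  refine ⟨fun {A A'} m m' h => ?_⟩
  have hb : m.base = m'.base := h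
  refine AlgSt.QuotObj.hom_ext hb ?_
  have hπ : m'.top ≫ A'.π = m.top ≫ A'.π := by rw [m.cart.w, m'.cart.w, hb]
  let w := A'.cart.lift m'.top m.top hπ
  let g : A.P ⟶ G := w ≫ fst G A'.P
  have hw : w = lift g m.top := by
    apply CartesianMonoidalCategory.hom_ext
    · rw [lift_fst]
    · rw [lift_snd]; exact A'.cart.lift_snd _ _ _
  have e : w ≫ A'.act.act = m'.top := A'.cart.lift_fst _ _ _
  have hg : lift g (m.top ≫ A'.φ) ≫ aP.act = m.top ≫ A'.φ := by
    have h2 : lift g (m.top ≫ A'.φ) = w ≫ (G ◁ A'.φ) := by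
      rw [hw, lift_whiskerLeft]
    rw [h2, Category.assoc, ← A'.eqv, reassoc_of% e, m.wφ, m'.wφ]
  rw [← e, hw, ha g _ hg, act_one]

/-! ## The base change of `[P/G] ⟶ [X/G]` to the cover -/

variable (hpr) in
/-- The trivial torsor of the image of a point is the image of the trivial torsor. -/
noncomputable def kappa (a : Over P) :
    (QuotLib.quotOver K₀ G aX).obj ((AlgSt.overMap pr).obj a) ≅
      (pushSt pr hpr).obj ((QuotLib.quotOver K₀ G aP).obj a) where
  hom :=
    { base := 𝟙 a.left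
      top := 𝟙 (G ⊗ a.left)
      eqv := (Category.comp_id _).trans (((congrArg (· ≫ _) (MonoidalCategory.whiskerLeft_id G _)).trans
        (Category.id_comp _))).symm
      cart := IsPullback.id_horiz (snd G a.left)
      wφ := by
        show 𝟙 _ ≫ ((G ◁ a.hom) ≫ aP.act) ≫ pr = (G ◁ (a.hom ≫ pr)) ≫ aX.act
        rw [Category.id_comp, Category.assoc, hpr, ← MonoidalCategory.whiskerLeft_comp_assoc] }
  inv :=
    { base := 𝟙 a.left
      top := 𝟙 (G ⊗ a.left)
      eqv := (Category.comp_id _).trans (((congrArg (· ≫ _) (MonoidalCategory.whiskerLeft_id G _)).trans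
        (Category.id_comp _))).symm
      cart := IsPullback.id_horiz (snd G a.left)
      wφ := by
        show 𝟙 _ ≫ (G ◁ (a.hom ≫ pr)) ≫ aX.act = ((G ◁ a.hom) ≫ aP.act) ≫ pr
        rw [Category.id_comp, Category.assoc, hpr, ← MonoidalCategory.whiskerLeft_comp_assoc] }
  hom_inv_id := AlgSt.QuotObj.hom_ext (Category.id_comp _) (Category.id_comp _)
  inv_hom_id := AlgSt.QuotObj.hom_ext (Category.id_comp _) (Category.id_comp _)

variable (hpr) in
/-- The square of covers commutes. -/
noncomputable def coverSquare :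
    BasedFunctor.comp (AlgSt.overMap pr) (QuotLib.quotOver K₀ G aX) ≅
      BasedFunctor.comp (QuotLib.quotOver K₀ G aP) (pushSt pr hpr) :=
  BasedNatIso.mkNatIso
    (NatIso.ofComponents (fun a => kappa hpr a) fun {a b} t =>
      AlgSt.QuotObj.hom_ext ((Category.comp_id _).trans (Category.id_comp _).symm)
        ((Category.comp_id _).trans (Category.id_comp _).symm))
    (fun a => IsHomLift.map (AlgSt.QuotSt K₀ G aX).p (kappa hpr a).hom)

variable (hpr) in
/-- The functor from `P` to the base change. -/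
noncomputable def toBaseChange :
    FibCat.overCat P ⥤ᵇ FibCat.fp (QuotLib.quotOver K₀ G aX) (pushSt pr hpr) :=
  FibCat.fpLift (AlgSt.overMap pr) (QuotLib.quotOver K₀ G aP) (coverSquare hpr)

theorem toBaseChange_isEquivOver (hst : FibCat.IsFibGrpd (AlgSt.QuotSt K₀ G aP).p) :
    FibCat.IsEquivOver (toBaseChange (aX := aX) (aP := aP) hpr) := by
  refine isEquivOver_of_exists_iso _ ⟨fun {a b} m => ?_⟩ ⟨fun {a b} f g h => ?_⟩ fun θ => ?_
  · let k : (AlgSt.overMap pr).obj a ⟶ (AlgSt.overMap pr).obj b := m.hom.fst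
    let n : (QuotLib.quotOver K₀ G aP).obj a ⟶ (QuotLib.quotOver K₀ G aP).obj b := m.hom.snd
    have w : (QuotLib.quotOver K₀ G aX).map k ≫ (kappa hpr b).hom = (kappa hpr a).hom ≫ (pushSt pr hpr).map n :=
      m.hom.w
    have hbase : n.base = k.left := by
      have := congrArg (fun t => t.base) w
      exact ((Category.id_comp _).symm.trans this.symm).trans (Category.comp_id _)
    have htop : n.top = G ◁ k.left := by
      have := congrArg (fun t => t.top) w
      exact ((Category.id_comp _).symm.trans this.symm).trans (Category.comp_id _)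
    have hk : k.left ≫ b.hom = a.hom := by
      have h1 := congrArg (QuotLib.sec G a.left ≫ ·) n.wφ
      rw [htop] at h1
      change QuotLib.sec G a.left ≫ (G ◁ k.left) ≫ (G ◁ b.hom) ≫ aP.act =
        QuotLib.sec G a.left ≫ (G ◁ a.hom) ≫ aP.act at h1
      simp only [QuotLib.sec, ← MonoidalCategory.whiskerLeft_comp_assoc, lift_whiskerLeft_assoc,
        Category.id_comp, act_one] at h1
      exact h1
    refine ⟨Over.homMk k.left hk, ObjectProperty.hom_ext _ (CategoricalPullback.hom_ext (Over.OverMorphism.ext rfl) ?_)⟩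
    exact AlgSt.QuotObj.hom_ext hbase.symm htop.symm
  · exact Over.OverMorphism.ext (congrArg (fun t => t.hom.fst.left) h)
  · obtain ⟨⟨x, A, i⟩, hi⟩ := θ
    have hi' : (AlgSt.QuotSt K₀ G aX).p.IsHomLift (𝟙 x.left) i.hom := hi
    let m : QuotLib.triv K₀ G aX x.hom ⟶ (pushSt pr hpr).obj A := i.hom
    let s : x.left ⟶ A.P := QuotLib.sec G x.left ≫ m.top
    have hs : (s ≫ A.φ) ≫ pr = x.hom := by
      obtain ⟨hx, -⟩ := QuotLib.trivHom_hom m
      exact (Category.assoc _ _ _).trans hx
    let p : Over P := Over.mk (s ≫ A.φ)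
    let v : (QuotLib.quotOver K₀ G aP).obj p ⟶ A := QuotLib.trivHom A s (s ≫ A.φ) rfl
    have hvb : v.base = m.base := by
      show s ≫ A.π = m.base
      exact (Category.assoc _ _ _).trans ((congrArg (QuotLib.sec G x.left ≫ ·) m.cart.w).trans
        ((Category.assoc _ _ _).symm.trans ((congrArg (· ≫ m.base) (lift_snd _ _)).trans (Category.id_comp _))))
    have hm : IsIso v.base := by
      rw [hvb]
      have := IsHomLift.fac' (AlgSt.QuotSt K₀ G aX).p (𝟙 x.left) i.hom
      rw [show m.base = (AlgSt.QuotSt K₀ G aX).p.map i.hom from rfl]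
      infer_instance
    have : IsIso ((AlgSt.QuotSt K₀ G aP).p.map v) := hm
    have : (AlgSt.QuotSt K₀ G aP).p.IsHomLift ((AlgSt.QuotSt K₀ G aP).p.map v) v :=
      IsHomLift.map (AlgSt.QuotSt K₀ G aP).p v
    have : IsIso v := isIso_of_lift (hp := hst) ((AlgSt.QuotSt K₀ G aP).p.map v) v
    let β : (AlgSt.overMap pr).obj p ≅ x := Over.isoMk (Iso.refl _) ((Category.id_comp _).trans hs.symm)
    refine ⟨p, fpIsoMk β (asIso v) ?_, ?_⟩
    · show (QuotLib.quotOver K₀ G aX).map β.hom ≫ m = (kappa hpr p).hom ≫ (pushSt pr hpr).map v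
      refine AlgSt.QuotObj.hom_ext ?_ ?_
      · show 𝟙 _ ≫ m.base = 𝟙 _ ≫ v.base
        rw [hvb]; rfl
      · show (G ◁ 𝟙 _) ≫ m.top = 𝟙 _ ≫ (G ◁ s) ≫ A.act.act
        rw [MonoidalCategory.whiskerLeft_id, Category.id_comp, Category.id_comp]
        exact QuotLib.top_eq m
    · exact fp_isHomLift (F := QuotLib.quotOver K₀ G aX) (G := pushSt pr hpr) (𝟙 x.left) _
        (h := IsHomLift.map (Over.forget X) β.hom)

/-! ## Algebraicity -/

/-- `[X/G]` is algebraic if a free `G`-scheme covers `X` smoothly, surjectively and equivariantly. -/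
theorem isAlgStack_of_free_cover [Flat G.hom] [LocallyOfFinitePresentation G.hom] [IsAffineHom G.hom]
    (hpr : aP.act ≫ pr = (G ◁ pr) ≫ aX.act) (ha : ActFree aP) [Smooth pr.left] [Surjective pr.left] :
    AlgSt.IsAlgStack Scheme.fppfPrecoverage (AlgSt.QuotSt K₀ G aX) := by
  have hlocSm := isLocalOnBase_fppf_of_fpqc (isLocalOnBase_fpqc_locP (S := S) (P := @Smooth))
  have hlocSu := Groth.Agent.GerbFlat.isLocalOnBase_isSurjectiveMor (S := S)
  let u := pushSt (aX := aX) (aP := aP) pr hpr
  have h𝒰 : Stk.IsStack (J S) (AlgSt.QuotSt K₀ G aP) := isStack_quotSt aP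
  have h𝒳 : Stk.IsStack (J S) (AlgSt.QuotSt K₀ G aX) := isStack_quotSt aX
  obtain ⟨p₁, p₂, p₃⟩ := QuotLib.quot_flat_lfp_surjective (G := G) (aX := aP)
  obtain ⟨x₁, x₂, x₃⟩ := QuotLib.quot_flat_lfp_surjective (G := G) (aX := aX)
  have hto : ∀ Z : Over S, FibCat.IsEquivOver (AlgSt.toOverCat Z) := isEquivOver_toOverCat
  have hU : AlgSt.RepByAlgSp (AlgSt.QuotSt K₀ G aP) :=
    repByAlgSp_of_fppf_cover h𝒰 (isFibSetoid_iff.2 ⟨h𝒰.1, faithful_forget_of_free ha⟩) (IsAlgSpace.yon_obj P)
      (BasedFunctor.comp (AlgSt.toOverCat P) (QuotLib.quotOver K₀ G aP))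
      (repByAlgSpWith_precomp (hto P) p₁) (repByAlgSpWith_precomp (hto P) p₂) (repByAlgSpWith_precomp (hto P) p₃)
  have hbc : ∀ {Q : MorphismProperty (Sp S)}, StableBC Q → Q ((yon S).map pr) →
      AlgSt.RepByAlgSpWith Q (FibCat.fpFst (QuotLib.quotOver K₀ G aX) u) := fun {Q} hQ hq => by
    have h0 : AlgSt.RepByAlgSpWith Q (AlgSt.overMap pr) :=
      (repByAlgSpWith_iff_of_square (f := AlgSt.overMap pr) (f' := AlgSt.ofSpMap ((yon S).map pr))
        (a := AlgSt.toOverCat P) (b := AlgSt.toOverCat X) (hto P) (hto X)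
        (overIso _ _ fun z => by
          show 𝟙 z.base ≫ (z.sec.down ≫ pr) = z.sec.down ≫ pr
          simp)).2
        (repByAlgSpWith_ofSpMap hQ (IsAlgSpace.yon_obj P) (IsAlgSpace.yon_obj X) _ hq)
    obtain ⟨g, hg, -, ⟨ig⟩⟩ := isEquivOver_inv (toBaseChange_isEquivOver (aX := aX) (aP := aP) (hpr := hpr) h𝒰.1)
    exact (repByAlgSpWith_iff_of_square (f := AlgSt.overMap pr)
      (f' := FibCat.fpFst (QuotLib.quotOver K₀ G aX) u) (a := g) (b := BasedFunctor.id _) hg isEquivOver_id
      (whiskerRightIso ig.symm (FibCat.fpFst (QuotLib.quotOver K₀ G aX) u))).1 h0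
  have hsm : LocP @Smooth ((yon S).map pr) :=
    locP_of_repWith ((repWith_yon_map_iff (P := @Smooth) _).2 ‹Smooth pr.left›)
  have hsu : IsSurjectiveMor ((yon S).map pr) :=
    surjective_map_of_repWith ((repWith_yon_map_iff (P := @Surjective) _).2 ‹Surjective pr.left›)
  have hles : LocEssSurj (QuotLib.quotOver K₀ G aX) := locEssSurj_of_repByAlgSp x₁ x₂ x₃
  have hrep : AlgSt.RepByAlgSp1 u :=
    repByAlgSp1_of_locEssSurj h𝒰 h𝒳 hles (repByAlgSp1_of_repByAlgSpWith (hbc stableBC_locP hsm))
  exact Groth.Agent.S12760.result h𝒰 h𝒳 hU u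
    (repByAlgSpWith_of_locEssSurj stableBC_locP hlocSm hrep hles (hbc stableBC_locP hsm))
    (repByAlgSpWith_of_locEssSurj stableBC_isSurjectiveMor hlocSu hrep hles (hbc stableBC_isSurjectiveMor hsu))

end Groth.Agent.AlgStkX
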