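import Groth.Agent.AlgStLib.QuasiCompact
import Groth.Agent.AlgStLib.DiagLFT
import Groth.Agent.GerbFlat.Main

/-!
# A gerbe with quasi-compact diagonal has a base with quasi-compact diagonal
-/

set_option backward.isDefEq.respectTransparency false
set_option backward.isDefEq.respectTransparency.types false

universe u

open CategoryTheory CategoryTheory.Functor CategoryTheory.Limits AlgebraicGeometry Opposite AlgSp
open Groth.Agent.FibBase Groth.Agent.AlgSpLib Groth.Agent.AlgStLib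

namespace Groth.Agent.AlgStkX.GerbeQc

variable {S : Scheme.{u}} {𝒳 𝒴 𝒲 : AlgSt.Cat S}

local notation "K₀" => Scheme.fppfPrecoverage

/-- Quasi-compactness descends along a surjective functor in front. -/
theorem isQuasiCompactMor_of_surjective_comp (h𝒳 : AlgSt.IsAlgStack K₀ 𝒳) (h𝒲 : AlgSt.IsAlgStack K₀ 𝒲)
    (h𝒴 : Stk.IsStack (QuotSh.J K₀ S) 𝒴) (hΔ : AlgSt.RepByAlgSp1 (FibCat.diag (FibCat.toSelf 𝒴)))
    {d : 𝒳 ⥤ᵇ 𝒲} {w : 𝒲 ⥤ᵇ 𝒴} (hd : AlgSt.IsSurjective d)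
    (h : AlgSt.IsQuasiCompactMor K₀ (BasedFunctor.comp d w)) : AlgSt.IsQuasiCompactMor K₀ w := by
  intro 𝒯 h𝒯 hq t
  have hfp := isAlgStack_fp h𝒯 h𝒲 h𝒴 hΔ t w
  have hfp' := isAlgStack_fp h𝒯 h𝒳 h𝒴 hΔ t (BasedFunctor.comp d w)
  exact isQuasiCompact_of_surjective (fp_isFibGrpd hfp.isStack.1 h𝒳.isStack.1 h𝒲.isStack.1) hfp
    (pts_surjective_fpFst h𝒳.isStack.1 h𝒲.isStack.1 hfp.isStack.1 (FibCat.fpSnd t w) hd)
    (isQuasiCompact_of_equiv' (pasteHor_isEquivOver t d w) (h 𝒯 h𝒯 hq t))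

theorem isQuasiCompactMor_diag_congr {f f' : 𝒳 ⥤ᵇ 𝒴} (h : f = f')
    (hf : AlgSt.IsQuasiCompactMor K₀ (FibCat.diag f')) : AlgSt.IsQuasiCompactMor K₀ (FibCat.diag f) := by
  subst h; exact hf

/-- The diagonal of the base of a gerbe is quasi-compact if that of the gerbe is. -/
theorem isQuasiCompactMor_diag_of_isGerbeOver (h𝒳 : AlgSt.IsAlgStack K₀ 𝒳) (h𝒴 : AlgSt.IsAlgStack K₀ 𝒴)
    {f : 𝒳 ⥤ᵇ 𝒴} (hf : Gerb.IsGerbeOver (QuotSh.J K₀ S) f)
    (hΔ : AlgSt.IsQuasiCompactMor K₀ (FibCat.diag (FibCat.toSelf 𝒳))) :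
    AlgSt.IsQuasiCompactMor K₀ (FibCat.diag (FibCat.toSelf 𝒴)) := by
  let t := FibCat.toSelf 𝒴
  have hs := isStack_selfOver (S := S) (K := K₀)
  have hsΔ : AlgSt.RepByAlgSp1 (FibCat.diag (FibCat.toSelf (FibCat.selfOver (Over S) : AlgSt.Cat S))) :=
    repByAlgSpWith_diag_toSelf_selfOver
  have hff := Groth.Agent.GerbFlat.isAlgStack_fp_self h𝒳 h𝒴 f
  have hXX := isAlgStack_fp h𝒳 h𝒳 hs hsΔ (BasedFunctor.comp f t) (BasedFunctor.comp f t)
  have hYY := isAlgStack_fp h𝒴 h𝒴 hs hsΔ t t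
  have hsurj : AlgSt.IsSurjective (FibCat.diag f) :=
    (Groth.Agent.GerbFlat.fppf_and_diag_of_isGerbeOver h𝒳 h𝒴 hf).2.1
  have hh : AlgSt.IsQuasiCompactMor K₀ (BasedFunctor.comp (FibCat.diag f) (weaken f f t)) :=
    isQuasiCompactMor_of_iso (diagCompIso f t).symm (isQuasiCompactMor_diag_congr (comp_toSelf f) hΔ)
  have hw := isQuasiCompactMor_of_surjective_comp h𝒳 hff hXX.isStack hXX.diag hsurj hh
  have hw₁ := repByAlgSp1_of_repByAlgSpWith (repByAlgSpWith_weaken f f t (repByAlgSp1_iff_top.1 h𝒴.diag))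
  have hw₂ := (repByAlgSpWith_isQuasiCompactMor_iff hff hXX.isStack hXX.diag hw₁).2 hw
  have hl := Groth.Agent.GerbFlat.locEssSurj_of_locSurjObj h𝒳.isStack.1 h𝒴.isStack.1 hf.1
  exact (repByAlgSpWith_isQuasiCompactMor_iff h𝒴 hYY.isStack hYY.diag h𝒴.diag).1
    (repByAlgSpWith_of_locEssSurj stableBC_isQuasiCompactMor
      (isLocalOnBase_fppf_of_fpqc isLocalOnBase_fpqc_isQuasiCompactMor) h𝒴.diag
      (locEssSurj_pairMap t hl hl)
      ((repByAlgSpWith_iff_of_square (f' := weaken f f t) (f := FibCat.fpFst (pairMap f f t) (FibCat.diag t))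
        (a := diagComparison f f t) (b := BasedFunctor.id _) (diagComparison_isEquivOver f f t) isEquivOver_id
        (Iso.refl _)).2 hw₂))

end Groth.Agent.AlgStkX.GerbeQc
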