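import Groth.Agent.AlgStLib.SpBGDiag
import Groth.Agent.AlgSpBase.SpaceEquiv
import Groth.Agent.AlgSpDec.Basic
import Mathlib.CategoryTheory.Monoidal.Cartesian.Grp

/-!
# Group spaces from groups of points; points of spaces over a smaller base
-/

set_option autoImplicit false
set_option backward.isDefEq.respectTransparency false
set_option backward.isDefEq.respectTransparency.types false

universe u

open CategoryTheory CategoryTheory.Limits AlgebraicGeometry Opposite AlgSp Groth.Agent.AlgSpLib
open Groth.Agent.AlgStLib.SheafGlue Groth.Agent.AlgSpBase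

namespace Groth.Agent.AlgStkX.GrpPoints

variable {S : Scheme.{u}}

section Group

variable {X : Sp S} [∀ W : Over S, Group ((yon S).obj W ⟶ X)]

/-- Compatibility of the groups of points with restriction. -/
def IsNatMul (X : Sp S) [∀ W : Over S, Group ((yon S).obj W ⟶ X)] : Prop :=
  ∀ ⦃V W : Over S⦄ (k : V ⟶ W) (a b : (yon S).obj W ⟶ X),
    (yon S).map k ≫ (a * b) = ((yon S).map k ≫ a) * ((yon S).map k ≫ b)

/-- Restriction of points as a homomorphism. -/
def resHom (hn : IsNatMul X) {V W : Over S} (k : V ⟶ W) : ((yon S).obj W ⟶ X) →* ((yon S).obj V ⟶ X) :=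
  MonoidHom.mk' (fun a => (yon S).map k ≫ a) (fun a b => hn k a b)

/-- Morphisms into a sheaf with natural groups of points form a group. -/
@[reducible] noncomputable def homGroup (hn : IsNatMul X) (P : Sp S) : Group (P ⟶ X) :=
  letI : Mul (P ⟶ X) := ⟨fun a b => homOfPoints (fun W q => (q ≫ a) * (q ≫ b))
    (fun V W k q => by rw [hn, Category.assoc, Category.assoc])⟩
  letI : One (P ⟶ X) := ⟨homOfPoints (fun _ _ => 1) (fun V W k q => (map_one (resHom hn k)).symm)⟩
  letI : Inv (P ⟶ X) := ⟨fun a => homOfPoints (fun W q => (q ≫ a)⁻¹)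
    (fun V W k q => by rw [Category.assoc]; exact (map_inv (resHom hn k) (q ≫ a)).symm)⟩
  have hmul : ∀ (a b : P ⟶ X) (W : Over S) (q : (yon S).obj W ⟶ P), q ≫ (a * b) = (q ≫ a) * (q ≫ b) :=
    fun a b W q => comp_homOfPoints _ _ q
  have hone : ∀ (W : Over S) (q : (yon S).obj W ⟶ P), q ≫ (1 : P ⟶ X) = 1 := fun W q => comp_homOfPoints _ _ q
  have hinv : ∀ (a : P ⟶ X) (W : Over S) (q : (yon S).obj W ⟶ P), q ≫ a⁻¹ = (q ≫ a)⁻¹ :=
    fun a W q => comp_homOfPoints _ _ q
  Group.ofLeftAxioms (fun a b c => hom_ext_points fun W q => by simp only [hmul, mul_assoc])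
    (fun a => hom_ext_points fun W q => by simp only [hmul, hone, one_mul])
    (fun a => hom_ext_points fun W q => by simp only [hmul, hone, hinv, inv_mul_cancel])

theorem comp_mul (hn : IsNatMul X) {P Q : Sp S} (f : Q ⟶ P) (a b : P ⟶ X) :
    letI := homGroup hn P; letI := homGroup hn Q; f ≫ (a * b) = (f ≫ a) * (f ≫ b) := by
  refine hom_ext_points fun W q => ?_
  rw [← Category.assoc]
  refine (comp_homOfPoints _ _ (q ≫ f)).trans ?_
  rw [Category.assoc, Category.assoc]
  exact (comp_homOfPoints (fun W (q : (yon S).obj W ⟶ Q) => (q ≫ f ≫ a) * (q ≫ f ≫ b))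
    (fun V W k q => by rw [hn, Category.assoc, Category.assoc]) q).symm

/-- A sheaf over the final sheaf with natural groups of points is a group object. -/
@[reducible] noncomputable def grpObjOfPoints {B : Sp S} (hB : IsTerminal B) (Y : Over B)
    [∀ W : Over S, Group ((yon S).obj W ⟶ Y.left)] (hn : IsNatMul Y.left) : GrpObj Y :=
  let F : (Over B)ᵒᵖ ⥤ GrpCat.{u + 1} :=
    { obj := fun Z => @GrpCat.of (Z.unop.left ⟶ Y.left) (homGroup hn _)
      map := fun {Z Z'} f =>
        letI := homGroup hn Z.unop.left
        letI := homGroup hn Z'.unop.left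
        GrpCat.ofHom (MonoidHom.mk' (fun a : Z.unop.left ⟶ Y.left => f.unop.left ≫ a) (comp_mul hn f.unop.left))
      map_id := fun Z => GrpCat.ext fun a => Category.id_comp (show Z.unop.left ⟶ Y.left from a)
      map_comp := fun f g => GrpCat.ext fun a => Category.assoc g.unop.left f.unop.left a }
  GrpObj.ofRepresentableBy Y F
    { homEquiv := fun {Z} =>
        { toFun := fun f => f.left
          invFun := fun m => Over.homMk m (hB.hom_ext _ _)
          left_inv := fun f => Over.OverMorphism.ext rfl
          right_inv := fun m => rfl }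
      homEquiv_comp := fun f g => rfl }

end Group

section Base

variable {S' : Scheme.{u}} (g : S ⟶ S')

/-- The structure map of an extension records the lift. -/
theorem jproj_app (F : Sp S) (T : Over S') (a : JSec g F T) :
    ((jproj g F).hom.app (op T) a).down.left = a.hom := by
  simp [jproj, baseIso, jshYonIso, isoOfRepresentableBy]
  show ((((AlgSpPts.isTerminalYon S).from F).hom.app (op (Over.mk a.hom)) a.val).down.left ≫ 𝟙 S) = a.hom
  exact Over.w _

/-- The point of an extension given by a point over the smaller base. -/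
noncomputable def upPt {F : Sp S} {W : Over S} (x : (yon S).obj W ⟶ F) :
    (yon S').obj ((Over.map g).obj W) ⟶ (jsh g).obj F :=
  (J S').uliftYonedaEquiv.symm (tautSec g ((J S).uliftYonedaEquiv x))

theorem upPt_natural {F : Sp S} {V W : Over S} (k : V ⟶ W) (x : (yon S).obj W ⟶ F) :
    upPt g ((yon S).map k ≫ x) = (yon S').map ((Over.map g).map k) ≫ upPt g x := by
  apply (J S').uliftYonedaEquiv.injective
  rw [← uliftYonedaEquiv_precomp, upPt, upPt, Equiv.apply_symm_apply, Equiv.apply_symm_apply,
    ← uliftYonedaEquiv_precomp, tautSec_res]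
  rfl

/-- The structure map over the base of a scheme over the smaller base. -/
def strMap (W : Over S) : (Over.map g).obj W ⟶ Over.mk g := Over.homMk W.hom rfl

theorem upPt_jproj {F : Sp S} {W : Over S} (x : (yon S).obj W ⟶ F) :
    upPt g x ≫ jproj g F = (yon S').map (strMap g W) := by
  apply (J S').uliftYonedaEquiv.injective
  rw [GrothendieckTopology.uliftYonedaEquiv_comp, upPt, Equiv.apply_symm_apply,
    GrothendieckTopology.uliftYonedaEquiv_uliftYoneda_map]
  refine ULift.ext _ _ (Over.OverMorphism.ext ?_)
  exact jproj_app g F _ _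

theorem upPt_injective {F : Sp S} {W : Over S} : Function.Injective (upPt g (F := F) (W := W)) := fun x y h => by
  apply (J S).uliftYonedaEquiv.injective
  have h' := (J S').uliftYonedaEquiv.symm.injective h
  have := JSec.val_congr h' (Over.homMk (𝟙 W.left) (Category.id_comp _) : W ⟶ Over.mk W.hom)
    (Over.homMk (𝟙 W.left) (Category.id_comp _) : W ⟶ Over.mk W.hom) rfl
  simp only [tautSec, ← Functor.map_comp_apply, ← op_comp] at this
  rw [show (Over.homMk (𝟙 W.left) (Category.id_comp _) : W ⟶ Over.mk W.hom) ≫
    (Over.homMk (𝟙 W.left) (Category.id_comp _) : Over.mk W.hom ⟶ W) = 𝟙 W from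
      Over.OverMorphism.ext (Category.id_comp _), op_id, Functor.map_id_apply, Functor.map_id_apply] at this
  exact this

theorem upPt_surjective {F : Sp S} {W : Over S} (τ : (yon S').obj ((Over.map g).obj W) ⟶ (jsh g).obj F)
    (hτ : τ ≫ jproj g F = (yon S').map (strMap g W)) : ∃ x : (yon S).obj W ⟶ F, upPt g x = τ := by
  let a : JSec g F ((Over.map g).obj W) := (J S').uliftYonedaEquiv τ
  have hh : a.hom = W.hom := by
    have := congrArg (fun q => q.down.left) (congrArg (J S').uliftYonedaEquiv hτ)
    simp only [GrothendieckTopology.uliftYonedaEquiv_comp, GrothendieckTopology.uliftYonedaEquiv_uliftYoneda_map]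
      at this
    exact (jproj_app g F _ a).symm.trans this
  refine ⟨(J S).uliftYonedaEquiv.symm
    (F.obj.map (Over.homMk (𝟙 W.left) ((Category.id_comp _).trans hh) : W ⟶ Over.mk a.hom).op a.val), ?_⟩
  rw [upPt, Equiv.apply_symm_apply, Equiv.symm_apply_eq]
  refine JSec.ext' _ a hh.symm ?_
  simp only [tautSec, ← Functor.map_comp_apply, ← op_comp]
  exact id_res g a _ (by simp)

theorem isQuasiSeparatedSp_of_jproj {F : Sp S} (h : AlgSp.IsQuasiSeparatedMor (jproj g F)) :
    IsQuasiSeparatedSp F := by
  let hT := AlgSpPts.isTerminalYon S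
  have sq : IsPullback (prod.fst : F ⨯ F ⟶ F) prod.snd (hT.from F) (hT.from F) :=
    IsPullback.of_is_product' (Limits.prodIsProd F F) hT
  have sqd : IsPullback (pullback.fst (jproj g F) (jproj g F)) (pullback.snd _ _) ((jsh g).map (hT.from F))
      ((jsh g).map (hT.from F)) :=
    (IsPullback.of_hasPullback (jproj g F) (jproj g F)).of_iso (Iso.refl _) (Iso.refl _) (Iso.refl _) (baseIso g).symm
      (by simp) (by simp) (by simp [jproj, hT]) (by simp [jproj, hT])
  have e : pullback.diagonal (jproj g F) = (jsh g).map (Limits.diag F) ≫ ((jsh_map_isPullback g sq).isoIsPullback _ _ sqd).hom := by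
    apply pullback.hom_ext
    · simp [← Functor.map_comp]
    · simp [← Functor.map_comp]
  have h' : RepWith @QuasiCompact ((jsh g).map (Limits.diag F)) := by
    have h0 : RepWith @QuasiCompact (pullback.diagonal (jproj g F)) := h
    rw [e] at h0
    have := repWith_comp h0 (repWith_of_isIso ((jsh_map_isPullback g sq).isoIsPullback _ _ sqd).inv
      (P := @QuasiCompact))
    rwa [Category.assoc, Iso.hom_inv_id, Category.comp_id] at this
  exact (repWith_jsh_iff g _).1 h'

end Base

end Groth.Agent.AlgStkX.GrpPoints
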