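import Groth.Agent.GrpSchLib.Action
import Groth.Agent.S3934
import Mathlib.AlgebraicGeometry.AlgClosed.Basic
import Mathlib.FieldTheory.IsAlgClosed.AlgebraicClosure
import Mathlib.FieldTheory.Finite.Basic

/-!
# Rational points on homogeneous spaces over finite fields (Lang)
-/

set_option autoImplicit false
set_option backward.isDefEq.respectTransparency false
set_option backward.isDefEq.respectTransparency.types false

universe u

open CategoryTheory CategoryTheory.Limits MonoidalCategory CartesianMonoidalCategory MonObj AlgebraicGeometry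

namespace Groth.Agent.AlgStkX.LangPt

open Groth.Agent.GrpSchLib

section Lift

variable {K : Type u} [Field K] [IsAlgClosed K]

theorem exists_point_lift {P Q : Scheme.{u}} (L : P ⟶ Q) [Surjective L] [LocallyOfFiniteType L]
    (a : Spec (CommRingCat.of K) ⟶ Q) : ∃ h : Spec (CommRingCat.of K) ⟶ P, h ≫ L = a := by
  let W := pullback L a
  have : JacobsonSpace ↥W := LocallyOfFiniteType.jacobsonSpace (pullback.snd L a)
  have : Surjective (pullback.snd L a) := inferInstance
  obtain ⟨w, -⟩ := (pullback.snd L a).surjective (IsLocalRing.closedPoint K)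
  obtain ⟨c, -, hc⟩ := nonempty_inter_closedPoints (Z := (Set.univ : Set ↥W)) ⟨w, trivial⟩ isClosed_univ.isLocallyClosed
  obtain ⟨s, hs⟩ := (pointEquivClosedPoint (pullback.snd L a)).symm ⟨c, hc⟩
  exact ⟨s ≫ pullback.fst L a, by rw [Category.assoc, pullback.condition, ← Category.assoc, hs, Category.id_comp]⟩

end Lift

section Finite

variable (F : Type u) [Field F] [Finite F] (K : Type u) [Field K] [Algebra F K]

local notation "SF" => Spec (CommRingCat.of F)

/-- A geometric point of the base. -/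
noncomputable abbrev SK : Over SF := Over.mk (Spec.map (CommRingCat.ofHom (algebraMap F K)))

/-- The arithmetic Frobenius of a geometric point. -/
noncomputable def σ : SK F K ⟶ SK F K :=
  letI := Fintype.ofFinite F
  Over.homMk (Spec.map (CommRingCat.ofHom (FiniteField.frobeniusAlgHom F K).toRingHom)) (by
    show Spec.map _ ≫ Spec.map _ = Spec.map _
    rw [← Spec.map_comp, ← CommRingCat.ofHom_comp]
    congr 2
    exact (FiniteField.frobeniusAlgHom F K).comp_algebraMap)

theorem σ_appTop (z : Γ(Spec (CommRingCat.of K), ⊤)) : (σ F K).left.appTop z = z ^ Nat.card F := by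
  letI := Fintype.ofFinite F
  let e := (Scheme.ΓSpecIso (CommRingCat.of K))
  apply e.commRingCatIsoToRingEquiv.injective
  show e.hom ((σ F K).left.appTop z) = e.hom (z ^ Nat.card F)
  have hn := congrArg (fun φ => φ z) (Scheme.ΓSpecIso_naturality
    (CommRingCat.ofHom (FiniteField.frobeniusAlgHom F K).toRingHom))
  refine hn.trans ?_
  rw [map_pow, Nat.card_eq_fintype_card]
  rfl

variable {F K}

theorem σ_comp_frob {G : Over SF} [IsAffine G.left] (Fr : G ⟶ G)
    (hFr : ∀ s : Γ(G.left, ⊤), Fr.left.appTop s = s ^ Nat.card F) (g : SK F K ⟶ G) :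
    σ F K ≫ g = g ≫ Fr := by
  apply Over.OverMorphism.ext
  refine ext_of_isAffine ?_
  ext s
  rw [Over.comp_left, Over.comp_left, Scheme.Hom.comp_appTop, Scheme.Hom.comp_appTop, CommRingCat.comp_apply,
    CommRingCat.comp_apply, hFr, map_pow]
  exact σ_appTop F K _

theorem hom_eq_specMap {P : Over SF} [IsAffine P.left] :
    P.hom = P.left.isoSpec.hom ≫ Spec.map ((Scheme.ΓSpecIso (CommRingCat.of F)).inv ≫ P.hom.appTop) := by
  rw [Spec.map_comp, ← Category.assoc]
  exact ((congrArg (· ≫ Spec.map (Scheme.ΓSpecIso (CommRingCat.of F)).inv) (Scheme.toSpecΓ_naturality P.hom).symm).trans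
    ((Category.assoc _ _ _).trans ((congrArg (P.hom ≫ ·) (toSpecΓ_SpecMap_ΓSpecIso_inv _)).trans (Category.comp_id _)))).symm

theorem exists_frob (G : Over SF) [IsAffine G.left] :
    ∃ Fr : G ⟶ G, ∀ s : Γ(G.left, ⊤), Fr.left.appTop s = s ^ Nat.card F := by
  letI := Fintype.ofFinite F
  let f : CommRingCat.of F ⟶ Γ(G.left, ⊤) := (Scheme.ΓSpecIso (CommRingCat.of F)).inv ≫ G.hom.appTop
  letI : Algebra F Γ(G.left, ⊤) := f.hom.toAlgebra
  let φ := FiniteField.frobeniusAlgHom F Γ(G.left, ⊤)
  let iso := G.left.isoSpec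
  have hG : G.hom = iso.hom ≫ Spec.map f := hom_eq_specMap
  refine ⟨Over.homMk (iso.hom ≫ Spec.map (CommRingCat.ofHom φ.toRingHom) ≫ iso.inv) ?_, fun s => ?_⟩
  · rw [hG, Category.assoc, Category.assoc, iso.inv_hom_id_assoc, ← Spec.map_comp]
    congr 2
    ext x
    exact φ.commutes x
  · show (iso.hom ≫ Spec.map (CommRingCat.ofHom φ.toRingHom) ≫ iso.inv).appTop s = _
    have : (iso.hom ≫ Spec.map (CommRingCat.ofHom φ.toRingHom) ≫ iso.inv).appTop =
        CommRingCat.ofHom φ.toRingHom := by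
      apply Spec.map_injective
      have h := Scheme.toSpecΓ_naturality (iso.hom ≫ Spec.map (CommRingCat.ofHom φ.toRingHom) ≫ iso.inv)
      rw [← cancel_epi iso.hom]
      refine h.symm.trans ?_
      show (iso.hom ≫ Spec.map (CommRingCat.ofHom φ.toRingHom) ≫ iso.inv) ≫ iso.hom = _
      simp
    rw [this, Nat.card_eq_fintype_card]
    rfl

theorem mem_range_of_pow_card {c : K} (hq : c ^ Nat.card F = c) : c ∈ Set.range (algebraMap F K) := by
  haveI := Fintype.ofFinite F
  have hs : ((Polynomial.X : Polynomial F) ^ Fintype.card F - Polynomial.X).Splits :=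
    Polynomial.splits_iff_card_roots.mpr (by
      rw [FiniteField.roots_X_pow_card_sub_X, FiniteField.X_pow_card_sub_X_natDegree_eq F
        Fintype.one_lt_card]; rfl)
  have hmem : c ∈ (((Polynomial.X : Polynomial F) ^ Fintype.card F - Polynomial.X).map (algebraMap F K)).roots := by
    rw [Polynomial.mem_roots (Polynomial.map_ne_zero
      (FiniteField.X_pow_card_sub_X_ne_zero F Fintype.one_lt_card))]
    simp [← Nat.card_eq_fintype_card, hq]
  rw [hs.roots_map] at hmem
  obtain ⟨a, -, ha⟩ := Multiset.mem_map.mp hmem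
  exact ⟨a, ha⟩

/-- A geometric point fixed by Frobenius of an affine scheme is rational. -/
theorem exists_rational_of_fixed {P : Over SF} [IsAffine P.left] (q : SK F K ⟶ P) (hq : σ F K ≫ q = q) :
    Nonempty (Over.mk (𝟙 SF) ⟶ P) := by
  let f : CommRingCat.of F ⟶ Γ(P.left, ⊤) := (Scheme.ΓSpecIso (CommRingCat.of F)).inv ≫ P.hom.appTop
  let ev : Γ(P.left, ⊤) ⟶ CommRingCat.of K := q.left.appTop ≫ (Scheme.ΓSpecIso (CommRingCat.of K)).hom
  have hfix : ∀ s, ev s ∈ Set.range (algebraMap F K) := fun s => by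
    refine mem_range_of_pow_card ?_
    have h := congrArg (fun m : SK F K ⟶ P => m.left.appTop s) hq
    simp only [Over.comp_left, Scheme.Hom.comp_appTop, CommRingCat.comp_apply, σ_appTop] at h
    show (Scheme.ΓSpecIso (CommRingCat.of K)).hom (q.left.appTop s) ^ Nat.card F = _
    rw [← map_pow, h]
    rfl
  have hev : f ≫ ev = CommRingCat.ofHom (algebraMap F K) := by
    have hw : q.left ≫ P.hom = Spec.map (CommRingCat.ofHom (algebraMap F K)) := Over.w q
    simp only [f, ev, Category.assoc]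
    rw [← Category.assoc P.hom.appTop, ← Scheme.Hom.comp_appTop, hw, Scheme.ΓSpecIso_naturality,
      Iso.inv_hom_id_assoc]
  let e : F ≃+* (algebraMap F K).range := RingEquiv.ofBijective (algebraMap F K).rangeRestrict
    ⟨fun a b h => (algebraMap F K).injective (congrArg Subtype.val h), (algebraMap F K).rangeRestrict_surjective⟩
  let ψ : Γ(P.left, ⊤) →+* F := (e.symm : (algebraMap F K).range →+* F).comp (ev.hom.codRestrict _ hfix)
  have hψ : f ≫ CommRingCat.ofHom ψ = 𝟙 _ := by
    ext x
    show e.symm ⟨ev (f x), _⟩ = x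
    rw [RingEquiv.symm_apply_eq]
    exact Subtype.ext (congrArg (fun m => m x) hev)
  refine ⟨Over.homMk (Spec.map (CommRingCat.ofHom ψ) ≫ P.left.isoSpec.inv) ?_⟩
  have hP : P.hom = P.left.isoSpec.hom ≫ Spec.map f := hom_eq_specMap
  show (Spec.map (CommRingCat.ofHom ψ) ≫ P.left.isoSpec.inv) ≫ P.hom = 𝟙 _
  rw [hP, Category.assoc, Iso.inv_hom_id_assoc, ← Spec.map_comp, hψ, Spec.map_id]

end Finite

/-- **Lang.** A scheme with a simply transitive action of a smooth connected affine group over a finite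
field has a rational point. -/
theorem exists_rational_point {F : Type u} [Field F] [Finite F] (G : Over (Spec (CommRingCat.of F))) [GrpObj G]
    [IsAffine G.left] [Smooth G.hom] [ConnectedSpace ↥G.left] {P : Over (Spec (CommRingCat.of F))}
    [IsAffine P.left] [LocallyOfFiniteType P.hom] [Surjective P.hom] (aP : AlgGrp.Action G P)
    (htr : ∀ (T : Over (Spec (CommRingCat.of F))) (p p' : T ⟶ P), ∃ g : T ⟶ G, lift g p ≫ aP.act = p') :
    Nonempty (Over.mk (𝟙 (Spec (CommRingCat.of F))) ⟶ P) := by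
  let K := AlgebraicClosure F
  obtain ⟨p₀, hp₀⟩ := exists_point_lift P.hom (SK F K).hom
  let p : SK F K ⟶ P := Over.homMk p₀ hp₀
  obtain ⟨Fr, hFr⟩ := exists_frob G
  obtain ⟨a, ha⟩ := htr _ p (σ F K ≫ p)
  have hL := Groth.Agent.S3934.result F G Fr hFr
  have : LocallyOfFiniteType ((𝟙 G * Fr⁻¹ : G ⟶ G).left) := by
    have h : LocallyOfFiniteType ((𝟙 G * Fr⁻¹ : G ⟶ G).left ≫ G.hom) := by
      rw [Over.w]; infer_instance
    exact locallyOfFiniteType_of_comp _ G.hom
  obtain ⟨h₀, hh₀⟩ := exists_point_lift ((𝟙 G * Fr⁻¹ : G ⟶ G).left) (a⁻¹ : SK F K ⟶ G).left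
  let h : SK F K ⟶ G := Over.homMk h₀ (by
    rw [← Over.w (𝟙 G * Fr⁻¹), ← Category.assoc, hh₀]
    exact Over.w _)
  have hh : h ≫ (𝟙 G * Fr⁻¹) = a⁻¹ := Over.OverMorphism.ext hh₀
  rw [MonObj.comp_mul, GrpObj.comp_inv, Category.comp_id, ← σ_comp_frob Fr hFr h] at hh
  have hg : (σ F K ≫ h⁻¹) * a = h⁻¹ := by
    rw [GrpObj.comp_inv]
    have := congrArg (fun t => t⁻¹) hh
    simp only [_root_.mul_inv_rev, inv_inv] at this
    rw [← this]
    group
  exact exists_rational_of_fixed (lift h⁻¹ p ≫ aP.act) (by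
    rw [← Category.assoc, comp_lift, ← ha, act_mul, hg])

end Groth.Agent.AlgStkX.LangPt
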