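import Groth.Agent.AlgStkX.SmoothOpen
import Groth.Agent.AlgStLib.Source
import Groth.Agent.AlgStLib.Small
import Groth.Agent.AlgStLib.UnivPts
import Groth.Agent.AlgStLib.LocEss
import Groth.Agent.AlgSpDec.LimOpen

/-!
# The largest open substack on which a representable morphism has a property
-/

set_option autoImplicit false
set_option backward.isDefEq.respectTransparency false
set_option backward.isDefEq.respectTransparency.types false

universe u

open CategoryTheory CategoryTheory.Functor CategoryTheory.Limits AlgebraicGeometry Opposite AlgSp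

namespace Groth.Agent.AlgStkX.LargestOpen

open Groth.Agent.FibBase Groth.Agent.AlgSpLib Groth.Agent.AlgStLib

variable {S : Scheme.{u}}

local notation "K₀" => Scheme.fppfPrecoverage

/-- `w` is the largest open subspace on which `q` has `P`. -/
def IsLargest (P : MorphismProperty (Sp S)) {X Y : AlgSp.Space S} (q : X ⟶ Y) (W : AlgSp.Space S) (w : W ⟶ X) :
    Prop :=
  RepWith @IsOpenImmersion w.hom ∧ P (w ≫ q).hom ∧
    ∀ (W₁ : AlgSp.Space S) (w₁ : W₁ ⟶ X), RepWith @IsOpenImmersion w₁.hom → P (w₁ ≫ q).hom →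
      ∃ k : W₁ ⟶ W, k ≫ w = w₁

/-- Properties of morphisms of spaces for which largest open subspaces exist and commute with base change. -/
structure Hyp (P Q R : MorphismProperty (Sp S)) : Prop where
  Pb : StableBC P
  Qb : StableBC Q
  Rb : StableBC R
  Pl : IsLocalOnBase IsFppfCover P
  Ql : IsLocalOnBase IsFppfCover Q
  Rl : IsLocalOnBase IsFppfCover R
  smooth : ∀ (X Y : AlgSp.Space S) (g : X ⟶ Y), LocP @Smooth g.hom → R g.hom
  largest : ∀ (X Y : AlgSp.Space S) (f : X ⟶ Y), Q f.hom → ∃ (W : AlgSp.Space S) (w : W ⟶ X), IsLargest P f W w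
  base : ∀ (X Y X' Y' : AlgSp.Space S) (f : X ⟶ Y) (g : Y' ⟶ Y) (f' : X' ⟶ Y') (g' : X' ⟶ X),
    IsPullback g'.hom f'.hom f.hom g.hom → Q f.hom → R g.hom →
    ∀ (W : AlgSp.Space S) (w : W ⟶ X), IsLargest P f W w →
      ∀ (W' : AlgSp.Space S) (w' : W' ⟶ X') (k : W' ⟶ W), IsPullback k.hom w'.hom w.hom g'.hom →
        IsLargest P f' W' w'

/-- Open subspaces with the same points differ by an isomorphism. -/
theorem exists_iso_of_range_eq {F A B : Sp S} (hF : IsAlgSpace F) {a : A ⟶ F} {b : B ⟶ F}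
    (ha : RepWith @IsOpenImmersion a) (hb : RepWith @IsOpenImmersion b)
    (h : Set.range (Points.map a) = Set.range (Points.map b)) : ∃ k : A ≅ B, k.hom ≫ b = a := by
  have key : ∀ {A B : Sp S} {a : A ⟶ F} {b : B ⟶ F}, RepWith @IsOpenImmersion a → RepWith @IsOpenImmersion b →
      Set.range (Points.map a) ⊆ Set.range (Points.map b) → ∃ k : A ⟶ B, k ≫ b = a := by
    intro A B a b ha hb h
    have hA : IsAlgSpace A := isAlgSpace_of_representable a ha.rep hF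
    have hsq := IsPullback.of_hasPullback b a
    have hsurj : Function.Surjective (Points.map (pullback.snd b a)) := fun x => by
      obtain ⟨y, hy⟩ := h ⟨x, rfl⟩
      obtain ⟨z, -, hz⟩ := exists_point_of_isPullback hsq hy
      exact ⟨z, hz⟩
    have := AlgSpDec.isIso_of_openImm_surjective hA (repWith_snd a hb) hsurj
    exact ⟨inv (pullback.snd b a) ≫ pullback.fst b a, by
      rw [Category.assoc, pullback.condition, IsIso.inv_hom_id_assoc]⟩
  obtain ⟨k, hk⟩ := key ha hb h.le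
  obtain ⟨k', hk'⟩ := key hb ha h.ge
  have := AlgSpDec.mono_of_openImm ha
  have := AlgSpDec.mono_of_openImm hb
  exact ⟨⟨k, k', (cancel_mono a).1 (by rw [Category.assoc, hk', hk, Category.id_comp]),
    (cancel_mono b).1 (by rw [Category.assoc, hk, hk', Category.id_comp])⟩, hk⟩

/-- Points of a composite with a map of sheaves. -/
theorem range_map_ofSpMap_comp {𝒜 : AlgSt.Cat S} {W F : Sp S} (w : W ⟶ F) (e : AlgSt.ofSp F ⥤ᵇ 𝒜) :
    Set.range (AlgSt.Points.map (BasedFunctor.comp (AlgSt.ofSpMap w) e)) =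
      AlgSt.Points.map e '' (spPt ⁻¹' Set.range (Points.map w)) := by
  ext a
  constructor
  · rintro ⟨v, rfl⟩
    exact ⟨_, ⟨spPt v, (spPt_map_ofSpMap w v).symm⟩, (pts_map_comp _ _ v).symm⟩
  · rintro ⟨c, ⟨v, hv⟩, rfl⟩
    obtain ⟨v, rfl⟩ := spPt_bijective.2 v
    refine ⟨v, (pts_map_comp _ _ v).trans ?_⟩
    rw [spPt_bijective.1 ((spPt_map_ofSpMap w v).trans hv)]

variable {𝒳 𝒴 : AlgSt.Cat S} {f : 𝒳 ⥤ᵇ 𝒴} {P Q R : MorphismProperty (Sp S)}

variable (P) in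
/-- `O` is the set of points of the largest open part of a base change on which it has `P`. -/
def IsLargeSet (f : 𝒳 ⥤ᵇ 𝒴) {V : AlgSp.Space S} (y : AlgSt.ofSp V.obj ⥤ᵇ 𝒴)
    (O : Set (AlgSt.Points (FibCat.fp f y))) : Prop :=
  ∃ (F : AlgSp.Space S) (e : AlgSt.ofSp F.obj ⥤ᵇ FibCat.fp f y) (_ : FibCat.IsEquivOver e)
    (W : AlgSp.Space S) (w : W ⟶ F),
    IsLargest P (ObjectProperty.homMk (spHom (BasedFunctor.comp e (FibCat.fpSnd f y))) : F ⟶ V) W w ∧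
      O = Set.range (AlgSt.Points.map (BasedFunctor.comp (AlgSt.ofSpMap w.hom) e))

theorem property_q (h : Hyp P Q R) (hf : AlgSt.RepByAlgSpWith Q f) {V F : AlgSp.Space S}
    {y : AlgSt.ofSp V.obj ⥤ᵇ 𝒴} (e : AlgSt.ofSp F.obj ⥤ᵇ FibCat.fp f y) (he : FibCat.IsEquivOver e) :
    Q (spHom (BasedFunctor.comp e (FibCat.fpSnd f y))) :=
  property_spHom_fpSnd h.Qb (fun hF hG _ ha => property_of_repBySpWith h.Ql hF hG ha) V.property F.property hf e he

theorem exists_space (h𝒳 : FibCat.IsFibGrpd 𝒳.p) (h𝒴 : FibCat.IsFibGrpd 𝒴.p) (hf : AlgSt.RepByAlgSp1 f)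
    {V : AlgSp.Space S} (y : AlgSt.ofSp V.obj ⥤ᵇ 𝒴) :
    ∃ (F : AlgSp.Space S) (e : AlgSt.ofSp F.obj ⥤ᵇ FibCat.fp f y), FibCat.IsEquivOver e := by
  obtain ⟨F, e, he⟩ := exists_space_fp_equiv h𝒳 h𝒴 hf V y
  exact ⟨F, BasedFunctor.comp e (fpSwap y f), isEquivOver_comp he (fpSwap_isEquivOver y f)⟩

theorem exists_largeSet (h : Hyp P Q R) (h𝒳 : FibCat.IsFibGrpd 𝒳.p) (h𝒴 : FibCat.IsFibGrpd 𝒴.p)
    (hf : AlgSt.RepByAlgSpWith Q f) {V : AlgSp.Space S} (y : AlgSt.ofSp V.obj ⥤ᵇ 𝒴) :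
    ∃ O, IsLargeSet P f y O := by
  obtain ⟨F, e, he⟩ := exists_space h𝒳 h𝒴 (repByAlgSp1_of_repByAlgSpWith hf) y
  obtain ⟨W, w, hw⟩ := h.largest F V (ObjectProperty.homMk (spHom (BasedFunctor.comp e (FibCat.fpSnd f y))))
    (property_q h hf e he)
  exact ⟨_, F, e, he, W, w, hw, rfl⟩

theorem largeSet_unique {V : AlgSp.Space S} {y : AlgSt.ofSp V.obj ⥤ᵇ 𝒴} {O O' : Set (AlgSt.Points (FibCat.fp f y))}
    (hO : IsLargeSet P f y O) (hO' : IsLargeSet P f y O') : O = O' := by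
  have key : ∀ {O O'}, IsLargeSet P f y O → IsLargeSet P f y O' → O ⊆ O' := by
    rintro O O' ⟨F, e, he, W, w, hw, rfl⟩ ⟨F', e', he', W', w', hw', rfl⟩
    obtain ⟨g, hg, -, ⟨i⟩⟩ := isEquivOver_inv he'
    let k : F.obj ⟶ F'.obj := spHom (BasedFunctor.comp e g)
    have : IsIso k := isIso_spHom (Φ := BasedFunctor.comp e g) (isEquivOver_comp he hg)
    let I : BasedFunctor.comp (AlgSt.ofSpMap k) e' ≅ e :=
      (whiskerRightIso (isoOfSpMap (BasedFunctor.comp e g)) e').symm ≪≫ whiskerLeftIso e i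
    have hk : k ≫ spHom (BasedFunctor.comp e' (FibCat.fpSnd f y)) = spHom (BasedFunctor.comp e (FibCat.fpSnd f y)) := by
      rw [← spHom_congr (whiskerRightIso I (FibCat.fpSnd f y))]
      exact ((spHom_comp (AlgSt.ofSpMap k) (BasedFunctor.comp e' (FibCat.fpSnd f y))).trans
        (by rw [spHom_ofSpMap])).symm
    obtain ⟨l, hl⟩ := hw'.2.2 W (ObjectProperty.homMk (w.hom ≫ k))
      (repWith_comp hw.1 (repWith_of_isIso @IsOpenImmersion k)) (by
        show P ((w.hom ≫ k) ≫ spHom (BasedFunctor.comp e' (FibCat.fpSnd f y)))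
        rw [Category.assoc, hk]
        exact hw.2.1)
    have hl' : l.hom ≫ w'.hom = w.hom ≫ k := congrArg (fun m => m.hom) hl
    rintro _ ⟨v, rfl⟩
    refine ⟨AlgSt.Points.map (AlgSt.ofSpMap l.hom) v, ?_⟩
    rw [pts_map_comp, pts_map_comp, ← pts_map_congr I, pts_map_comp]
    congr 1
    exact spPt_bijective.1 (by
      rw [spPt_map_ofSpMap, spPt_map_ofSpMap, spPt_map_ofSpMap, spPt_map_ofSpMap, ← Points.map_comp,
        ← Points.map_comp, hl'])
  exact (key hO hO').antisymm (key hO' hO)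

/-- The comparison of base changes along a map of charts. -/
noncomputable abbrev kappa (f : 𝒳 ⥤ᵇ 𝒴) {V V' : Sp S} {y : AlgSt.ofSp V ⥤ᵇ 𝒴} {y' : AlgSt.ofSp V' ⥤ᵇ 𝒴}
    (K : AlgSt.ofSp V' ⥤ᵇ AlgSt.ofSp V) (β : y' ≅ BasedFunctor.comp K y) : FibCat.fp f y' ⥤ᵇ FibCat.fp f y :=
  fpMap (F := f) (G := y) (F' := f) (G' := y') (a := BasedFunctor.id _) (b := K) (c := BasedFunctor.id _)
    (Iso.refl _) β

theorem largeSet_baseChange (h : Hyp P Q R) (hf : AlgSt.RepByAlgSpWith Q f) {V V' : AlgSp.Space S}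
    {y : AlgSt.ofSp V.obj ⥤ᵇ 𝒴} {y' : AlgSt.ofSp V'.obj ⥤ᵇ 𝒴} (K : AlgSt.ofSp V'.obj ⥤ᵇ AlgSt.ofSp V.obj)
    (β : y' ≅ BasedFunctor.comp K y) (hK : R (spHom K)) {O : Set (AlgSt.Points (FibCat.fp f y))}
    (hO : IsLargeSet P f y O) : IsLargeSet P f y' (AlgSt.Points.map (kappa f K β) ⁻¹' O) := by
  obtain ⟨F, e, he, W, w, hw, rfl⟩ := hO
  let q : F.obj ⟶ V.obj := spHom (BasedFunctor.comp e (FibCat.fpSnd f y))
  let k : V'.obj ⟶ V.obj := spHom K
  let D : AlgSp.Space S := ⟨pullback q k, isAlgSpace_pullback F.property V'.property V.property _ _⟩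
  obtain ⟨Ec, hEc, ⟨j₁⟩, ⟨j₂⟩⟩ := exists_spCone (IsPullback.of_hasPullback q k)
  have : (BasedFunctor.id (AlgSt.ofSp V.obj)).toFunctor.Full := inferInstanceAs (𝟭 _).Full
  have : (BasedFunctor.id (AlgSt.ofSp V.obj)).toFunctor.Faithful := inferInstanceAs (𝟭 _).Faithful
  have : (BasedFunctor.id 𝒴).toFunctor.Full := inferInstanceAs (𝟭 _).Full
  have : (BasedFunctor.id 𝒴).toFunctor.Faithful := inferInstanceAs (𝟭 _).Faithful
  let m := fpMap (F := FibCat.fpSnd f y) (G := K) (F' := AlgSt.ofSpMap q) (G' := AlgSt.ofSpMap k)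
    (a := e) (b := BasedFunctor.id _) (c := BasedFunctor.id _)
    (isoOfSpMap (BasedFunctor.comp e (FibCat.fpSnd f y))) (isoOfSpMap K).symm
  let m₃ := fpMap (F := f) (G := y') (F' := f) (G' := BasedFunctor.comp K y) (a := BasedFunctor.id _)
    (b := BasedFunctor.id _) (c := BasedFunctor.id _) (Iso.refl _) β.symm
  let E := BasedFunctor.comp Ec (BasedFunctor.comp m (BasedFunctor.comp (pasteHor f K y) m₃))
  have hE : FibCat.IsEquivOver E := isEquivOver_comp hEc (isEquivOver_comp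
    (fpMap_isEquivOver _ _ he isEquivOver_id) (isEquivOver_comp (pasteHor_isEquivOver _ _ _)
      (fpMap_isEquivOver _ _ isEquivOver_id isEquivOver_id)))
  have hsnd : spHom (BasedFunctor.comp E (FibCat.fpSnd f y')) = pullback.snd q k := by
    let J : BasedFunctor.comp E (FibCat.fpSnd f y') ≅ AlgSt.ofSpMap (pullback.snd q k) :=
      (show BasedFunctor.comp E (FibCat.fpSnd f y') ≅ BasedFunctor.comp Ec (FibCat.fpSnd _ _) from Iso.refl _) ≪≫ j₂
    rw [spHom_congr J, spHom_ofSpMap]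
  let W' : AlgSp.Space S := ⟨pullback w.hom (pullback.fst q k),
    isAlgSpace_pullback W.property D.property F.property _ _⟩
  let w' : W' ⟶ D := ObjectProperty.homMk (pullback.snd w.hom (pullback.fst q k))
  have hlarge := h.base F V D V' (ObjectProperty.homMk q) (ObjectProperty.homMk k)
    (ObjectProperty.homMk (pullback.snd q k)) (ObjectProperty.homMk (pullback.fst q k))
    (IsPullback.of_hasPullback q k) (property_q h hf e he) hK W w hw W' w'
    (ObjectProperty.homMk (pullback.fst w.hom (pullback.fst q k))) (IsPullback.of_hasPullback _ _)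
  refine ⟨D, E, hE, W', w', ?_, ?_⟩
  · rw [hsnd]; exact hlarge
  rw [range_map_ofSpMap_comp, range_map_ofSpMap_comp]
  ext a
  obtain ⟨d, rfl⟩ := (pts_bijective_of_isEquivOver hE).2 a
  have hκ : AlgSt.Points.map (kappa f K β) (AlgSt.Points.map E d) =
      AlgSt.Points.map e (AlgSt.Points.map (AlgSt.ofSpMap (pullback.fst q k)) d) := by
    obtain ⟨p, rfl⟩ := AlgSt.Points.mk_surjective d
    let c := Ec.obj p.obj
    let mi : (e.obj c.obj.fst).obj.snd ≅ K.obj c.obj.snd :=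
      isoApp (isoOfSpMap (BasedFunctor.comp e (FibCat.fpSnd f y))) c.obj.fst ≪≫ c.obj.iso ≪≫
        (isoApp (isoOfSpMap K) c.obj.snd).symm
    let φ₂ : e.obj c.obj.fst ≅ (kappa f K β).obj (E.obj p.obj) :=
      fpIsoMk (Iso.refl _) mi (by
        show f.map (𝟙 _) ≫ 𝟙 _ ≫ (𝟙 _ ≫ ((e.obj c.obj.fst).obj.iso.hom ≫ y.map mi.hom) ≫
            (isoApp β c.obj.snd).inv) ≫ (isoApp β c.obj.snd).hom = (e.obj c.obj.fst).obj.iso.hom ≫ y.map mi.hom
        simp only [CategoryTheory.Functor.map_id, Category.id_comp, Category.assoc, Iso.inv_hom_id,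
          Category.comp_id])
    let φ₁ : (AlgSt.ofSpMap (pullback.fst q k)).obj p.obj ≅ c.obj.fst := (isoApp j₁ p.obj).symm
    exact (pts_eq_of_hom (p := (p.map (AlgSt.ofSpMap (pullback.fst q k))).map e) (q := (p.map E).map (kappa f K β))
      ((e.toFunctor.mapIso φ₁).hom ≫ φ₂.hom)).symm
  rw [Set.mem_preimage, hκ, (pts_bijective_of_isEquivOver he).1.mem_set_image,
    (pts_bijective_of_isEquivOver hE).1.mem_set_image, Set.mem_preimage, Set.mem_preimage, spPt_map_ofSpMap]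
  exact (Set.ext_iff.1 (range_map_snd_of_isPullback (IsPullback.of_hasPullback w.hom (pullback.fst q k))) _).symm

/-- The largest open set is saturated for the projection. -/
theorem largeSet_saturated (h : Hyp P Q R) (h𝒳 : FibCat.IsFibGrpd 𝒳.p) (h𝒴 : FibCat.IsFibGrpd 𝒴.p)
    (hf : AlgSt.RepByAlgSpWith Q f) {V : AlgSp.Space S} {y : AlgSt.ofSp V.obj ⥤ᵇ 𝒴}
    (hy : AlgSt.RepByAlgSpWith (LocP @Smooth) y) {O : Set (AlgSt.Points (FibCat.fp f y))}
    (hO : IsLargeSet P f y O) (a b : AlgSt.Points (FibCat.fp f y))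
    (hab : AlgSt.Points.map (FibCat.fpFst f y) a = AlgSt.Points.map (FibCat.fpFst f y) b) (ha : a ∈ O) : b ∈ O := by
  have hg := fp_isFibGrpd (F := f) (G := y) h𝒳 (isFibGrpd_ofSp _) h𝒴
  obtain ⟨D, eD, heD⟩ := exists_space_fp_equiv (isFibGrpd_ofSp V.obj) h𝒴 (repByAlgSp1_of_repByAlgSpWith hy) V y
  let K₁ := BasedFunctor.comp eD (FibCat.fpFst y y)
  let K₂ := BasedFunctor.comp eD (FibCat.fpSnd y y)
  have hR₁ : R (spHom K₁) := h.smooth D V (ObjectProperty.homMk (spHom K₁))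
    (locP_spHom_fpFst V.property D.property hy eD heD)
  have hR₂ : R (spHom K₂) := h.smooth D V (ObjectProperty.homMk (spHom K₂))
    (locP_spHom_fpSnd V.property D.property hy eD heD)
  let β₂ : BasedFunctor.comp K₁ y ≅ BasedFunctor.comp K₂ y := whiskerLeftIso eD (FibCat.fpIso y y)
  have heq := largeSet_unique (largeSet_baseChange h hf K₁ (Iso.refl _) hR₁ hO)
    (largeSet_baseChange h hf K₂ β₂ hR₂ hO)
  obtain ⟨c, hc₁, hc₂⟩ := exists_pts_fp hg h𝒳 hg (FibCat.fpFst f y) (FibCat.fpFst f y) a b hab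
  obtain ⟨p, rfl⟩ := AlgSt.Points.mk_surjective c
  let o := p.obj
  let xa := o.obj.fst
  let xb := o.obj.snd
  have hlies : (FibCat.fp f y).p.obj xa = Over.mk p.str := p.lies
  have hla : 𝒳.p.obj xa.obj.fst = Over.mk p.str := p.lies
  have hθ : 𝒳.p.IsHomLift (𝟙 (Over.mk p.str)) o.obj.iso.hom := isHomLift_id_congr hlies o.property
  have hia : 𝒴.p.IsHomLift (𝟙 (Over.mk p.str)) xa.obj.iso.hom := isHomLift_id_congr hla xa.property
  have hlb : 𝒳.p.obj xb.obj.fst = Over.mk p.str :=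
    IsHomLift.codomain_eq 𝒳.p (𝟙 (Over.mk p.str)) o.obj.iso.hom
  have hib : 𝒴.p.IsHomLift (𝟙 (Over.mk p.str)) xb.obj.iso.hom := isHomLift_id_congr hlb xb.property
  have hva : (AlgSt.ofSp V.obj).p.obj xa.obj.snd = Over.mk p.str := (snd_proj xa).trans hla
  let ι : y.obj xa.obj.snd ≅ y.obj xb.obj.snd :=
    xa.obj.iso.symm ≪≫ f.toFunctor.mapIso o.obj.iso ≪≫ xb.obj.iso
  let δ : (FibCat.fp y y).obj := ⟨⟨xa.obj.snd, xb.obj.snd, ι⟩, by
    show 𝒴.p.IsHomLift (𝟙 ((AlgSt.ofSp V.obj).p.obj xa.obj.snd))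
      (xa.obj.iso.inv ≫ f.map o.obj.iso.hom ≫ xb.obj.iso.hom)
    rw [hva]
    have := f.preserves_isHomLift (𝟙 (Over.mk p.str)) o.obj.iso.hom
    infer_instance⟩
  obtain ⟨d, j, hj⟩ := exists_iso_over_of_isEquivOver heD (η := δ) hva
  have hjy : y.map j.hom.hom.fst ≫ ι.hom = (eD.obj d).obj.iso.hom ≫ y.map j.hom.hom.snd := j.hom.hom.w
  let j₁ : K₁.obj d ≅ xa.obj.snd := (FibCat.fpFst y y).toFunctor.mapIso j
  let j₂ : K₂.obj d ≅ xb.obj.snd := (FibCat.fpSnd y y).toFunctor.mapIso j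
  have hj₁ : (AlgSt.ofSp V.obj).p.IsHomLift (𝟙 (Over.mk p.str)) j₁.hom :=
    haveI := hj
    (FibCat.fpFst y y).preserves_isHomLift _ _
  let ω : (FibCat.fp f (BasedFunctor.comp K₁ y)).obj :=
    ⟨⟨xa.obj.fst, d, xa.obj.iso ≪≫ (y.toFunctor.mapIso j₁).symm⟩, by
      show 𝒴.p.IsHomLift (𝟙 (𝒳.p.obj xa.obj.fst)) (xa.obj.iso.hom ≫ y.map j₁.inv)
      rw [hla]
      have := IsHomLift.lift_id_inv (AlgSt.ofSp V.obj).p (Over.mk p.str) j₁
      have := y.preserves_isHomLift (𝟙 (Over.mk p.str)) j₁.inv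
      infer_instance⟩
  let z : AlgSt.FPt (FibCat.fp f (BasedFunctor.comp K₁ y)) := { K := p.K, str := p.str, obj := ω, lies := hla }
  let φa : (kappa f K₁ (Iso.refl _)).obj ω ≅ xa := fpIsoMk (Iso.refl _) j₁ (by
    show f.map (𝟙 _) ≫ xa.obj.iso.hom = (𝟙 _ ≫ (xa.obj.iso.hom ≫ y.map j₁.inv) ≫ 𝟙 _) ≫ y.map j₁.hom
    simp [← CategoryTheory.Functor.map_comp])
  let φb : (kappa f K₂ β₂).obj ω ≅ xb := fpIsoMk o.obj.iso j₂ (by
    show f.map o.obj.iso.hom ≫ xb.obj.iso.hom =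
      (𝟙 _ ≫ (xa.obj.iso.hom ≫ y.map j₁.inv) ≫ (eD.obj d).obj.iso.hom) ≫ y.map j₂.hom
    rw [Category.id_comp, Category.assoc, Category.assoc,
      show (eD.obj d).obj.iso.hom ≫ y.map j₂.hom = y.map j₁.hom ≫ ι.hom from hjy.symm,
      ← reassoc_of% (y.toFunctor.map_comp j₁.inv j₁.hom), Iso.inv_hom_id, CategoryTheory.Functor.map_id,
      Category.id_comp]
    exact (Iso.hom_inv_id_assoc xa.obj.iso _).symm)
  have e₁ : AlgSt.Points.map (kappa f K₁ (Iso.refl _)) (AlgSt.Points.mk z) = a :=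
    (pts_eq_of_hom (p := z.map (kappa f K₁ (Iso.refl _))) (q := p.map (FibCat.fpFst _ _)) φa.hom).trans hc₁
  have e₂ : AlgSt.Points.map (kappa f K₂ β₂) (AlgSt.Points.mk z) = b :=
    (pts_eq_of_hom (p := z.map (kappa f K₂ β₂)) (q := p.map (FibCat.fpSnd _ _)) φb.hom).trans hc₂
  have hz : AlgSt.Points.mk z ∈ AlgSt.Points.map (kappa f K₁ (Iso.refl _)) ⁻¹' O := by
    rw [Set.mem_preimage, e₁]; exact ha
  rw [heq, Set.mem_preimage, e₂] at hz
  exact hz

/-- The base change of an open substack to a chart is an open subspace. -/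
theorem exists_restrict (h𝒳 : AlgSt.IsAlgStack K₀ 𝒳) (h𝒴 : AlgSt.IsAlgStack K₀ 𝒴)
    {T : Set (AlgSt.Points 𝒳)} (hT : IsOpen T) {V F : AlgSp.Space S} {y : AlgSt.ofSp V.obj ⥤ᵇ 𝒴}
    (e : AlgSt.ofSp F.obj ⥤ᵇ FibCat.fp f y) (he : FibCat.IsEquivOver e) :
    ∃ (A : AlgSp.Space S) (a : A ⟶ F)
      (E : AlgSt.ofSp A.obj ⥤ᵇ FibCat.fp (BasedFunctor.comp (AlgSt.subIncl 𝒳 (PtsIn T)) f) y),
      RepWith @IsOpenImmersion a.hom ∧ FibCat.IsEquivOver E ∧
      spHom (BasedFunctor.comp E (FibCat.fpSnd (BasedFunctor.comp (AlgSt.subIncl 𝒳 (PtsIn T)) f) y)) =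
        a.hom ≫ spHom (BasedFunctor.comp e (FibCat.fpSnd f y)) ∧
      Set.range (AlgSt.Points.map (BasedFunctor.comp (AlgSt.ofSpMap a.hom) e)) =
        AlgSt.Points.map (FibCat.fpFst f y) ⁻¹' T := by
  let incl := AlgSt.subIncl 𝒳 (PtsIn T)
  have hin : FibCat.IsFibGrpd (AlgSt.fullSub 𝒳 (PtsIn T)).p := isFibGrpd_ptsIn h𝒳.isStack.1 T
  let z := BasedFunctor.comp e (FibCat.fpFst f y)
  obtain ⟨A, e₂, he₂⟩ := exists_space_fp_equiv hin h𝒳.isStack.1
    (repByAlgSp1_of_repByAlgSpWith (isOpenImm_ptsIn h𝒳 hT)) F z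
  let a : A.obj ⟶ F.obj := spHom (BasedFunctor.comp e₂ (FibCat.fpFst z incl))
  have ha : RepWith @IsOpenImmersion a :=
    property_spHom_fpFst stableBC_of (fun _ _ a ha => repWith_of_repBySpWith a ha) F.property A.property
      (isOpenImm_ptsIn h𝒳 hT) e₂ he₂
  have : (BasedFunctor.id 𝒳).toFunctor.Full := inferInstanceAs (𝟭 _).Full
  have : (BasedFunctor.id 𝒳).toFunctor.Faithful := inferInstanceAs (𝟭 _).Faithful
  let m := fpMap (F := FibCat.fpFst f y) (G := incl) (F' := z) (G' := incl) (a := e) (b := BasedFunctor.id _)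
    (c := BasedFunctor.id _) (Iso.refl _) (Iso.refl _)
  let E := BasedFunctor.comp e₂ (BasedFunctor.comp m (BasedFunctor.comp (fpSwap (FibCat.fpFst f y) incl)
    (pasteVert incl f y)))
  have hE : FibCat.IsEquivOver E := isEquivOver_comp he₂ (isEquivOver_comp (fpMap_isEquivOver _ _ he isEquivOver_id)
    (isEquivOver_comp (fpSwap_isEquivOver _ _) (pasteVert_isEquivOver _ _ _)))
  refine ⟨A, ObjectProperty.homMk a, E, ha, hE, ?_, ?_⟩
  · let J : BasedFunctor.comp E (FibCat.fpSnd (BasedFunctor.comp incl f) y) ≅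
        BasedFunctor.comp (AlgSt.ofSpMap a) (BasedFunctor.comp e (FibCat.fpSnd f y)) :=
      (show BasedFunctor.comp E (FibCat.fpSnd (BasedFunctor.comp incl f) y) ≅
        BasedFunctor.comp (BasedFunctor.comp e₂ (FibCat.fpFst z incl)) (BasedFunctor.comp e (FibCat.fpSnd f y))
        from Iso.refl _) ≪≫ whiskerRightIso (isoOfSpMap _) _
    rw [spHom_congr J, spHom_comp, spHom_ofSpMap]
    rfl
  · ext x
    constructor
    · rintro ⟨v, rfl⟩
      show AlgSt.Points.map (FibCat.fpFst f y) _ ∈ T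
      rw [← pts_map_comp]
      let I : BasedFunctor.comp (BasedFunctor.comp (AlgSt.ofSpMap a) e) (FibCat.fpFst f y) ≅
          BasedFunctor.comp (BasedFunctor.comp e₂ (FibCat.fpSnd z incl)) incl :=
        whiskerRightIso (isoOfSpMap (BasedFunctor.comp e₂ (FibCat.fpFst z incl))).symm z ≪≫
          whiskerLeftIso e₂ (FibCat.fpIso z incl)
      show AlgSt.Points.map (BasedFunctor.comp (BasedFunctor.comp (AlgSt.ofSpMap a) e) (FibCat.fpFst f y)) v ∈ T
      rw [pts_map_congr I, pts_map_comp]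
      exact (range_subIncl_ptsIn (T := T)).subset ⟨_, rfl⟩
    · intro hx
      obtain ⟨d, rfl⟩ := (pts_bijective_of_isEquivOver he).2 x
      have hx' : AlgSt.Points.map (FibCat.fpFst f y) (AlgSt.Points.map e d) ∈ T := hx
      obtain ⟨t, ht⟩ := (range_subIncl_ptsIn (T := T)).superset hx'
      obtain ⟨c, hc, -⟩ := exists_pts_fp hin h𝒳.isStack.1 (isFibGrpd_ofSp F.obj) incl z d t
        ((pts_map_comp e (FibCat.fpFst f y) d).trans ht.symm)
      obtain ⟨v, rfl⟩ := (pts_bijective_of_isEquivOver he₂).2 c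
      refine ⟨v, (pts_map_comp _ _ v).trans (congrArg _ ?_)⟩
      rw [← hc, ← pts_map_comp]
      exact (pts_map_congr (isoOfSpMap (BasedFunctor.comp e₂ (FibCat.fpFst z incl))) v).symm

/-- The open substack spanned by the largest open part of one atlas is the largest one. -/
theorem exists_largest_of_atlas (h : Hyp P Q R) (h𝒳 : AlgSt.IsAlgStack K₀ 𝒳) (h𝒴 : AlgSt.IsAlgStack K₀ 𝒴)
    (hf : AlgSt.RepByAlgSpWith Q f) {V : AlgSp.Space S} {y : AlgSt.ofSp V.obj ⥤ᵇ 𝒴}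
    (hy : AlgSt.RepByAlgSpWith (LocP @Smooth) y) (hys : AlgSt.RepByAlgSpWith IsSurjectiveMor y) :
    ∃ T : Set (AlgSt.Points 𝒳), IsOpen T ∧ IsLargeSet P f y (AlgSt.Points.map (FibCat.fpFst f y) ⁻¹' T) ∧
      AlgSt.RepByAlgSpWith P (BasedFunctor.comp (AlgSt.subIncl 𝒳 (PtsIn T)) f) ∧
      ∀ T' : Set (AlgSt.Points 𝒳), IsOpen T' →
        AlgSt.RepByAlgSpWith P (BasedFunctor.comp (AlgSt.subIncl 𝒳 (PtsIn T')) f) → T' ⊆ T := by
  have hg := fp_isFibGrpd (F := f) (G := y) h𝒳.isStack.1 (isFibGrpd_ofSp _) h𝒴.isStack.1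
  obtain ⟨O, hO⟩ := exists_largeSet h h𝒳.isStack.1 h𝒴.isStack.1 hf y
  let T := AlgSt.Points.map (FibCat.fpFst f y) '' O
  have hsat : AlgSt.Points.map (FibCat.fpFst f y) ⁻¹' T = O := by
    refine Set.Subset.antisymm ?_ (Set.subset_preimage_image _ _)
    rintro b ⟨a, ha, hab⟩
    exact largeSet_saturated h h𝒳.isStack.1 h𝒴.isStack.1 hf hy hO a b hab ha
  have hO' := hO
  obtain ⟨F, e, he, W, w, hw, hOw⟩ := hO'
  have hT : IsOpen T := by
    let u := BasedFunctor.comp (BasedFunctor.comp (AlgSt.ofSpMap w.hom) e) (FibCat.fpFst f y)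
    have hu : AlgSt.RepByAlgSpWith (LocP @Smooth) u :=
      repByAlgSpWith_locP_comp (isFibGrpd_ofSp W.obj) hg
        (repByAlgSpWith_postcomp he (repByAlgSpWith_ofSpMap stableBC_locP W.property F.property w.hom
          (locP_of_repWith (repWith_mono (fun _ _ g (_ : IsOpenImmersion g) => inferInstanceAs (Smooth g)) _ hw.1))))
        (repByAlgSpWith_fpFst f hy)
    have hr := (isOpenMap_pts_map_ofSp h𝒳.isStack.1 W (repByAlgSpWith_flat_of_smooth hu)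
      (repByAlgSpWith_lfp_of_smooth hu)).isOpen_range
    convert hr using 1
    show AlgSt.Points.map (FibCat.fpFst f y) '' O = _
    rw [hOw, ← Set.range_comp]
    exact congrArg Set.range (funext fun v => (pts_map_comp _ _ v).symm)
  refine ⟨T, hT, hsat.symm ▸ hO, ?_, fun T' hT' hP x hx => ?_⟩
  · obtain ⟨A, a, E, ha, hE, hq, hr⟩ := exists_restrict h𝒳 h𝒴 hT e he
    rw [hsat, hOw, range_map_ofSpMap_comp, range_map_ofSpMap_comp] at hr
    obtain ⟨k, hk⟩ := exists_iso_of_range_eq F.property ha hw.1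
      (spPt_bijective.2.preimage_injective ((pts_bijective_of_isEquivOver he).1.image_injective hr))
    have hPa : P (a.hom ≫ spHom (BasedFunctor.comp e (FibCat.fpSnd f y))) := by
      rw [← hk, Category.assoc]
      exact h.Pb.precomp W.property V.property k.hom hw.2.1
    have hin := isFibGrpd_ptsIn h𝒳.isStack.1 T
    let g := BasedFunctor.comp (AlgSt.subIncl 𝒳 (PtsIn T)) f
    let E' := BasedFunctor.comp E (fpSwap g y)
    refine (repByAlgSpWith_iff_exists_cover h.Pb h.Pl hin h𝒴.isStack.1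
      (repByAlgSp1_comp hin h𝒳.isStack.1 (repByAlgSp1_of_repByAlgSpWith (isOpenImm_ptsIn h𝒳 hT))
        (repByAlgSp1_of_repByAlgSpWith hf)) V y
      (locEssSurj_of_repByAlgSp (repByAlgSpWith_flat_of_smooth hy) (repByAlgSpWith_lfp_of_smooth hy) hys)).2
      ⟨A, ObjectProperty.homMk (a.hom ≫ spHom (BasedFunctor.comp e (FibCat.fpSnd f y))), E',
        isEquivOver_comp hE (fpSwap_isEquivOver g y), ⟨?_⟩, hPa⟩
    exact (show BasedFunctor.comp E' (FibCat.fpFst y g) ≅ BasedFunctor.comp E (FibCat.fpSnd g y) from Iso.refl _) ≪≫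
      isoOfSpMap _ ≪≫ eqToIso (congrArg AlgSt.ofSpMap hq)
  · obtain ⟨A, a, E, ha, hE, hq, hr⟩ := exists_restrict h𝒳 h𝒴 hT' e he
    have hPa : P (a ≫ (ObjectProperty.homMk (spHom (BasedFunctor.comp e (FibCat.fpSnd f y))) : F ⟶ V)).hom := by
      show P (a.hom ≫ spHom (BasedFunctor.comp e (FibCat.fpSnd f y)))
      rw [← hq]
      exact property_spHom_fpSnd h.Pb (fun hF hG _ ha => property_of_repBySpWith h.Pl hF hG ha) V.property
        A.property hP E hE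
    obtain ⟨l, hl⟩ := hw.2.2 A a ha hPa
    obtain ⟨c, rfl⟩ := pts_surjective_fpFst (isFibGrpd_ofSp V.obj) h𝒴.isStack.1 h𝒳.isStack.1 f
      (pts_map_surjective_ofSp h𝒴.isStack.1 V hys) x
    obtain ⟨v, rfl⟩ := hr.superset hx
    refine ⟨_, ?_, rfl⟩
    rw [hOw]
    refine ⟨AlgSt.Points.map (AlgSt.ofSpMap l.hom) v, ?_⟩
    rw [pts_map_comp, pts_map_comp]
    refine congrArg _ (spPt_bijective.1 ?_)
    rw [spPt_map_ofSpMap, spPt_map_ofSpMap, spPt_map_ofSpMap, ← Points.map_comp,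
      show l.hom ≫ w.hom = a.hom from congrArg (fun m => m.hom) hl]

theorem eq_ptsIn (h𝒳 : AlgSt.IsAlgStack K₀ 𝒳) {Q₁ : 𝒳.obj → Prop} (hQ : AlgSt.IsOpenSubstack 𝒳 Q₁ K₀) :
    ∃ T, IsOpen T ∧ Q₁ = PtsIn T :=
  ⟨_, isOpen_range_of_isOpenImm hQ.2.1 h𝒳 hQ.2.2, eq_ptsIn_range h𝒳 hQ⟩

/-- Part (A): the largest open substack exists. -/
theorem exists_largest (h : Hyp P Q R) (h𝒳 : AlgSt.IsAlgStack K₀ 𝒳) (h𝒴 : AlgSt.IsAlgStack K₀ 𝒴)
    (hf : AlgSt.RepByAlgSpWith Q f) :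
    ∃ Q₀ : 𝒳.obj → Prop, AlgSt.IsOpenSubstack 𝒳 Q₀ K₀ ∧
      AlgSt.RepByAlgSpWith P (BasedFunctor.comp (AlgSt.subIncl 𝒳 Q₀) f) ∧
        ∀ Q₁ : 𝒳.obj → Prop, AlgSt.IsOpenSubstack 𝒳 Q₁ K₀ →
          AlgSt.RepByAlgSpWith P (BasedFunctor.comp (AlgSt.subIncl 𝒳 Q₁) f) → ∀ x, Q₁ x → Q₀ x := by
  obtain ⟨V, v, hv, hvs⟩ := h𝒴.atlas
  obtain ⟨T, hT, -, hP, hmax⟩ := exists_largest_of_atlas h h𝒳 h𝒴 hf
    (V := ⟨_, IsAlgSpace.yon_obj V⟩) (repByAlgSpWith_precomp (isEquivOver_toOverCat V) hv)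
    (repByAlgSpWith_precomp (isEquivOver_toOverCat V) hvs)
  refine ⟨PtsIn T, isOpenSubstack_ptsIn h𝒳 hT, hP, fun Q₁ hQ₁ hP₁ x hx => ?_⟩
  obtain ⟨T₁, hT₁, rfl⟩ := eq_ptsIn h𝒳 hQ₁
  exact fun p φ => hmax T₁ hT₁ hP₁ (hx p φ)

/-- Part (B): the largest open substack commutes with base change along `R`. -/
theorem largest_baseChange {𝒵 : AlgSt.Cat S} (h : Hyp P Q R) (h𝒳 : AlgSt.IsAlgStack K₀ 𝒳)
    (h𝒴 : AlgSt.IsAlgStack K₀ 𝒴) (h𝒵 : AlgSt.IsAlgStack K₀ 𝒵) (hf : AlgSt.RepByAlgSpWith Q f)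
    (Q₀ : 𝒳.obj → Prop) (hQ₀ : AlgSt.IsOpenSubstack 𝒳 Q₀ K₀)
    (hQ₀P : AlgSt.RepByAlgSpWith P (BasedFunctor.comp (AlgSt.subIncl 𝒳 Q₀) f))
    (hQ₀max : ∀ Q₁ : 𝒳.obj → Prop, AlgSt.IsOpenSubstack 𝒳 Q₁ K₀ →
      AlgSt.RepByAlgSpWith P (BasedFunctor.comp (AlgSt.subIncl 𝒳 Q₁) f) → ∀ x, Q₁ x → Q₀ x)
    (z : 𝒵 ⥤ᵇ 𝒴) (hz : AlgSt.RepByAlgSpWith R z) :
    AlgSt.IsOpenSubstack (FibCat.fp z f) (fun b ↦ Q₀ b.obj.snd) K₀ ∧
      AlgSt.RepByAlgSpWith P
        (BasedFunctor.comp (AlgSt.subIncl (FibCat.fp z f) fun b ↦ Q₀ b.obj.snd) (FibCat.fpFst z f)) ∧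
      ∀ Q₁ : (FibCat.fp z f).obj → Prop, AlgSt.IsOpenSubstack (FibCat.fp z f) Q₁ K₀ →
        AlgSt.RepByAlgSpWith P (BasedFunctor.comp (AlgSt.subIncl (FibCat.fp z f) Q₁) (FibCat.fpFst z f)) →
          ∀ b, Q₁ b → Q₀ b.obj.snd := by
  obtain ⟨V₀, v, hv, hvs⟩ := h𝒴.atlas
  let V : AlgSp.Space S := ⟨_, IsAlgSpace.yon_obj V₀⟩
  let y : AlgSt.ofSp V.obj ⥤ᵇ 𝒴 := BasedFunctor.comp (AlgSt.toOverCat V₀) v
  have hy : AlgSt.RepByAlgSpWith (LocP @Smooth) y := repByAlgSpWith_precomp (isEquivOver_toOverCat V₀) hv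
  have hys : AlgSt.RepByAlgSpWith IsSurjectiveMor y := repByAlgSpWith_precomp (isEquivOver_toOverCat V₀) hvs
  obtain ⟨T, hT, hO, hP, hmax⟩ := exists_largest_of_atlas h h𝒳 h𝒴 hf hy hys
  obtain ⟨T₀, hT₀, rfl⟩ := eq_ptsIn h𝒳 hQ₀
  have hTT : PtsIn T₀ = PtsIn T := funext fun x => propext
    ⟨fun hx p φ => hmax T₀ hT₀ hQ₀P (hx p φ), hQ₀max (PtsIn T) (isOpenSubstack_ptsIn h𝒳 hT) hP x⟩
  have h' : AlgSt.IsAlgStack K₀ (FibCat.fp z f) := isAlgStack_fp h𝒵 h𝒳 h𝒴.isStack h𝒴.diag z f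
  let f' := FibCat.fpFst z f
  have hf' : AlgSt.RepByAlgSpWith Q f' := repByAlgSpWith_fpFst z hf
  obtain ⟨D, eD, heD⟩ := exists_space_fp_equiv h𝒵.isStack.1 h𝒴.isStack.1 (repByAlgSp1_of_repByAlgSpWith hz) V y
  let K := BasedFunctor.comp eD (FibCat.fpFst y z)
  let y' := BasedFunctor.comp eD (FibCat.fpSnd y z)
  have hKR : R (spHom K) :=
    property_spHom_fpFst h.Rb (fun hF hG _ ha => property_of_repBySpWith h.Rl hF hG ha) V.property D.property hz eD heD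
  have hy' : AlgSt.RepByAlgSpWith (LocP @Smooth) y' := repByAlgSpWith_precomp heD (repByAlgSpWith_fpSnd z hy)
  have hys' : AlgSt.RepByAlgSpWith IsSurjectiveMor y' := repByAlgSpWith_precomp heD (repByAlgSpWith_fpSnd z hys)
  obtain ⟨T', hT', hO', hP', hmax'⟩ := exists_largest_of_atlas h h' h𝒵 hf' hy' hys'
  let β : BasedFunctor.comp y' z ≅ BasedFunctor.comp K y := whiskerLeftIso eD (FibCat.fpIso y z).symm
  let Ψ : FibCat.fp f' y' ⥤ᵇ FibCat.fp f (BasedFunctor.comp y' z) :=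
    BasedFunctor.comp (fpSwap f' y') (BasedFunctor.comp (pasteVert y' z f) (fpSwap (BasedFunctor.comp y' z) f))
  have hΨ : FibCat.IsEquivOver Ψ := isEquivOver_comp (fpSwap_isEquivOver _ _)
    (isEquivOver_comp (pasteVert_isEquivOver _ _ _) (fpSwap_isEquivOver _ _))
  have hΨO : IsLargeSet P f (BasedFunctor.comp y' z)
      (AlgSt.Points.map Ψ '' (AlgSt.Points.map (FibCat.fpFst f' y') ⁻¹' T')) := by
    obtain ⟨F, e, he, W, w, hw, hOw⟩ := hO'
    refine ⟨F, BasedFunctor.comp e Ψ, isEquivOver_comp he hΨ, W, w, ?_, ?_⟩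
    · have hsnd : spHom (BasedFunctor.comp (BasedFunctor.comp e Ψ) (FibCat.fpSnd f (BasedFunctor.comp y' z))) =
          spHom (BasedFunctor.comp e (FibCat.fpSnd f' y')) := spHom_congr (Iso.refl _)
      rw [hsnd]
      exact hw
    · rw [hOw, ← Set.range_comp]
      exact congrArg Set.range (funext fun v => (pts_map_comp _ Ψ v).symm)
  have heq := largeSet_unique hΨO (largeSet_baseChange h hf K β hKR hO)
  have hpre : T' = AlgSt.Points.map (FibCat.fpSnd z f) ⁻¹' T := by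
    ext x
    obtain ⟨c, rfl⟩ := pts_surjective_fpFst (isFibGrpd_ofSp D.obj) h𝒵.isStack.1 h'.isStack.1 f'
      (pts_map_surjective_ofSp h𝒵.isStack.1 D hys') x
    have h1 : c ∈ AlgSt.Points.map (FibCat.fpFst f' y') ⁻¹' T' ↔
        AlgSt.Points.map Ψ c ∈ AlgSt.Points.map Ψ '' (AlgSt.Points.map (FibCat.fpFst f' y') ⁻¹' T') :=
      ((pts_bijective_of_isEquivOver hΨ).1.mem_set_image).symm
    rw [heq] at h1
    refine h1.trans ?_
    show AlgSt.Points.map (FibCat.fpFst f y) (AlgSt.Points.map (kappa f K β) (AlgSt.Points.map Ψ c)) ∈ T ↔ _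
    rw [← pts_map_comp, ← pts_map_comp, Set.mem_preimage, ← pts_map_comp]
    rw [pts_map_congr (show BasedFunctor.comp Ψ (BasedFunctor.comp (kappa f K β) (FibCat.fpFst f y)) ≅
      BasedFunctor.comp (FibCat.fpFst f' y') (FibCat.fpSnd z f) from Iso.refl _) c]
  have hpred : (fun b : (FibCat.fp z f).obj ↦ PtsIn T₀ b.obj.snd) = PtsIn T' := funext fun b => by
    rw [hTT, hpre]
    exact propext (SmoothOpen.ptsIn_map_iff h𝒳.isStack.1 h'.isStack.1 (FibCat.fpSnd z f) T b)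
  rw [hpred]
  refine ⟨isOpenSubstack_ptsIn h' hT', hP', fun Q₁ hQ₁ hP₁ b hb => ?_⟩
  obtain ⟨T₁, hT₁, rfl⟩ := eq_ptsIn h' hQ₁
  exact (congrFun hpred b).mpr fun p φ => hmax' T₁ hT₁ hP₁ (hb p φ)

end Groth.Agent.AlgStkX.LargestOpen
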