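import Groth.Agent.AlgStkX.LocalPiece

/-!
# Lifting a finite free quotient across a square-zero ideal
-/

set_option autoImplicit false

universe u

open IsLocalRing

namespace Groth.Agent.AlgStkX

/-- The kernel of a surjection onto an algebra which is free of finite rank modulo `I` is finitely generated
modulo `I`. -/
theorem exists_ker_gens {O E B : Type u} [CommRing O] [CommRing E] [Algebra O E] [Algebra.FiniteType O E]
    [CommRing B] [Algebra O B] (I : Ideal O) (G : E →ₐ[O] B) (hG : Function.Surjective G)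
    (hIB : ∀ r ∈ I, algebraMap O B r = 0) {d : ℕ} (b : Fin d → B)
    (hspan : Submodule.span O (Set.range b) = ⊤) (hind : ∀ c : Fin d → O, ∑ i, c i • b i = 0 → ∀ i, c i ∈ I) :
    ∃ S : Finset E, RingHom.ker G.toRingHom = I.map (algebraMap O E) ⊔ Ideal.span (S : Set E) := by
  classical
  have hrep : ∀ y : B, ∃ c : Fin d → O, ∑ i, c i • b i = y := fun y =>
    (Submodule.mem_span_range_iff_exists_fun O).1 (hspan ▸ Submodule.mem_top)
  choose u hu using fun i => hG (b i)
  choose rep hrep using hrep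
  let lin : (Fin d → O) → E := fun c => ∑ i, c i • u i
  have hlin : ∀ c, G (lin c) = ∑ i, c i • b i := fun c => by simp [lin, hu]
  let corr : E → E := fun z => z - lin (rep (G z))
  have hcorr : ∀ z, G (corr z) = 0 := fun z => by simp [corr, hlin, hrep]
  obtain ⟨X, hX⟩ := Algebra.FiniteType.out (R := O) (A := E)
  let S : Finset E := ((X ×ˢ (Finset.univ : Finset (Fin d))).image fun p => corr (p.1 * u p.2)) ∪ {corr 1}
  let K : Ideal E := I.map (algebraMap O E) ⊔ Ideal.span (S : Set E)
  let N : Submodule O E := Submodule.span O (Set.range u) ⊔ K.restrictScalars O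
  have hlinN : ∀ c, lin c ∈ N := fun c => Submodule.mem_sup_left
    (Submodule.sum_mem _ fun i _ => Submodule.smul_mem _ _ (Submodule.subset_span ⟨i, rfl⟩))
  have hKN : ∀ z ∈ K, z ∈ N := fun z hz => Submodule.mem_sup_right hz
  have hcorrN : ∀ z, corr z ∈ K → z ∈ N := fun z hz => by
    simpa [corr] using N.add_mem (hKN _ hz) (hlinN (rep (G z)))
  have h1 : (1 : E) ∈ N := hcorrN 1 (Ideal.mem_sup_right (Ideal.subset_span (by simp [S])))
  have hstable : ∀ x ∈ (X : Set E), ∀ z ∈ N, x * z ∈ N := by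
    intro x hx z hz
    obtain ⟨y, hy, k, hk, rfl⟩ := Submodule.mem_sup.1 hz
    rw [mul_add]
    refine N.add_mem ?_ (hKN _ (K.mul_mem_left _ hk))
    refine Submodule.span_induction ?_ (by simp) (fun a b _ _ ha hb => by rw [mul_add]; exact N.add_mem ha hb)
      (fun r a _ ha => by rw [mul_smul_comm]; exact N.smul_mem r ha) hy
    rintro _ ⟨i, rfl⟩
    exact hcorrN _ (Ideal.mem_sup_right (Ideal.subset_span (Finset.mem_coe.2 (Finset.mem_union_left _
      (Finset.mem_image.2 ⟨(x, i), Finset.mem_product.2 ⟨hx, Finset.mem_univ _⟩, rfl⟩)))))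
  have hall : ∀ z : E, ∀ w ∈ N, z * w ∈ N := by
    intro z
    have hz : z ∈ Algebra.adjoin O (X : Set E) := hX ▸ Algebra.mem_top
    induction hz using Algebra.adjoin_induction with
    | mem x hx => exact hstable x hx
    | algebraMap r => exact fun w hw => by rw [← Algebra.smul_def]; exact N.smul_mem r hw
    | add a b _ _ ha hb => exact fun w hw => by rw [add_mul]; exact N.add_mem (ha w hw) (hb w hw)
    | mul a b _ _ ha hb => exact fun w hw => by rw [mul_assoc]; exact ha _ (hb w hw)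
  have hKG : K ≤ RingHom.ker G.toRingHom := by
    refine sup_le (Ideal.map_le_iff_le_comap.2 fun r hr => ?_) (Ideal.span_le.2 fun z hz => ?_)
    · show G (algebraMap O E r) = 0
      rw [G.commutes]; exact hIB r hr
    · show G z = 0
      simp only [S, Finset.coe_union, Finset.coe_image, Finset.coe_singleton, Set.mem_union, Set.mem_image,
        Set.mem_singleton_iff] at hz
      rcases hz with ⟨p, -, rfl⟩ | rfl <;> exact hcorr _
  refine ⟨S, le_antisymm (fun z hz => ?_) hKG⟩
  have hzN := hall z 1 h1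
  rw [mul_one] at hzN
  obtain ⟨y, hy, k, hk, rfl⟩ := Submodule.mem_sup.1 hzN
  obtain ⟨c, rfl⟩ := (Submodule.mem_span_range_iff_exists_fun O).1 hy
  have h0 : ∑ i, c i • b i = 0 := by
    have hk0 : G k = 0 := hKG hk
    have : G (∑ i, c i • u i + k) = 0 := hz
    simpa [hk0, hu] using this
  refine K.add_mem (Ideal.sum_mem _ fun i _ => ?_) hk
  rw [Algebra.smul_def]
  exact Ideal.mem_sup_left (Ideal.mul_mem_right _ _ (Ideal.mem_map_of_mem _ (hind c h0 i)))

variable {O E D k B B₀ : Type u} [CommRing O] [IsLocalRing O] [CommRing E] [Algebra O E]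
  [Algebra.FinitePresentation O E] [Module.Flat O E] [CommRing D] [Field k] [Algebra k D]
  [CommRing B] [IsLocalRing B] [CommRing B₀] [Algebra O B₀]

/-- A finite free quotient modulo a square-zero ideal, cut out on the closed fibre by a regular sequence,
lifts to a finite free quotient. -/
theorem exists_lift_algebra (I : Ideal O) (hI : I ^ 2 = ⊥) (hIm : I ≤ maximalIdeal O)
    (τ : E →+* D) (hτ : Function.Surjective τ) (hτk : RingHom.ker τ = (maximalIdeal O).map (algebraMap O E))
    (gk : D →+* B) (hgk : Function.Surjective gk) (q : Ideal D) [q.IsPrime]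
    (hq : q = (maximalIdeal B).comap gk) (lk : List D) (hlk : ∀ x ∈ lk, gk x = 0)
    (hgen : ∀ x, gk x = 0 → ∃ w ∉ q, w * x ∈ Ideal.ofList lk)
    (hreg : RegFrom (⊥ : Ideal k) q ⊥ lk)
    (G : E →ₐ[O] B₀) (hG : Function.Surjective G) (β : B₀ →+* B) (hβG : ∀ e, β (G e) = gk (τ e))
    (hβk : RingHom.ker β = (maximalIdeal O).map (algebraMap O B₀))
    (hloc : ∀ x, IsUnit (β x) → IsUnit x) (hIB : ∀ r ∈ I, algebraMap O B₀ r = 0) {d : ℕ} (b : Fin d → B₀)
    (hspan : Submodule.span O (Set.range b) = ⊤) (hind : ∀ c : Fin d → O, ∑ i, c i • b i = 0 → ∀ i, c i ∈ I) :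
    ∃ (L : Type u) (_ : CommRing L) (_ : Algebra O L) (ℓ : Module.Basis (Fin d) O L) (θ : E →ₐ[O] L)
      (ψ : L →ₐ[O] B₀), ψ.comp θ = G ∧ ∀ i, ψ (ℓ i) = b i := by
  classical
  let m := maximalIdeal O
  let Q := q.comap τ
  have hmQ : m.map (algebraMap O E) ≤ Q := hτk ▸ Ideal.comap_mono bot_le
  have hQm : Q.LiesOver m := ⟨le_antisymm (fun r hr => hmQ (Ideal.mem_map_of_mem _ hr))
    (IsLocalRing.le_maximalIdeal (Ideal.comap_ne_top _ (Ideal.IsPrime.ne_top inferInstance)))⟩
  -- lifts of the sequence killed by `G`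
  have hlift : ∀ f : D, gk f = 0 → ∃ e, τ e = f ∧ G e = 0 := by
    intro f hf
    obtain ⟨c, rfl⟩ := hτ f
    have h1 : G c ∈ (m.map (algebraMap O E)).map G.toRingHom := by
      rw [Ideal.map_map, show G.toRingHom.comp (algebraMap O E) = algebraMap O B₀ from G.comp_algebraMap,
        ← hβk, RingHom.mem_ker, hβG]; exact hf
    obtain ⟨z, hz, hzc⟩ := (Ideal.mem_map_iff_of_surjective G.toRingHom hG).1 h1
    refine ⟨c - z, ?_, ?_⟩
    · rw [map_sub, show τ z = 0 from RingHom.mem_ker.1 (hτk.symm ▸ hz), sub_zero]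
    · rw [map_sub, show G z = G c from hzc, sub_self]
  choose! lf hlfτ hlfG using hlift
  let l : List E := lk.map lf
  have hlQ : ∀ x ∈ l, x ∈ Q := by
    intro x hx
    obtain ⟨f, hf, rfl⟩ := List.mem_map.1 hx
    show τ (lf f) ∈ q
    rw [hlfτ f (hlk f hf), hq, Ideal.mem_comap, hlk f hf]
    exact zero_mem _
  have hregE : ∀ (ls : List D) (J : Ideal E) (K : Ideal D), (∀ f ∈ ls, gk f = 0) → J.map τ = K →
      RegFrom (⊥ : Ideal k) q K ls → RegFrom m Q J (ls.map lf) := by
    intro ls
    induction ls with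
    | nil => intros; trivial
    | cons f ls ih =>
      intro J K hls hJK hr
      have hτsat : ∀ t, t ∈ FlatModel.sat m J Q.primeCompl ↔ τ t ∈ FlatModel.sat (⊥ : Ideal k) K q.primeCompl := by
        intro t
        constructor
        · rintro ⟨w, hw, hwt⟩
          refine ⟨τ w, hw, ?_⟩
          rw [Ideal.map_bot, sup_bot_eq, ← map_mul]
          have := Ideal.mem_map_of_mem τ hwt
          rwa [Ideal.map_sup, hJK, ← hτk, (Ideal.map_eq_bot_iff_le_ker τ).2 le_rfl, sup_bot_eq] at this
        · rintro ⟨w, hw, hwt⟩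
          obtain ⟨w, rfl⟩ := hτ w
          refine ⟨w, hw, ?_⟩
          rw [Ideal.map_bot, sup_bot_eq, ← map_mul, ← hJK] at hwt
          obtain ⟨z, hz, hzw⟩ := (Ideal.mem_map_iff_of_surjective τ hτ).1 hwt
          rw [show w * t = z + (w * t - z) by ring]
          refine add_mem (Ideal.mem_sup_left hz) (Ideal.mem_sup_right ?_)
          rw [← hτk, RingHom.mem_ker, map_sub, hzw, sub_self]
      refine ⟨fun t ht => (hτsat t).2 (hr.1 _ ?_), ih _ _ (fun x hx => hls x (by simp [hx])) ?_ hr.2⟩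
      · have := (hτsat _).1 ht
        rwa [map_mul, hlfτ f (hls f (by simp))] at this
      · rw [Ideal.map_sup, hJK, Ideal.map_span, Set.image_singleton, hlfτ f (hls f (by simp))]
  obtain ⟨L, _, _, _, _, θ, hθl, hθu, hθsurj, hθmax, huniv⟩ := exists_local_flat m Q l hlQ
    (hregE lk ⊥ ⊥ hlk (Ideal.map_bot) hreg)
  have hGu : ∀ w, w ∉ Q → IsUnit (G w) := fun w hw => hloc _ (by
    rw [hβG]
    by_contra hu
    exact hw (show τ w ∈ q by rw [hq, Ideal.mem_comap]; exact (IsLocalRing.mem_maximalIdeal _).2 hu))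
  obtain ⟨ψ, hψ⟩ := huniv B₀ G (fun x hx => by
    obtain ⟨f, hf, rfl⟩ := List.mem_map.1 hx
    exact hlfG f (hlk f hf)) hGu
  have hψθ : ∀ e, ψ (θ e) = G e := fun e => AlgHom.congr_fun hψ e
  obtain ⟨S, hS⟩ := exists_ker_gens I G hG hIB b hspan hind
  choose uE huE using fun i => hG (b i)
  let ℓ : Fin d → L := fun i => θ (uE i)
  have hψℓ : ∀ i, ψ (ℓ i) = b i := fun i => (hψθ _).trans (huE i)
  let IL : Ideal L := I.map (algebraMap O L)
  let mL : Ideal L := m.map (algebraMap O L)
  let NL : Ideal L := Ideal.span (θ '' (S : Set E))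
  have hmLmax : mL ≤ maximalIdeal L := Ideal.map_le_iff_le_comap.2 fun r hr => by
    rw [Ideal.mem_comap, IsLocalRing.mem_maximalIdeal, ← θ.commutes r]
    exact hθmax _ (hmQ (Ideal.mem_map_of_mem _ hr))
  -- the kernel of `ψ`
  have hker : ∀ x, ψ x = 0 → x ∈ IL ⊔ NL := by
    intro x hx
    obtain ⟨c, w, hw, hxw⟩ := hθsurj x
    have hc : c ∈ I.map (algebraMap O E) ⊔ Ideal.span (S : Set E) := by
      rw [← hS, RingHom.mem_ker]
      show G c = 0
      rw [← hψθ, ← hxw, map_mul, hx, zero_mul]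
    have hθc : θ c ∈ IL ⊔ NL := by
      have := Ideal.mem_map_of_mem θ.toRingHom hc
      rwa [Ideal.map_sup, Ideal.map_map, show θ.toRingHom.comp (algebraMap O E) = algebraMap O L from θ.comp_algebraMap,
        Ideal.map_span] at this
    rw [← hxw] at hθc
    exact (Ideal.mul_unit_mem_iff_mem _ (hθu w hw)).1 hθc
  have hILker : ∀ x ∈ IL, ψ x = 0 := fun x hx =>
    (Ideal.map_le_iff_le_comap (K := RingHom.ker ψ)).2 (fun r hr => by
      show ψ (algebraMap O L r) = 0
      rw [ψ.commutes]; exact hIB r hr) hx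
  have hNLker : ∀ x ∈ NL, ψ x = 0 := fun x hx =>
    (Ideal.span_le (I := RingHom.ker ψ)).2 (by
      rintro _ ⟨e, he, rfl⟩
      show ψ (θ e) = 0
      rw [hψθ]
      exact RingHom.mem_ker.1 (hS.symm ▸ Ideal.mem_sup_right (Ideal.subset_span he) :
        e ∈ RingHom.ker G.toRingHom)) hx
  have hkerm : ∀ x, ψ x = 0 → x ∈ mL := by
    intro x hx
    obtain ⟨c, w, hw, hxw⟩ := hθsurj x
    have hGc : G c = 0 := by rw [← hψθ, ← hxw, map_mul, hx, zero_mul]
    obtain ⟨v, hv, hvc⟩ := hgen (τ c) (by rw [← hβG, hGc, map_zero])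
    obtain ⟨v, rfl⟩ := hτ v
    have : (Ideal.ofList l).map τ = Ideal.ofList lk := by
      rw [Ideal.ofList, Ideal.map_span]
      refine congrArg Ideal.span (Set.ext fun y => ⟨?_, fun hy => ⟨lf y, List.mem_map.2 ⟨y, hy, rfl⟩, hlfτ y (hlk y hy)⟩⟩)
      rintro ⟨_, hz, rfl⟩
      obtain ⟨f, hf, rfl⟩ := List.mem_map.1 hz
      show τ (lf f) ∈ lk
      rwa [hlfτ f (hlk f hf)]
    rw [← map_mul, ← this] at hvc
    obtain ⟨z, hz, hzv⟩ := (Ideal.mem_map_iff_of_surjective τ hτ).1 hvc
    have h1 : v * c - z ∈ m.map (algebraMap O E) := by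
      rw [← hτk, RingHom.mem_ker, map_sub, hzv, sub_self]
    have hz0 : θ z = 0 := (Ideal.span_le (I := RingHom.ker θ)).2 (fun y hy => hθl y hy) hz
    have h2 := Ideal.mem_map_of_mem θ.toRingHom h1
    rw [Ideal.map_map, show θ.toRingHom.comp (algebraMap O E) = algebraMap O L from θ.comp_algebraMap] at h2
    change θ (v * c - z) ∈ mL at h2
    rw [map_sub, map_mul, hz0, sub_zero, Ideal.unit_mul_mem_iff_mem _ (hθu v hv), ← hxw,
      Ideal.mul_unit_mem_iff_mem _ (hθu w hw)] at h2
    exact h2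
  have hrepL : ∀ x, ∃ c : Fin d → O, x - ∑ i, c i • ℓ i ∈ IL ⊔ NL := fun x => by
    obtain ⟨c, hc⟩ := (Submodule.mem_span_range_iff_exists_fun O).1 (hspan ▸ Submodule.mem_top : ψ x ∈ _)
    exact ⟨c, hker _ (by simp [hψℓ, hc])⟩
  -- `NL ≤ IL`
  have hN : NL ≤ IL := by
    refine Submodule.le_of_le_smul_of_le_jacobson_bot (I := mL) (Submodule.fg_span (S.finite_toSet.image θ))
      (hmLmax.trans (IsLocalRing.maximalIdeal_le_jacobson _)) ?_
    intro x hx
    have key : ∀ y ∈ mL, ∃ c : Fin d → O, y - ∑ i, c i • ℓ i ∈ IL ⊔ mL • NL := by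
      intro y hy
      refine Submodule.span_induction (p := fun y _ => ∀ a : L, ∃ c : Fin d → O,
        a * y - ∑ i, c i • ℓ i ∈ IL ⊔ mL • NL) ?_ ?_ ?_ ?_ hy 1 |>.imp fun c hc => by simpa using hc
      · rintro _ ⟨r, hr, rfl⟩ a
        obtain ⟨c, hc⟩ := hrepL a
        refine ⟨fun i => r * c i, ?_⟩
        have h1 : algebraMap O L r * (a - ∑ i, c i • ℓ i) ∈ IL ⊔ mL • NL := by
          obtain ⟨s, hs, n, hn, hsn⟩ := Submodule.mem_sup.1 hc
          rw [← hsn, mul_add]
          exact add_mem (Ideal.mem_sup_left (IL.mul_mem_left _ hs))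
            (Submodule.mem_sup_right (Submodule.smul_mem_smul (Ideal.mem_map_of_mem _ hr) hn))
        convert h1 using 1
        simp [mul_sub, Finset.mul_sum, Algebra.smul_def, mul_assoc, mul_comm a]
      · exact fun a => ⟨0, by simp⟩
      · intro p q _ _ hp hq a
        obtain ⟨c, hc⟩ := hp a
        obtain ⟨c', hc'⟩ := hq a
        refine ⟨c + c', ?_⟩
        convert add_mem hc hc' using 1
        simp [mul_add, add_smul, Finset.sum_add_distrib]
        ring
      · intro s p _ hp a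
        obtain ⟨c, hc⟩ := hp (a * s)
        refine ⟨c, ?_⟩
        show a * (s * p) - ∑ i, c i • ℓ i ∈ _
        rw [← mul_assoc]; exact hc
    obtain ⟨c, hc⟩ := key x (hkerm x (hNLker x hx))
    have hsum : ∑ i, c i • b i = 0 := by
      have h0 : ψ (x - ∑ i, c i • ℓ i) = 0 := by
        obtain ⟨s, hs, n, hn, hsn⟩ := Submodule.mem_sup.1 hc
        rw [← hsn, map_add, hILker s hs, hNLker n (Submodule.smul_le_right hn), add_zero]
      simpa [hψℓ, hNLker x hx] using h0
    rw [show x = (x - ∑ i, c i • ℓ i) + ∑ i, c i • ℓ i by ring]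
    refine add_mem hc (Submodule.mem_sup_left (Ideal.sum_mem _ fun i _ => ?_))
    rw [Algebra.smul_def]
    exact IL.mul_mem_right _ (Ideal.mem_map_of_mem _ (hind c hsum i))
  have hkerIL : ∀ x, ψ x = 0 → x ∈ IL := fun x hx => sup_le le_rfl hN (hker x hx)
  have hspanL : ⊤ ≤ Submodule.span O (Set.range ℓ) := by
    let N := Submodule.span O (Set.range ℓ)
    have hstep : ∀ x : L, x ∈ N ⊔ I • (⊤ : Submodule O L) := fun x => by
      obtain ⟨c, hc⟩ := hrepL x
      have hc' : x - ∑ i, c i • ℓ i ∈ I • (⊤ : Submodule O L) := by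
        rw [Ideal.smul_top_eq_map]; exact sup_le le_rfl hN hc
      rw [show x = (∑ i, c i • ℓ i) + (x - ∑ i, c i • ℓ i) by ring]
      exact Submodule.add_mem_sup (Submodule.sum_mem _ fun i _ => Submodule.smul_mem _ _ (Submodule.subset_span ⟨i, rfl⟩)) hc'
    intro x _
    have h2 : I • (⊤ : Submodule O L) ≤ N := by
      refine Submodule.smul_le.2 fun r hr y _ => ?_
      obtain ⟨n, hn, z, hz, rfl⟩ := Submodule.mem_sup.1 (hstep y)
      rw [smul_add]
      refine N.add_mem (N.smul_mem _ hn) ?_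
      have hrz : r • z ∈ I • (I • (⊤ : Submodule O L)) := Submodule.smul_mem_smul hr hz
      rw [← Submodule.mul_smul, ← pow_two, hI, Submodule.bot_smul, Submodule.mem_bot] at hrz
      rw [hrz]; exact N.zero_mem
    exact sup_le le_rfl h2 (hstep x)
  have hfin : Module.Finite O L := ⟨⟨Finset.univ.image ℓ, by simpa using top_le_iff.1 hspanL⟩⟩
  have hfree : Module.Free O L := Module.free_of_flat_of_isLocalRing
  let e := Module.Free.chooseBasis O L
  have hIne : I ≠ ⊤ := fun h => (maximalIdeal.isMaximal O).ne_top (top_le_iff.1 (h ▸ hIm))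
  have hli : LinearIndependent O ℓ := by
    let Lin : (Fin d → O) →ₗ[O] L := Fintype.linearCombination O ℓ
    have hsurj : Function.Surjective Lin := fun x => by
      obtain ⟨c, hc⟩ := (Submodule.mem_span_range_iff_exists_fun O).1 (hspanL (Submodule.mem_top (x := x)))
      exact ⟨c, by simpa [Lin, Fintype.linearCombination_apply] using hc⟩
    obtain ⟨sec, hsec⟩ := Module.projective_lifting_property Lin LinearMap.id hsurj
    let K := LinearMap.ker Lin
    have hKI : K ≤ I • (⊤ : Submodule O (Fin d → O)) := by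
      intro c hc
      have h0 : ∑ i, c i • b i = 0 := by
        have : ψ (∑ i, c i • ℓ i) = 0 := by
          rw [show ∑ i, c i • ℓ i = 0 by simpa [Lin, Fintype.linearCombination_apply] using LinearMap.mem_ker.1 hc, map_zero]
        simpa [hψℓ] using this
      rw [← (Pi.basisFun O (Fin d)).sum_repr c]
      exact Submodule.sum_mem _ fun i _ => Submodule.smul_mem_smul (by simpa using hind c h0 i) Submodule.mem_top
    let pr : (Fin d → O) →ₗ[O] (Fin d → O) := LinearMap.id - sec.comp Lin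
    have hpr : ∀ c, pr c ∈ K := fun c => by
      show Lin (c - sec (Lin c)) = 0
      rw [map_sub, ← LinearMap.comp_apply Lin sec, hsec, LinearMap.id_apply, sub_self]
    have hprK : ∀ c ∈ K, pr c = c := fun c hc => by simp [pr, LinearMap.mem_ker.1 hc]
    rw [Fintype.linearIndependent_iff]
    intro c hc
    have hcK : c ∈ K := by simpa [K, Lin, Fintype.linearCombination_apply, LinearMap.mem_ker] using hc
    have h1 : pr c ∈ I • (I • (⊤ : Submodule O (Fin d → O))) := by
      have h1 := Submodule.mem_map_of_mem (f := pr) (hKI hcK)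
      rw [Submodule.map_smul''] at h1
      refine Submodule.smul_mono le_rfl ?_ h1
      rintro _ ⟨y, -, rfl⟩
      exact hKI (hpr y)
    rw [hprK c hcK, ← Submodule.mul_smul, ← pow_two, hI, Submodule.bot_smul, Submodule.mem_bot] at h1
    simp [h1]
  exact ⟨L, inferInstance, inferInstance, Module.Basis.mk hli hspanL, θ, ψ, hψ, fun i => by
    rw [Module.Basis.mk_apply]; exact hψℓ i⟩

end Groth.Agent.AlgStkX
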