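import Groth.Agent.AlgStkX.SeqFlat

/-!
# The local ring cut out by a sequence which is regular on the fibre is flat
-/

set_option autoImplicit false

universe u

namespace Groth.Agent.AlgStkX

/-- A sequence regular on the fibre at `Q` cuts out a flat local algebra. -/
theorem exists_local_flat {O E : Type u} [CommRing O] [CommRing E] [Algebra O E] [Algebra.FinitePresentation O E]
    [Module.Flat O E] (p : Ideal O) [p.IsPrime] (Q : Ideal E) [Q.IsPrime] [Q.LiesOver p] (l : List E)
    (hl : ∀ x ∈ l, x ∈ Q) (hreg : RegFrom p Q ⊥ l) :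
    ∃ (L : Type u) (_ : CommRing L) (_ : IsLocalRing L) (_ : Algebra O L) (_ : Module.Flat O L) (θ : E →ₐ[O] L),
      (∀ x ∈ l, θ x = 0) ∧ (∀ w, w ∉ Q → IsUnit (θ w)) ∧ (∀ x, ∃ c w, w ∉ Q ∧ x * θ w = θ c) ∧
      (∀ x, x ∈ Q → ¬ IsUnit (θ x)) ∧
      ∀ (V : Type u) [CommRing V] [Algebra O V] (ψ : E →ₐ[O] V), (∀ x ∈ l, ψ x = 0) →
        (∀ w, w ∉ Q → IsUnit (ψ w)) → ∃ χ : L →ₐ[O] V, χ.comp θ = ψ := by
  obtain ⟨h, hh, hflat⟩ := exists_flat_of_regFrom p Q l hl hreg
  let E₀ := Localization.Away h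
  let J := (Ideal.ofList l).map (algebraMap E E₀)
  let F := E₀ ⧸ J
  have hdisj : Disjoint (Submonoid.powers h : Set E) (Q : Set E) := by
    rw [Set.disjoint_left]
    rintro _ ⟨k, rfl⟩ hx
    exact hh (Ideal.IsPrime.mem_of_pow_mem ‹_› k hx)
  have hQ0 : (Q.map (algebraMap E E₀)).IsPrime :=
    IsLocalization.isPrime_of_isPrime_disjoint (Submonoid.powers h) E₀ Q ‹_› hdisj
  have hlQ : Ideal.ofList l ≤ Q := Ideal.span_le.2 fun x hx => hl x hx
  let QF : Ideal F := (Q.map (algebraMap E E₀)).map (Ideal.Quotient.mk J)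
  have hQF : QF.IsPrime := Ideal.map_isPrime_of_surjective Ideal.Quotient.mk_surjective
    (by rw [Ideal.mk_ker]; exact Ideal.map_mono hlQ)
  have hcomap : QF.comap (algebraMap E F) = Q := by
    rw [IsScalarTower.algebraMap_eq E E₀ F, ← Ideal.comap_comap, Ideal.Quotient.algebraMap_eq,
      Ideal.comap_map_of_surjective _ Ideal.Quotient.mk_surjective, ← RingHom.ker_eq_comap_bot, Ideal.mk_ker,
      sup_eq_left.2 (Ideal.map_mono hlQ)]
    exact IsLocalization.comap_map_of_isPrime_disjoint (Submonoid.powers h) E₀ ‹_› hdisj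
  let L := Localization.AtPrime QF
  have : Module.Flat O F := hflat
  have : Module.Flat F L := IsLocalization.flat _ QF.primeCompl
  have hL : Module.Flat O L := Module.Flat.trans O F L
  refine ⟨L, inferInstance, inferInstance, inferInstance, hL,
    (IsScalarTower.toAlgHom O F L).comp ((IsScalarTower.toAlgHom O E F)), ?_, ?_, ?_, ?_, ?_⟩
  · intro x hx
    show algebraMap F L (algebraMap E F x) = 0
    have h0 : algebraMap E F x = 0 := by
      rw [IsScalarTower.algebraMap_apply E E₀ F]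
      exact Ideal.Quotient.eq_zero_iff_mem.2 (Ideal.mem_map_of_mem _ (Ideal.subset_span hx))
    rw [h0, map_zero]
  · intro w hw
    exact IsLocalization.map_units L (⟨algebraMap E F w, fun hx => hw (by rw [← hcomap]; exact hx)⟩ : QF.primeCompl)
  · intro x
    obtain ⟨⟨a, ⟨b, hb⟩⟩, hab⟩ := IsLocalization.surj QF.primeCompl x
    obtain ⟨a₀, rfl⟩ := Ideal.Quotient.mk_surjective a
    obtain ⟨b₀, rfl⟩ := Ideal.Quotient.mk_surjective b
    obtain ⟨⟨c, ⟨_, i, rfl⟩⟩, hc⟩ := IsLocalization.surj (Submonoid.powers h) a₀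
    obtain ⟨⟨w, ⟨_, j, rfl⟩⟩, hw⟩ := IsLocalization.surj (Submonoid.powers h) b₀
    have hwQ : w ∉ Q := fun hwQ => hb (by
      have h1 : algebraMap E F w ∈ QF := by rw [← hcomap] at hwQ; exact hwQ
      rw [IsScalarTower.algebraMap_apply E E₀ F, ← hw, map_mul] at h1
      exact (Ideal.IsPrime.mem_or_mem hQF h1).resolve_right (fun h2 => hh (by
        rw [← hcomap, Ideal.mem_comap]
        exact Ideal.IsPrime.mem_of_pow_mem hQF j (by rwa [IsScalarTower.algebraMap_apply E E₀ F, ← map_pow, ← map_pow]))))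
    refine ⟨c * h ^ j, w * h ^ i, fun hx => (Ideal.IsPrime.mem_or_mem ‹_› hx).elim hwQ
      (fun h2 => hh (Ideal.IsPrime.mem_of_pow_mem ‹_› i h2)), ?_⟩
    show x * algebraMap F L (algebraMap E F (w * h ^ i)) = algebraMap F L (algebraMap E F (c * h ^ j))
    rw [IsScalarTower.algebraMap_apply E E₀ F, IsScalarTower.algebraMap_apply E E₀ F, map_mul (algebraMap E E₀),
      map_mul (algebraMap E E₀), ← hw, ← hc]
    simp only [map_mul]
    have hab' : x * algebraMap F L (algebraMap E₀ F b₀) = algebraMap F L (algebraMap E₀ F a₀) := hab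
    rw [← hab']
    ring
  · intro x hx hu
    have h1 : algebraMap E F x ∈ QF := by rw [← hcomap] at hx; exact hx
    exact (IsLocalRing.mem_maximalIdeal _).1 ((IsLocalization.AtPrime.to_map_mem_maximal_iff L QF _).2 h1) hu
  · intro V _ _ ψ hψl hψu
    let ψ₀ : E₀ →+* V := IsLocalization.Away.lift h (g := ψ.toRingHom) (hψu h hh)
    have hψ₀ : ∀ e, ψ₀ (algebraMap E E₀ e) = ψ e := fun e => IsLocalization.Away.lift_eq _ _ e
    let ψ₁ : F →+* V := Ideal.Quotient.lift J ψ₀ fun x hx =>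
      (Ideal.map_le_iff_le_comap (K := RingHom.ker ψ₀)).2 (Ideal.span_le.2 fun y hy => by
        show ψ₀ _ = 0
        rw [hψ₀]; exact hψl y hy) hx
    have hψ₁ : ∀ e, ψ₁ (algebraMap E F e) = ψ e := fun e => by
      rw [IsScalarTower.algebraMap_apply E E₀ F]; exact hψ₀ e
    have hunit : ∀ y : QF.primeCompl, IsUnit (ψ₁ y) := by
      rintro ⟨b, hb⟩
      obtain ⟨b₀, rfl⟩ := Ideal.Quotient.mk_surjective b
      obtain ⟨⟨w, ⟨_, j, rfl⟩⟩, hw⟩ := IsLocalization.surj (Submonoid.powers h) b₀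
      have hwQ : w ∉ Q := fun hwQ => hb (by
        have h1 : algebraMap E F w ∈ QF := by rw [← hcomap] at hwQ; exact hwQ
        rw [IsScalarTower.algebraMap_apply E E₀ F, ← hw, map_mul] at h1
        exact (Ideal.IsPrime.mem_or_mem hQF h1).resolve_right (fun h2 => hh (by
          rw [← hcomap, Ideal.mem_comap]
          exact Ideal.IsPrime.mem_of_pow_mem hQF j (by rwa [IsScalarTower.algebraMap_apply E E₀ F, ← map_pow, ← map_pow]))))
      have h1 := hψu w hwQ
      rw [← hψ₁, IsScalarTower.algebraMap_apply E E₀ F, ← hw, map_mul, map_mul, IsUnit.mul_iff] at h1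
      exact h1.1
    refine ⟨{ IsLocalization.lift (M := QF.primeCompl) hunit with commutes' := fun r => ?_ }, ?_⟩
    · show IsLocalization.lift hunit (algebraMap O L r) = algebraMap O V r
      rw [IsScalarTower.algebraMap_apply O F L, IsLocalization.lift_eq, IsScalarTower.algebraMap_apply O E F, hψ₁,
        AlgHom.commutes]
    · exact AlgHom.ext fun e => (IsLocalization.lift_eq (M := QF.primeCompl) hunit _).trans (hψ₁ e)

end Groth.Agent.AlgStkX
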