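import Groth.Agent.AlgStkX.TrivStab
import Groth.Agent.AlgStLib.Faithful
import Groth.Agent.S10262
import Groth.Agent.S12969
import Groth.Agent.AlgStLib.Stack
import Mathlib.FieldTheory.IsAlgClosed.AlgebraicClosure

/-!
# Morphisms of Deligne–Mumford stacks injective on geometric automorphism groups
-/

set_option autoImplicit false
set_option backward.isDefEq.respectTransparency false
set_option backward.isDefEq.respectTransparency.types false

universe u

open CategoryTheory CategoryTheory.Functor CategoryTheory.Limits AlgebraicGeometry Opposite AlgSp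

namespace Groth.Agent.AlgStkX.TrivKernel

open Groth.Agent.FibBase Groth.Agent.AlgStLib Groth.Agent.AlgSpLib Groth.Agent.AlgStkX.TrivStab

variable {S : Scheme.{u}} {𝒳 𝒴 : AlgSt.Cat S}

/-- A Deligne–Mumford stack has unramified diagonal. -/
theorem isDMOver_of_isDM {K : Precoverage Scheme.{u}} (h : AlgSt.IsDM K 𝒳) : AlgSt.IsDMOver 𝒳 := by
  obtain ⟨U, p, hp, hp'⟩ := hasAtlas_locP_etale h.2
  have mono : ∀ {Q : MorphismProperty Scheme.{u}}, (@Etale : MorphismProperty Scheme.{u}) ≤ Q →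
      AlgSt.RepByAlgSpWith (LocP (S := S) Q) p :=
    fun {Q} hQ => repByAlgSpWith_mono (fun _ _ _ h => locP_mono hQ h) hp
  exact repByAlgSpWith_diag_toSelf_of_cover stableBC_locP isLocalOnBase_unr cancels_unr
    (repByAlgSp1_toSelf_of_repByAlgSp (repByAlgSp_overCat U)) h.1.diag
    (mono fun _ _ f (_ : Etale f) => ⟨inferInstance, inferInstance⟩)
    (locEssSurj_of_repByAlgSp (mono fun _ _ f (_ : Etale f) => inferInstanceAs (Flat f))
      (mono fun _ _ f (_ : Etale f) => inferInstanceAs (LocallyOfFinitePresentation f)) hp')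

/-- Two sections of an unramified space agreeing at all geometric points are equal. -/
theorem eq_of_geom_points {F : Sp S} (hF : IsAlgSpace F) {U : Over S} (q : F ⟶ (yon S).obj U)
    (hq : LocP (@LocallyOfFiniteType ⊓ @FormallyUnramified) q) (f₁ f₂ : (yon S).obj U ⟶ F)
    (h : f₁ ≫ q = f₂ ≫ q)
    (hg : ∀ (K : Type u) [Field K] [IsAlgClosed K] (sK : Spec (CommRingCat.of K) ⟶ S) (s : Over.mk sK ⟶ U),
      (yon S).map s ≫ f₁ = (yon S).map s ≫ f₂) : f₁ = f₂ := by
  have hd := (Groth.Agent.S10262.result (X := ⟨F, hF⟩) (Y := ⟨(yon S).obj U, IsAlgSpace.yon_obj U⟩)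
    (ObjectProperty.homMk q)).1 hq
  let d : (yon S).obj U ⟶ pullback q q := pullback.lift f₁ f₂ h
  have hd' : RepWith @IsOpenImmersion (pullback.diagonal q) := hd
  let E := hd'.rep.pullback d
  let j : E ⟶ U := hd'.rep.snd d
  have sq : IsPullback (hd'.rep.fst d) ((yon S).map j) (pullback.diagonal q) d := hd'.rep.isPullback d
  have : IsOpenImmersion j.left := hd'.property _ _ _ sq
  have : Surjective j.left := ⟨fun t => by
    let k := U.left.residueField t
    let K := AlgebraicClosure k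
    let ι : Spec (CommRingCat.of K) ⟶ U.left :=
      Spec.map (CommRingCat.ofHom (algebraMap k K)) ≫ U.left.fromSpecResidueField t
    let s : Over.mk (ι ≫ U.hom) ⟶ U := Over.homMk ι rfl
    have he : ((yon S).map s ≫ f₁) ≫ pullback.diagonal q = (yon S).map s ≫ d := by
      apply pullback.hom_ext
      · simp [d]
      · simp only [Category.assoc, pullback.diagonal_snd, Category.comp_id, d, pullback.lift_snd]
        exact hg K _ s
    obtain ⟨l, hl⟩ := (yon S).map_surjective (sq.lift _ _ he)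
    have hlj : l ≫ j = s := (yon S).map_injective (by rw [Functor.map_comp, hl, sq.lift_snd])
    refine ⟨l.left (IsLocalRing.closedPoint K), ?_⟩
    rw [← Scheme.Hom.comp_apply, ← Over.comp_left, hlj]
    show (Spec.map _ ≫ U.left.fromSpecResidueField t) _ = t
    exact (Scheme.Hom.comp_apply _ _ _).trans (Scheme.fromSpecResidueField_apply _ _)⟩
  have : IsIso j.left := (isIso_iff_isOpenImmersion_and_surjective _).2 ⟨inferInstance, inferInstance⟩
  have : IsIso ((Over.forget S).map j) := ‹IsIso j.left›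
  have : IsIso j := CategoryTheory.Functor.ReflectsIsomorphisms.reflects (Over.forget S) j
  rw [← cancel_epi ((yon S).map j)]
  have e₁ := congrArg (· ≫ pullback.fst q q) sq.w
  have e₂ := congrArg (· ≫ pullback.snd q q) sq.w
  simp only [Category.assoc, pullback.diagonal_fst, pullback.diagonal_snd, Category.comp_id, d,
    pullback.lift_fst, pullback.lift_snd] at e₁ e₂
  exact e₁.symm.trans e₂

/-- A morphism of DM stacks injective on geometric automorphism groups is representable. -/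
theorem repByAlgSp1_of_geom_injective (h𝒳 : AlgSt.IsDM Scheme.fppfPrecoverage 𝒳)
    (h𝒴 : AlgSt.IsDM Scheme.fppfPrecoverage 𝒴) (g : 𝒳 ⥤ᵇ 𝒴)
    (hinj : ∀ (k : Type u) [Field k] [IsAlgClosed k] (s : Spec (CommRingCat.of k) ⟶ S)
        (ξ : 𝒳.obj) (_ : 𝒳.p.obj ξ = Over.mk s) (a : ξ ⟶ ξ),
        𝒳.p.IsHomLift (𝟙 (𝒳.p.obj ξ)) a → g.map a = 𝟙 (g.obj ξ) → a = 𝟙 ξ) :
    AlgSt.RepByAlgSp1 g := by
  have hfg := h𝒳.1.isStack.1
  have hu : AlgSt.RepByAlgSpWith unr (FibCat.diag g) :=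
    repByAlgSpWith_diag_of_comp stableBC_locP cancels_unr (repByAlgSp1_iff_top.1 h𝒴.1.diag)
      (repByAlgSpWith_diag_congr (comp_toSelf g) (isDMOver_of_isDM h𝒳))
  refine (repByAlgSp1_iff_faithful h𝒳.1 h𝒴.1 g).2
    ((faithful_iff_trivial_kernel hfg h𝒴.1.isStack.1 g).2 fun ξ φ hφ hgφ => ?_)
  let U := 𝒳.p.obj ξ
  have := isFibered_of_isFibGrpd hfg
  let x := ofObj (𝒳 := 𝒳) (U := U) ⟨ξ, rfl⟩
  obtain ⟨i₀⟩ := ofObj_iso (𝒳 := 𝒳) (U := U) ⟨ξ, rfl⟩
  let j := ofFiberIso i₀
  let m : Gerb.fib ξ ⟶ Gerb.fib ξ := ⟨φ, isHomLift_id_self hφ⟩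
  have := fiber_isIso m
  let φi : ξ ≅ ξ := ofFiberIso (asIso m)
  obtain ⟨F, e, he, hq⟩ := hu U (BasedFunctor.comp x (FibCat.diag g))
  have hmono : ∀ f₁ f₂ : (yon S).obj U ⟶ F.obj,
      f₁ ≫ AlgSt.spMapOfOver (BasedFunctor.comp e (FibCat.fpFst _ _)) =
        f₂ ≫ AlgSt.spMapOfOver (BasedFunctor.comp e (FibCat.fpFst _ _)) → f₁ = f₂ := by
    intro f₁ f₂ hf
    obtain ⟨t₀, ht₀⟩ := (yon S).map_surjective (f₁ ≫ AlgSt.spMapOfOver (BasedFunctor.comp e (FibCat.fpFst _ _)))
    refine eq_of_geom_points F.property _ hq f₁ f₂ hf fun K _ _ sK s => ?_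
    refine eq_of_points_fp x e he _ _ (s ≫ t₀) ?_ ?_ fun ψ hψ hgψ =>
      hinj K sK _ (x.w_obj _) ψ (isHomLift_id_self hψ) hgψ
    · rw [Category.assoc, ← ht₀, ← Functor.map_comp]
    · rw [Category.assoc, ← hf, ← ht₀, ← Functor.map_comp]
  have hj : 𝒳.p.map (j.hom ≫ φ ≫ j.inv) = 𝟙 _ := by
    rw [Functor.map_comp, Functor.map_comp, hφ, Category.id_comp, ← Functor.map_comp, j.hom_inv_id,
      CategoryTheory.Functor.map_id]
  have hj' : g.map (j.hom ≫ φ ≫ j.inv) = 𝟙 _ := by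
    rw [g.toFunctor.map_comp, g.toFunctor.map_comp, hgφ, Category.id_comp, ← g.toFunctor.map_comp, j.hom_inv_id,
      g.toFunctor.map_id]
  have hχ := eq_id_of_mono x e he hmono (j ≪≫ φi ≪≫ j.symm) hj hj'
  change j.hom ≫ φ ≫ j.inv = 𝟙 _ at hχ
  have e1 := congrArg (fun m => j.inv ≫ m ≫ j.hom) hχ
  simp at e1
  exact e1

end Groth.Agent.AlgStkX.TrivKernel
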