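import Groth.Agent.S10295
import Groth.Agent.S10300
import Groth.Agent.AlgStkX.TrivKernel
import Groth.Agent.AlgStLib.RepDiag

/-!
# Deligne–Mumford stacks with separated quasi-compact diagonal have quasi-affine diagonal
-/

set_option backward.isDefEq.respectTransparency false
set_option backward.isDefEq.respectTransparency.types false

universe u

open CategoryTheory CategoryTheory.Functor CategoryTheory.Limits AlgebraicGeometry Opposite AlgSp
open Groth.Agent.FibBase Groth.Agent.AlgSpLib Groth.Agent.AlgStLib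

namespace Groth.Agent.AlgStkX.QADiag

variable {S : Scheme.{u}} {𝒳 𝒴 : AlgSt.Cat S}

/-- Zariski's main theorem: separated quasi-finite maps of algebraic spaces are quasi-affine. -/
theorem isQuasiAffineMor_of_lqf {F G : Sp S} (hF : IsAlgSpace F) (hG : IsAlgSpace G) (a : F ⟶ G)
    (hq : LocP (@LocallyQuasiFinite ⊓ @LocallyOfFiniteType) a) (hc : IsQuasiCompactMor a)
    (hs : IsSeparatedMor a) : IsQuasiAffineMor a := by
  obtain ⟨Y', ν, f', hn⟩ := Groth.Agent.S10295.result (Y := ⟨F, hF⟩) (X := ⟨G, hG⟩) (ObjectProperty.homMk a) hc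
    (Groth.Agent.AlgSpDec.isQuasiSeparatedMor_of_isSeparatedMor hs)
  exact (Groth.Agent.S10300.result (X := ⟨F, hF⟩) (Y := ⟨G, hG⟩) (ObjectProperty.homMk a) hq hc hs ν f' hn).2.2

/-- A DM stack with separated quasi-compact diagonal has quasi-affine diagonal. -/
theorem repByAlgSpWith_isQuasiAffineMor_diag {K : Precoverage Scheme.{u}} (h𝒳 : AlgSt.IsDM K 𝒳)
    (hsep : AlgSt.RepByAlgSpWith AlgSp.IsSeparatedMor (FibCat.diag (FibCat.toSelf 𝒳)))
    (hqc : AlgSt.RepByAlgSpWith AlgSp.IsQuasiCompactMor (FibCat.diag (FibCat.toSelf 𝒳))) :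
    AlgSt.RepByAlgSpWith AlgSp.IsQuasiAffineMor (FibCat.diag (FibCat.toSelf 𝒳)) := by
  have hu : AlgSt.RepByAlgSpWith lqf (FibCat.diag (FibCat.toSelf 𝒳)) :=
    repByAlgSpWith_mono unr_le_lqf (Groth.Agent.AlgStkX.TrivKernel.isDMOver_of_isDM h𝒳)
  intro U y
  obtain ⟨F, e, he, h₁⟩ := hu U y
  exact ⟨F, e, he, isQuasiAffineMor_of_lqf F.property (IsAlgSpace.yon_obj U) _ h₁
    (RepOver.property_of_stableBC stableBC_isQuasiCompactMor (hqc U y) e he).2
    (RepOver.property_of_stableBC stableBC_isSeparatedMor (hsep U y) e he).2⟩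

end Groth.Agent.AlgStkX.QADiag
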