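import Groth.Agent.AlgStkX.AffineDiag
import Groth.Agent.AlgSpLib.AffineDescProps

/-!
# The diagonal of `[X/G]` is quasi-affine when `X` is quasi-separated and `G` affine
-/

set_option autoImplicit false
set_option backward.isDefEq.respectTransparency false
set_option backward.isDefEq.respectTransparency.types false

universe u

open CategoryTheory CategoryTheory.Functor CategoryTheory.Limits MonoidalCategory CartesianMonoidalCategory MonObj
  AlgebraicGeometry AlgSp

namespace Groth.Agent.AlgStkX

open Groth.Agent.FibBase Groth.Agent.QuotLib Groth.Agent.AlgStLib Groth.Agent.AlgSpLib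

variable {S : Scheme.{u}} {G : Over S} [GrpObj G] {X : Over S}

local notation "K₀" => Scheme.fppfPrecoverage

theorem stableBC_isQuasiAffineMor : StableBC (IsQuasiAffineMor (S := S)) :=
  fun _ _ _ _ _ _ _ _ _ _ _ _ sq h => isQuasiAffineMor_of_isPullback sq h

/-- A map factoring as a quasi-compact immersion and an affine map is quasi-affine. -/
theorem isQuasiAffineMor_of_factor {P Y : Over S} (m : P ⟶ Y) {M : Scheme.{u}} (g : P.left ⟶ M) (h : M ⟶ Y.left)
    (hgh : g ≫ h = m.left) (hg : IsImmersion g) (hg' : QuasiCompact g) (hh : IsAffineHom h) :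
    IsQuasiAffineMor ((yon S).map m) := by
  intro Z hZ z
  obtain ⟨z', rfl⟩ := (yon S).map_surjective z
  let W : Over S := Over.mk (pullback.snd m.left z'.left ≫ Z.hom)
  let i : W ⟶ Z := CategoryTheory.Over.homMk (pullback.snd m.left z'.left) rfl
  let f : W ⟶ P := CategoryTheory.Over.homMk (pullback.fst m.left z'.left) (by
    show _ ≫ P.hom = _ ≫ Z.hom
    rw [← Over.w m, ← Over.w z', reassoc_of% (pullback.condition (f := m.left) (g := z'.left))])
  have sq : IsPullback f i m z' :=
    IsPullback.of_map (Over.forget S) (Over.OverMorphism.ext pullback.condition)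
      (IsPullback.of_hasPullback m.left z'.left)
  refine ⟨W, i, (yon S).map f, sq.map (yon S), ?_⟩
  have : IsAffine Z.left := hZ
  have : IsAffine (pullback h z'.left) := isAffine_of_isAffineHom (pullback.snd h z'.left)
  let e := pullbackRightPullbackFstIso h z'.left g
  have : IsImmersion (pullback.snd g (pullback.fst h z'.left)) := MorphismProperty.pullback_snd _ _ hg
  have : QuasiCompact (pullback.snd g (pullback.fst h z'.left)) := MorphismProperty.pullback_snd _ _ hg'
  have : CompactSpace ↥(pullback g (pullback.fst h z'.left)) :=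
    (quasiCompact_iff_compactSpace (pullback.snd g (pullback.fst h z'.left))).1 inferInstance
  have : (pullback g (pullback.fst h z'.left)).IsQuasiAffine :=
    Scheme.IsQuasiAffine.of_isImmersion (pullback.snd g (pullback.fst h z'.left))
  have : (pullback (g ≫ h) z'.left).IsQuasiAffine := Scheme.IsQuasiAffine.of_isAffineHom e.inv
  show (pullback m.left z'.left).IsQuasiAffine
  rw [← hgh]
  exact this

variable [Flat G.hom] [LocallyOfFinitePresentation G.hom] [IsAffineHom G.hom]

set_option maxHeartbeats 1000000 in

/-- `[X/G]` has quasi-affine diagonal when `X` is quasi-separated. -/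
theorem repByAlgSpWith_isQuasiAffineMor_diag (aX : AlgGrp.Action G X) (hqs : QuasiSeparated X.hom) :
    AlgSt.RepByAlgSpWith IsQuasiAffineMor (FibCat.diag (FibCat.toSelf (AlgSt.QuotSt K₀ G aX))) := by
  let p := quotOver K₀ G aX
  let t := FibCat.toSelf (AlgSt.QuotSt K₀ G aX)
  obtain ⟨h1, h2, h3⟩ := quot_flat_lfp_surjective (G := G) (aX := aX)
  have hes : LocEssSurj p := locEssSurj_of_repByAlgSp h1 h2 h3
  let P := (torsor p).P
  let m : P ⟶ X ⊗ X := lift (torsorπ p) (torsor p).φ
  have hπ : IsAffineHom (torsorπ p).left := by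
    have hs : IsAffineHom (snd G X).left := flat_snd (R := @IsAffineHom) ‹IsAffineHom G.hom› X
    show IsAffineHom ((torsor p).π ≫ eqToHom _).left
    rw [Over.comp_left]
    exact MorphismProperty.comp_mem @IsAffineHom _ _ hs inferInstance
  have hmQ : IsQuasiAffineMor ((yon S).map m) := by
    have h := MorphismProperty.pullback_fst (P := @QuasiSeparated) X.hom X.hom hqs
    refine isQuasiAffineMor_of_factor m
      (pullback.lift (𝟙 _) m.left ?_) (pullback.snd (torsorπ p).left (fst X X).left) (pullback.lift_snd _ _ _)
      ?_ ?_ (MorphismProperty.pullback_snd (P := @IsAffineHom) _ _ hπ)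
    · rw [← Over.comp_left, lift_fst]
      exact Category.id_comp _
    · refine @IsImmersion.of_comp _ _ _ _ (pullback.fst (torsorπ p).left (fst X X).left) ?_
      rw [pullback.lift_fst]
      infer_instance
    · have : QuasiSeparated (pullback.fst (torsorπ p).left (fst X X).left) :=
        MorphismProperty.pullback_fst (P := @QuasiSeparated) _ _ h
      refine @QuasiCompact.of_comp _ _ _ _ (pullback.fst (torsorπ p).left (fst X X).left) ?_ this
      rw [pullback.lift_fst]
      infer_instance
  have hw : AlgSt.RepByAlgSpWith IsQuasiAffineMor (weaken p p t) := by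
    let Φ : FibCat.overCat (X ⊗ X) ⥤ᵇ FibCat.fp (BasedFunctor.comp p t) (BasedFunctor.comp p t) :=
      BasedFunctor.comp (prodToFp X X) (fpMap (F := BasedFunctor.comp p t) (G := BasedFunctor.comp p t)
        (F' := FibCat.toSelf (FibCat.overCat X)) (G' := FibCat.toSelf (FibCat.overCat X))
        (a := BasedFunctor.id _) (b := BasedFunctor.id _) (c := BasedFunctor.id _) (selfIso _ _) (selfIso _ _))
    have : (BasedFunctor.id (FibCat.selfOver (Over S) : AlgSt.Cat S)).toFunctor.Full := inferInstanceAs (𝟭 _).Full
    have : (BasedFunctor.id (FibCat.selfOver (Over S) : AlgSt.Cat S)).toFunctor.Faithful :=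
      inferInstanceAs (𝟭 _).Faithful
    have hΦ : FibCat.IsEquivOver Φ :=
      isEquivOver_comp (prodToFp_isEquivOver X X) (fpMap_isEquivOver _ _ isEquivOver_id isEquivOver_id)
    refine (repByAlgSpWith_iff_of_square (f := weaken p p t) (f' := AlgSt.overMap m) (a := toFp p) (b := Φ)
      (toFp_isEquivOver p) hΦ ?_).2 (repByAlgSpWith_overMap stableBC_isQuasiAffineMor hmQ)
    refine BasedNatIso.mkNatIso (NatIso.ofComponents (fun c => fpIsoMk
      (Over.isoMk (Iso.refl _) ?_) (Over.isoMk (Iso.refl _) ?_) ?_) ?_) ?_
    · show 𝟙 c.left ≫ (c.hom ≫ torsorπ p) = (c.hom ≫ m) ≫ fst X X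
      simp [m]
    · show 𝟙 c.left ≫ (c.hom ≫ (torsor p).φ) = (c.hom ≫ m) ≫ snd X X
      simp [m]
    · refine self_square (T := c.left) (T₁ := c.left) (T₂ := c.left) (BasedFunctor.comp p t) (BasedFunctor.comp p t) ?_ ?_ ?_ ?_
      · exact isHomLift_id_of_map_eq (p := (FibCat.overCat X).p)
          (a := ((BasedFunctor.comp (AlgSt.overMap m) Φ).obj c).obj.fst)
          (b := ((BasedFunctor.comp (toFp p) (weaken p p t)).obj c).obj.fst) (S := c.left) rfl rfl rfl
      · exact isHomLift_id_of_map_eq (p := (FibCat.overCat X).p)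
          (a := ((BasedFunctor.comp (AlgSt.overMap m) Φ).obj c).obj.snd)
          (b := ((BasedFunctor.comp (toFp p) (weaken p p t)).obj c).obj.snd) (S := c.left) rfl rfl rfl
      · exact ((BasedFunctor.comp (toFp p) (weaken p p t)).obj c).property
      · exact ((BasedFunctor.comp (AlgSt.overMap m) Φ).obj c).property
    · intro a b k
      exact ObjectProperty.hom_ext _ (CategoricalPullback.hom_ext (Over.OverMorphism.ext (by simp; rfl))
        (Over.OverMorphism.ext (by simp; rfl)))
    · intro c
      exact fp_isHomLift (F := BasedFunctor.comp p t) (G := BasedFunctor.comp p t) _ _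
        (h := isHomLift_id_of_map_eq (p := (FibCat.overCat X).p)
          (a := ((BasedFunctor.comp (AlgSt.overMap m) Φ).obj c).obj.fst)
          (b := ((BasedFunctor.comp (toFp p) (weaken p p t)).obj c).obj.fst) (S := (FibCat.overCat P).p.obj c) rfl rfl rfl)
  exact repByAlgSpWith_of_locEssSurj stableBC_isQuasiAffineMor
    (isLocalOnBase_fppf_of_fpqc isLocalOnBase_fpqc_isQuasiAffineMor) (isAlgStack_quotSt aX).diag
    (locEssSurj_pairMap t hes hes)
    ((repByAlgSpWith_iff_of_square (f' := weaken p p t) (f := FibCat.fpFst (pairMap p p t) (FibCat.diag t))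
      (a := diagComparison p p t) (b := BasedFunctor.id _) (diagComparison_isEquivOver p p t) isEquivOver_id
      (Iso.refl _)).2 hw)

end Groth.Agent.AlgStkX
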