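import Groth.Agent.AlgStkX.ToB

/-!
# The quotient stack with scheme torsors inside the quotient stack with sheaf torsors

`cmp : [X/G] ⥤ᵇ [X/G]_{sheaves}` is fully faithful; its essential image consists of the torsors whose
total sheaf is representable.
-/

set_option backward.isDefEq.respectTransparency false
set_option backward.isDefEq.respectTransparency.types false
set_option linter.unusedVariables false

universe u

open CategoryTheory CategoryTheory.Limits MonoidalCategory CartesianMonoidalCategory MonObj AlgebraicGeometry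
open AlgSp
open scoped CategoryTheory.Obj

namespace Groth.Agent.AlgStkX

variable {S : Scheme.{u}} {G : Over S} [GrpObj G] {X : Over S} (aX : AlgGrp.Action G X)

section General

variable (K : Precoverage Scheme.{u})

/-- A scheme torsor as a sheaf torsor. -/
noncomputable def cmpObj (A : AlgSt.QuotObj K G aX) : AlgSt.SpQuotObj K ((toB S).obj G) (mapAct aX) where
  base := A.base
  b := (yon S).map (Over.mkIdTerminal.from A.base)
  P := (toB S).obj A.P
  act := mapAct A.act
  π := (toB S).map A.π
  cart := isPullback_mapAct A.cart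
  loc := by
    obtain ⟨R, hR, hs⟩ := A.loc
    refine ⟨R, hR, fun T' f hf => ?_⟩
    obtain ⟨s, hs⟩ := hs f hf
    have hw : s ≫ A.π.left = f := hs
    refine ⟨(yon S).map (Over.homMk s (by
      show s ≫ A.P.hom = f ≫ A.base.hom
      rw [← Over.w A.π, reassoc_of% hw])), ?_⟩
    show _ ≫ (yon S).map A.π = _
    rw [← Functor.map_comp]
    exact congrArg (yon S).map (Over.OverMorphism.ext hw)
  φ := (toB S).map A.φ
  eqv := (toB_eqv_iff A.act aX A.φ).2 A.eqv

/-- The comparison on morphisms. -/
noncomputable def cmpHom {A B : AlgSt.QuotObj K G aX} (f : A ⟶ B) : cmpObj aX K A ⟶ cmpObj aX K B where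
  base := f.base
  wb := hom_B₀_ext _ _
  top := (toB S).map f.top
  eqv := (toB_eqv_iff A.act B.act f.top).2 f.eqv
  cart := f.cart.map (toB S)
  wφ := by
    show (toB S).map f.top ≫ (toB S).map B.φ = (toB S).map A.φ
    rw [← Functor.map_comp, f.wφ]

/-- The comparison functor. -/
noncomputable def cmp : AlgSt.QuotSt K G aX ⥤ᵇ AlgSt.SpQuotSt K ((toB S).obj G) (mapAct aX) where
  toFunctor :=
    { obj := cmpObj aX K
      map := cmpHom aX K
      map_id := fun A => AlgSt.SpQuotObj.hom_ext rfl ((toB S).map_id _)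
      map_comp := fun f g => AlgSt.SpQuotObj.hom_ext rfl ((toB S).map_comp _ _) }
  w := rfl

instance cmp_faithful : (cmp aX K).toFunctor.Faithful where
  map_injective {A B f g} h := AlgSt.QuotObj.hom_ext (congrArg (fun t => t.base) h)
    ((toB S).map_injective (congrArg (fun t => t.top) h))

instance cmp_full : (cmp aX K).toFunctor.Full where
  map_surjective {A B} g := by
    obtain ⟨t, ht⟩ := (toB S).map_surjective g.top
    have hb : AlgSt.bHom g.base g.wb = (toB S).map g.base := Over.OverMorphism.ext rfl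
    refine ⟨⟨g.base, t, ?_, ?_, ?_⟩, AlgSt.SpQuotObj.hom_ext rfl ht⟩
    · exact (toB_eqv_iff A.act B.act t).1 (by rw [ht]; exact g.eqv)
    · refine IsPullback.of_map_of_faithful (toB S) ?_
      rw [ht, ← hb]
      exact g.cart
    · refine (toB S).map_injective ?_
      rw [Functor.map_comp, ht]
      exact g.wφ

/-- An object whose total sheaf is representable comes from a scheme torsor. -/
theorem exists_cmpObj_iso (A : AlgSt.SpQuotObj K ((toB S).obj G) (mapAct aX))
    (h : ∃ Q : Over S, Nonempty ((yon S).obj Q ≅ A.P.left)) :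
    ∃ (A₀ : AlgSt.QuotObj K G aX) (e : cmpObj aX K A₀ ≅ A), (AlgSt.SpQuotSt K ((toB S).obj G) (mapAct aX)).p.IsHomLift (𝟙 A.base) e.hom := by
  obtain ⟨Q, ⟨i⟩⟩ := h
  let e₀ : (toB S).obj Q ≅ A.P := Over.isoMk i (hom_B₀_ext _ _)
  let eb : (toB S).obj A.base ≅ Over.mk A.b := Over.isoMk (Iso.refl _) (hom_B₀_ext _ _)
  obtain ⟨π, hπ⟩ := (toB S).map_surjective (e₀.hom ≫ A.π ≫ eb.inv)
  obtain ⟨φ, hφ⟩ := (toB S).map_surjective (e₀.hom ≫ A.φ)
  obtain ⟨act, hact⟩ := (toB S).map_surjective (Functor.OplaxMonoidal.δ (toB S) G Q ≫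
    ((toB S).obj G ◁ e₀.hom) ≫ A.act.act ≫ e₀.inv)
  have hμact : Functor.LaxMonoidal.μ (toB S) G Q ≫ (toB S).map act =
      ((toB S).obj G ◁ e₀.hom) ≫ A.act.act ≫ e₀.inv := by
    rw [hact, Functor.Monoidal.μ_δ_assoc]
  let aQ : AlgGrp.Action G Q :=
    { act := act
      one_act := by
        refine (toB S).map_injective ?_
        rw [Functor.map_comp, ← cancel_epi (Functor.LaxMonoidal.μ (toB S) _ _),
          ← Functor.LaxMonoidal.μ_natural_left_assoc, hμact]
        rw [← cancel_epi (Functor.LaxMonoidal.ε (toB S) ▷ (toB S).obj Q), ← Functor.LaxMonoidal.left_unitality,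
          ← MonoidalCategory.comp_whiskerRight_assoc, ← Functor.obj.η_def, ← whisker_exchange_assoc,
          reassoc_of% A.act.one_act, leftUnitor_naturality_assoc, Iso.hom_inv_id, Category.comp_id]
      mul_act := by
        refine (toB S).map_injective ?_
        rw [Functor.map_comp, Functor.map_comp, Functor.map_comp, ← cancel_epi (Functor.LaxMonoidal.μ (toB S) _ _),
          ← Functor.LaxMonoidal.μ_natural_left_assoc, hμact,
          ← cancel_epi ((Functor.LaxMonoidal.μ (toB S) G G) ▷ (toB S).obj Q),
          Functor.LaxMonoidal.associativity_assoc, ← Functor.LaxMonoidal.μ_natural_right_assoc, hμact,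
          ← MonoidalCategory.comp_whiskerRight_assoc, ← Functor.obj.μ_def, ← whisker_exchange_assoc,
          reassoc_of% A.act.mul_act]
        simp only [← MonoidalCategory.whiskerLeft_comp_assoc]
        rw [reassoc_of% hμact]
        rw [associator_naturality_right_assoc]
        simp }
  have haQ : (mapAct aQ).act = ((toB S).obj G ◁ e₀.hom) ≫ A.act.act ≫ e₀.inv := hμact
  let A₀ : AlgSt.QuotObj K G aX :=
    { base := A.base
      P := Q
      act := aQ
      π := π
      cart := by
        refine IsPullback.of_map_of_faithful (toB S) ?_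
        refine (A.cart.of_iso (((toB S).obj G ◁ᵢ e₀).symm ≪≫ Functor.Monoidal.μIso (toB S) G Q) e₀.symm e₀.symm
          eb.symm ?_ ?_ ?_ ?_)
        · simp [show (toB S).map aQ.act = _ from hact]
        · simp
        · simp [hπ]
        · simp [hπ]
      loc := by
        obtain ⟨R, hR, hs⟩ := A.loc
        refine ⟨R, hR, fun T' f hf => ?_⟩
        obtain ⟨s, hs⟩ := hs f hf
        obtain ⟨t, ht⟩ := (yon S).map_surjective (s ≫ i.inv)
        have hπl : (yon S).map π = i.hom ≫ A.π.left := by
          have := congrArg CommaMorphism.left hπ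
          exact this.trans (by
            show i.hom ≫ A.π.left ≫ 𝟙 ((yon S).obj A.base) = _
            exact congrArg (i.hom ≫ ·) (Category.comp_id _))
        refine ⟨t.left, ?_⟩
        have h2 : t ≫ π = (Over.homMk f : Over.mk (f ≫ A.base.hom) ⟶ A.base) := by
          refine (yon S).map_injective ?_
          rw [Functor.map_comp, ht, hπl, Category.assoc, Iso.inv_hom_id_assoc, hs]
        exact congrArg CommaMorphism.left h2
      φ := φ
      eqv := by
        refine (toB_eqv_iff aQ aX φ).1 ?_
        rw [haQ, hφ, Category.assoc, Category.assoc, Iso.inv_hom_id_assoc, A.eqv,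
          ← MonoidalCategory.whiskerLeft_comp_assoc] }
  have hπ' : (toB S).map π ≫ eb.hom = e₀.hom ≫ A.π := by rw [hπ]; simp
  let fwd : cmpObj aX K A₀ ⟶ A :=
    { base := 𝟙 A.base
      wb := hom_B₀_ext _ _
      top := e₀.hom
      eqv := by
        show (mapAct aQ).act ≫ e₀.hom = _
        rw [haQ]
        simp
      cart := by
        rw [show AlgSt.bHom (𝟙 A.base) (hom_B₀_ext _ _) = eb.hom from Over.OverMorphism.ext ((yon S).map_id _)]
        exact IsPullback.of_horiz_isIso ⟨hπ'.symm⟩
      wφ := hφ.symm }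
  let bwd : A ⟶ cmpObj aX K A₀ :=
    { base := 𝟙 A.base
      wb := hom_B₀_ext _ _
      top := e₀.inv
      eqv := by
        show A.act.act ≫ e₀.inv = _ ≫ (mapAct aQ).act
        rw [haQ]
        simp
      cart := by
        rw [show AlgSt.bHom (𝟙 A.base) (hom_B₀_ext _ _) = eb.inv from Over.OverMorphism.ext ((yon S).map_id _)]
        refine IsPullback.of_horiz_isIso ⟨?_⟩
        show e₀.inv ≫ (toB S).map π = A.π ≫ eb.inv
        rw [hπ]
        simp
      wφ := by
        show e₀.inv ≫ (toB S).map φ = A.φ
        rw [hφ, Iso.inv_hom_id_assoc] }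
  exact ⟨A₀, ⟨fwd, bwd, AlgSt.SpQuotObj.hom_ext (Category.comp_id _) e₀.hom_inv_id,
    AlgSt.SpQuotObj.hom_ext (Category.comp_id _) e₀.inv_hom_id⟩,
    IsHomLift.map _ fwd⟩

end General

end Groth.Agent.AlgStkX
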