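import Groth.Agent.AlgStkX.LangPoint
import Groth.Agent.AlgStkX.EtaleQuot
import Groth.Agent.QuotLib.TrivHom
import Mathlib.GroupTheory.GroupAction.Quotient

/-!
# The mass formula for rational points of a quotient stack over a finite field
-/

set_option autoImplicit false
set_option backward.isDefEq.respectTransparency false
set_option backward.isDefEq.respectTransparency.types false

universe u

open CategoryTheory CategoryTheory.Limits MonoidalCategory CartesianMonoidalCategory MonObj AlgebraicGeometry AlgSp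

namespace Groth.Agent.AlgStkX.QuotPts

open Groth.Agent.QuotLib Groth.Agent.GrpSchLib

section Act

variable {S : Scheme.{u}} {G : Over S} [GrpObj G] {X : Over S} (aX : AlgGrp.Action G X) (T : Over S)

/-- The action on points. -/
@[implicit_reducible]
noncomputable def ptsAction : MulAction (T ⟶ G) (T ⟶ X) where
  smul g x := lift g x ≫ aX.act
  one_smul x := act_one aX x
  mul_smul g h x := (act_mul aX g h x).symm

theorem finsum_inv_card_stabilizer {Γ Ω : Type*} [Group Γ] [MulAction Γ Ω] [Finite Γ] [Finite Ω] :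
    (Nat.card Ω : ℚ) / Nat.card Γ =
      ∑ᶠ o : Quotient (MulAction.orbitRel Γ Ω), (Nat.card (MulAction.stabilizer Γ o.out) : ℚ)⁻¹ := by
  classical
  have := Fintype.ofFinite (Quotient (MulAction.orbitRel Γ Ω))
  have := Fintype.ofFinite Γ
  have := Fintype.ofFinite Ω
  rw [finsum_eq_sum_of_fintype]
  have key : ∀ o : Quotient (MulAction.orbitRel Γ Ω), (Nat.card (MulAction.stabilizer Γ o.out) : ℚ)⁻¹ =
      (Nat.card (MulAction.orbit Γ o.out) : ℚ) / Nat.card Γ := fun o => by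
    have h : Nat.card (MulAction.orbit Γ o.out) * Nat.card (MulAction.stabilizer Γ o.out) = Nat.card Γ := by
      rw [← Nat.card_prod, Nat.card_congr (MulAction.orbitProdStabilizerEquivGroup Γ o.out)]
    rw [← h, Nat.cast_mul]
    have h1 : (Nat.card (MulAction.orbit Γ o.out) : ℚ) ≠ 0 := by
      have : Nonempty (MulAction.orbit Γ o.out) := (MulAction.nonempty_orbit _).to_subtype
      exact_mod_cast Nat.card_pos.ne'
    field_simp
  rw [Finset.sum_congr rfl fun o _ => key o, ← Finset.sum_div, ← Nat.cast_sum,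
    Nat.card_congr (MulAction.selfEquivSigmaOrbits Γ Ω), Nat.card_sigma]

end Act

/-- Points of a finite type scheme over a finite field are finite. -/
theorem finite_points {F : Type u} [Field F] [Finite F] (X : Over (Spec (CommRingCat.of F)))
    [LocallyOfFiniteType X.hom] [QuasiCompact X.hom] :
    Finite (Over.mk (𝟙 (Spec (CommRingCat.of F))) ⟶ X) := by
  classical
  let 𝒰 := X.left.affineCover
  have : CompactSpace ↥X.left := QuasiCompact.compactSpace_of_compactSpace X.hom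
  let 𝒱 := 𝒰.finiteSubcover
  let pt : ↥(Spec (CommRingCat.of F)) := IsLocalRing.closedPoint F
  have hfac : ∀ p : Over.mk (𝟙 (Spec (CommRingCat.of F))) ⟶ X, ∃ (i : 𝒱.I₀)
      (q : {q : Spec (CommRingCat.of F) ⟶ 𝒱.X i // q ≫ 𝒱.f i ≫ X.hom = 𝟙 _}), q.1 ≫ 𝒱.f i = p.left := fun p => by
    obtain ⟨i, hi⟩ := 𝒱.exists_eq (p.left pt)
    refine ⟨i, ⟨IsOpenImmersion.lift (𝒱.f i) p.left ?_, ?_⟩, IsOpenImmersion.lift_fac _ _ _⟩
    · rintro _ ⟨z, rfl⟩
      obtain ⟨w, hw⟩ := hi
      exact ⟨w, by rw [hw]; exact congrArg p.left (Subsingleton.elim (α := ↥(Spec (CommRingCat.of F))) _ _)⟩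
    · rw [IsOpenImmersion.lift_fac_assoc]
      exact Over.w p
  choose i q hq using hfac
  have hfin : ∀ i, Finite {q : Spec (CommRingCat.of F) ⟶ 𝒱.X i // q ≫ 𝒱.f i ≫ X.hom = 𝟙 _} := fun i => by
    have : IsAffine (𝒱.X i) := by
      show IsAffine (𝒰.X _)
      infer_instance
    let f : CommRingCat.of F ⟶ Γ(𝒱.X i, ⊤) :=
      (Scheme.ΓSpecIso (CommRingCat.of F)).inv ≫ (𝒱.f i ≫ X.hom).appTop
    have hft : f.hom.FiniteType := by
      have h := (HasRingHomProperty.iff_of_isAffine (P := @LocallyOfFiniteType) (f := 𝒱.f i ≫ X.hom)).1 inferInstance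
      exact RingHom.FiniteType.comp h (RingHom.FiniteType.of_surjective _
        (Scheme.ΓSpecIso (CommRingCat.of F)).commRingCatIsoToRingEquiv.symm.surjective)
    letI : Algebra F Γ(𝒱.X i, ⊤) := f.hom.toAlgebra
    obtain ⟨s, hs⟩ := hft.out
    let Q := {q : Spec (CommRingCat.of F) ⟶ 𝒱.X i // q ≫ 𝒱.f i ≫ X.hom = 𝟙 _}
    let r : Q → (Γ(𝒱.X i, ⊤) ⟶ CommRingCat.of F) := fun q =>
      q.1.appTop ≫ (Scheme.ΓSpecIso (CommRingCat.of F)).hom
    have halg : ∀ q : Q, f ≫ r q = 𝟙 _ := fun q => by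
      simp only [f, r, Category.assoc]
      rw [← Category.assoc (𝒱.f i ≫ X.hom).appTop, ← Scheme.Hom.comp_appTop, q.2, Scheme.Hom.id_appTop,
        Category.id_comp, Iso.inv_hom_id]
    let φ : Q → (Γ(𝒱.X i, ⊤) →ₐ[F] F) := fun q =>
      { (r q).hom with commutes' := fun c => congrArg (fun m => m.hom c) (halg q) }
    let ev : Q → (↥(s : Set Γ(𝒱.X i, ⊤)) → F) := fun q z => φ q z.1
    refine Finite.of_injective ev fun q q' h => Subtype.ext (ext_of_isAffine ?_)
    have he : φ q = φ q' := AlgHom.ext_of_adjoin_eq_top hs fun z hz => congrFun h ⟨z, hz⟩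
    refine (cancel_mono (Scheme.ΓSpecIso (CommRingCat.of F)).hom).1 ?_
    show r q = r q'
    exact CommRingCat.hom_ext (RingHom.ext fun z => AlgHom.congr_fun he z)
  let g : (Σ i, {q : Spec (CommRingCat.of F) ⟶ 𝒱.X i // q ≫ 𝒱.f i ≫ X.hom = 𝟙 _}) →
      (Spec (CommRingCat.of F) ⟶ X.left) := fun t => t.2.1 ≫ 𝒱.f t.1
  have : Finite (Set.range g) := (Set.finite_range g).to_subtype
  exact Finite.of_injective (β := Set.range g) (fun p => ⟨p.left, ⟨i p, q p⟩, hq p⟩) fun p p' h =>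
    Over.OverMorphism.ext (congrArg Subtype.val h)

variable {F : Type u} [Field F] [Finite F] {X G : Over (Spec (CommRingCat.of F))} [GrpObj G]
  {aX : AlgGrp.Action G X}

local notation "K₀" => Scheme.fppfPrecoverage
local notation "T₀" => Over.mk (𝟙 (Spec (CommRingCat.of F)))

theorem base_unique {T : Over (Spec (CommRingCat.of F))} (f g : T ⟶ T₀) : f = g :=
  Over.mkIdTerminal.hom_ext f g

/-- Over a finite field every torsor under a smooth connected affine group is trivial. -/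
theorem exists_section [Smooth G.hom] [IsAffineHom G.hom] [ConnectedSpace ↥G.left]
    (A : AlgSt.QuotObj K₀ G aX) (hA : A.base = T₀) : Nonempty (T₀ ⟶ A.P) := by
  have : IsAffine G.left := isAffine_of_isAffineHom G.hom
  have hsm : Smooth A.π.left := EtaleQuot.smooth_π aX A
  have haf : IsAffineHom A.π.left :=
    (repWith_yon_map_iff (P := @IsAffineHom) _).1
      (AlgSpDec.repWith_isAffineHom_of_isAffineMor (isAffineMor_torsor aX (cmpObj aX K₀ A)))
  have hsu : Surjective A.π.left := ⟨fun x => by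
    obtain ⟨Rv, hR, hsec⟩ := A.loc
    obtain ⟨Y, g, ⟨hg⟩, hx⟩ := hR.1 x
    obtain ⟨w, rfl⟩ := hx
    obtain ⟨s, hs⟩ := hsec _ hg
    exact ⟨s w, (Scheme.Hom.comp_apply s A.π.left w).symm.trans (congrArg (fun k => k w) hs)⟩⟩
  have hb : IsIso A.base.hom := by rw [hA]; exact inferInstanceAs (IsIso (𝟙 _))
  have : IsAffineHom A.P.hom := by rw [← Over.w A.π]; infer_instance
  have : IsAffine A.P.left := isAffine_of_isAffineHom A.P.hom
  have : LocallyOfFiniteType A.P.hom := by rw [← Over.w A.π]; infer_instance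
  have : Surjective A.P.hom := by rw [← Over.w A.π]; infer_instance
  obtain ⟨b⟩ := LangPt.exists_rational_point G A.act fun T p p' => by
    have hu : p' ≫ A.π = p ≫ A.π := (cancel_mono (eqToHom hA)).1 (base_unique _ _)
    exact ⟨A.cart.lift p' p hu ≫ fst G A.P, by
      conv_rhs => rw [← A.cart.lift_fst p' p hu]
      congr 1
      apply CartesianMonoidalCategory.hom_ext
      · simp
      · simp [A.cart.lift_snd p' p hu]⟩
  exact ⟨b⟩

variable (aX) in
/-- The category of rational points of the quotient stack. -/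
abbrev Pts := (AlgSt.QuotSt K₀ G aX).p.Fiber T₀

variable (aX) in
/-- The trivial torsor of a rational point. -/
noncomputable def pt (x : T₀ ⟶ X) : Pts aX := ⟨triv K₀ G aX x, rfl⟩

theorem exists_iso_pt [Smooth G.hom] [IsAffineHom G.hom] [ConnectedSpace ↥G.left] (ξ : Pts aX) :
    ∃ x, IsIsomorphic ξ (pt aX x) := by
  obtain ⟨A, hA⟩ := ξ
  change A.base = T₀ at hA
  obtain ⟨b⟩ := exists_section A hA
  let h : pt aX (b ≫ A.φ) ⟶ (⟨A, hA⟩ : Pts aX) :=
    ⟨trivHom A b _ rfl, FibBase.isHomLift_id_of_map_eq rfl hA ((cancel_mono (eqToHom hA)).1 (base_unique _ _))⟩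
  have : FibCat.IsFibGrpd (AlgSt.QuotSt K₀ G aX).p := (isStack_quotSt aX).1
  have := FibBase.fiber_isIso h
  exact ⟨_, ⟨(asIso h).symm⟩⟩

theorem hom_equiv (x y : T₀ ⟶ X) :
    Nonempty ((pt aX x ⟶ pt aX y) ≃ {g : T₀ ⟶ G // lift g y ≫ aX.act = x}) := by
  refine ⟨{ toFun := fun h => ⟨(sec G T₀ ≫ h.1.top) ≫ fst G T₀, ?_⟩
            invFun := fun g => ⟨trivHom (triv K₀ G aX y) (lift g.1 (𝟙 _)) x ?_, ?_⟩
            left_inv := fun h => ?_
            right_inv := fun g => ?_ }⟩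
  · obtain ⟨hx, -⟩ := trivHom_hom h.1
    let b : T₀ ⟶ G ⊗ T₀ := sec G T₀ ≫ h.1.top
    have hb : b = lift (b ≫ fst G T₀) (𝟙 _) :=
      CartesianMonoidalCategory.hom_ext _ _ (by simp) (base_unique _ _)
    have hx' : b ≫ (G ◁ y) ≫ aX.act = x := hx
    rw [hb, lift_whiskerLeft_assoc, Category.id_comp] at hx'
    exact hx'
  · show lift g.1 (𝟙 _) ≫ (G ◁ y) ≫ aX.act = x
    rw [lift_whiskerLeft_assoc, Category.id_comp]
    exact g.2
  · exact FibBase.isHomLift_id_of_map_eq (p := (AlgSt.QuotSt K₀ G aX).p) (a := triv K₀ G aX x)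
      (b := triv K₀ G aX y) (S := T₀) rfl rfl (base_unique _ _)
  · refine Subtype.ext (hom_ext_sec ?_)
    refine (trivHom_sec (triv K₀ G aX y) (lift ((sec G T₀ ≫ h.1.top) ≫ fst G T₀) (𝟙 _)) x ?_).trans ?_
    · obtain ⟨hx, -⟩ := trivHom_hom h.1
      refine Eq.trans ?_ hx
      exact congrArg (· ≫ (triv K₀ G aX y).φ)
        (CartesianMonoidalCategory.hom_ext (lift ((sec G T₀ ≫ h.1.top) ≫ fst G T₀) (𝟙 _)) (sec G T₀ ≫ h.1.top)
          (by simp) (base_unique _ _))
    apply CartesianMonoidalCategory.hom_ext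
    · exact lift_fst _ _
    · exact base_unique _ _
  · refine Subtype.ext ?_
    exact (congrArg (· ≫ fst G T₀) (trivHom_sec (triv K₀ G aX y) (lift g.1 (𝟙 _)) x (by
      show lift g.1 (𝟙 _) ≫ (G ◁ y) ≫ aX.act = x
      rw [lift_whiskerLeft_assoc, Category.id_comp]
      exact g.2))).trans (lift_fst g.1 (𝟙 T₀))

theorem aut_equiv [IsAffineHom G.hom] [Flat G.hom] [LocallyOfFinitePresentation G.hom] (ξ : Pts aX) (x : T₀ ⟶ X) (h : IsIsomorphic ξ (pt aX x)) :
    Nonempty (Aut ξ ≃ {g : T₀ ⟶ G // lift g x ≫ aX.act = x}) := by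
  obtain ⟨e⟩ := h
  obtain ⟨E⟩ := hom_equiv (aX := aX) x x
  have : FibCat.IsFibGrpd (AlgSt.QuotSt K₀ G aX).p := (isStack_quotSt aX).1
  exact ⟨{ toFun := fun a => E (e.inv ≫ a.hom ≫ e.hom)
           invFun := fun g =>
             haveI := FibBase.fiber_isIso (p := (AlgSt.QuotSt K₀ G aX).p) (e.hom ≫ E.symm g ≫ e.inv)
             asIso (e.hom ≫ E.symm g ≫ e.inv)
           left_inv := fun a => Iso.ext (by simp)
           right_inv := fun g => by simp }⟩

/-- The mass formula. -/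
theorem mass [Smooth X.hom] [QuasiCompact X.hom] [Smooth G.hom] [IsAffineHom G.hom] [ConnectedSpace ↥G.left] :
    Finite (Quotient (isIsomorphicSetoid (Pts aX))) ∧ (∀ ξ : Pts aX, Finite (Aut ξ)) ∧
      ∑ᶠ c : Quotient (isIsomorphicSetoid (Pts aX)), ((Nat.card (Aut c.out) : ℚ))⁻¹ =
        (Nat.card (T₀ ⟶ X) : ℚ) / (Nat.card (T₀ ⟶ G) : ℚ) := by
  have hX := finite_points X
  have hG := finite_points G
  letI := ptsAction aX T₀
  have hAut : ∀ ξ : Pts aX, Finite (Aut ξ) := fun ξ => by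
    obtain ⟨x, hx⟩ := exists_iso_pt ξ
    obtain ⟨E⟩ := aut_equiv ξ x hx
    exact Finite.of_equiv _ E.symm
  have hrel : ∀ x y : T₀ ⟶ X, MulAction.orbitRel (T₀ ⟶ G) (T₀ ⟶ X) x y ↔ IsIsomorphic (pt aX x) (pt aX y) := by
    intro x y
    rw [MulAction.orbitRel_apply]
    obtain ⟨E⟩ := hom_equiv (aX := aX) x y
    refine ⟨fun ⟨g, hg⟩ => ?_, fun ⟨e⟩ => ?_⟩
    · have : FibCat.IsFibGrpd (AlgSt.QuotSt K₀ G aX).p := (isStack_quotSt aX).1
      have := FibBase.fiber_isIso (E.symm ⟨g, hg⟩)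
      exact ⟨asIso (E.symm ⟨g, hg⟩)⟩
    · exact ⟨(E e.hom).1, (E e.hom).2⟩
  let Φ : Quotient (MulAction.orbitRel (T₀ ⟶ G) (T₀ ⟶ X)) → Quotient (isIsomorphicSetoid (Pts aX)) :=
    Quotient.map (pt aX) fun x y h => (hrel x y).1 h
  have hΦ : Function.Bijective Φ := by
    refine ⟨fun a b => Quotient.inductionOn₂ a b fun x y h => ?_, fun c => Quotient.inductionOn c fun ξ => ?_⟩
    · exact Quotient.sound ((hrel x y).2 (Quotient.exact h))
    · obtain ⟨x, hx⟩ := exists_iso_pt ξ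
      exact ⟨Quotient.mk _ x, Quotient.sound ((isIsomorphicSetoid _).iseqv.symm hx)⟩
  refine ⟨Finite.of_surjective Φ hΦ.2, hAut, ?_⟩
  rw [finsum_inv_card_stabilizer, ← finsum_comp_equiv (Equiv.ofBijective Φ hΦ)]
  refine finsum_congr fun o => ?_
  have hiso : IsIsomorphic (Quotient.out (Φ o)) (pt aX o.out) := by
    refine Quotient.exact (s := isIsomorphicSetoid (Pts aX)) ?_
    rw [Quotient.out_eq]
    conv_lhs => rw [← Quotient.out_eq o]
    rfl
  obtain ⟨E⟩ := aut_equiv _ _ hiso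
  show (Nat.card (Aut (Quotient.out (Φ o))) : ℚ)⁻¹ = _
  rw [Nat.card_congr E]
  rfl

end Groth.Agent.AlgStkX.QuotPts
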