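import Groth.Prelude.Def_AlgGrp
import Groth.Agent.GrpSchLib.Action
import Mathlib.AlgebraicGeometry.Morphisms.Flat
import Mathlib.AlgebraicGeometry.Gluing
import Mathlib.CategoryTheory.Monoidal.Cartesian.Grp

/-!
# Weil restriction of a group along `W ⟶ V`, as a space with an action of the group
-/

set_option autoImplicit false
set_option backward.isDefEq.respectTransparency false

universe u

open CategoryTheory CategoryTheory.Limits MonoidalCategory CartesianMonoidalCategory MonObj AlgebraicGeometry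

namespace Groth.Agent.AlgStkX

variable {S : Scheme.{u}} {V W G N : Over S} {p : W ⟶ V}

/-- The map of base changes of `p` induced by a map of bases. -/
noncomputable def pbMap {T T' : Over S} {v : T ⟶ V} {v' : T' ⟶ V} (f : T ⟶ T') (h : f ≫ v' = v) :
    pullback v p ⟶ pullback v' p :=
  pullback.lift (pullback.fst v p ≫ f) (pullback.snd v p) (by rw [Category.assoc, h, pullback.condition])

@[reassoc (attr := simp)]
theorem pbMap_fst {T T' : Over S} {v : T ⟶ V} {v' : T' ⟶ V} (f : T ⟶ T') (h : f ≫ v' = v) :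
    pbMap (p := p) f h ≫ pullback.fst v' p = pullback.fst v p ≫ f :=
  pullback.lift_fst _ _ _

@[reassoc (attr := simp)]
theorem pbMap_snd {T T' : Over S} {v : T ⟶ V} {v' : T' ⟶ V} (f : T ⟶ T') (h : f ≫ v' = v) :
    pbMap (p := p) f h ≫ pullback.snd v' p = pullback.snd v p :=
  pullback.lift_snd _ _ _

@[reassoc]
theorem pbMap_comp {T T' T'' : Over S} {v : T ⟶ V} {v' : T' ⟶ V} {v'' : T'' ⟶ V} (f : T ⟶ T') (h : f ≫ v' = v)
    (g : T' ⟶ T'') (h' : g ≫ v'' = v') :
    pbMap (p := p) f h ≫ pbMap g h' = pbMap (f ≫ g) (by rw [Category.assoc, h', h]) := by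
  ext1 <;> simp

theorem pbMap_congr {T T' : Over S} {v : T ⟶ V} {v' : T' ⟶ V} {f f' : T ⟶ T'} (e : f = f') (h : f ≫ v' = v) :
    pbMap (p := p) f h = pbMap f' (e ▸ h) := by
  subst e; rfl

variable (p G) in
/-- `π : N ⟶ V` and `ev : N ×_V W ⟶ G` present the Weil restriction of `G` along `p` on all test schemes
satisfying `P`. -/
def IsResOn (P : Over S → Prop) (π : N ⟶ V) (ev : pullback π p ⟶ G) : Prop :=
  ∀ ⦃T : Over S⦄, P T → ∀ (v : T ⟶ V) (w : pullback v p ⟶ G),
    ∃! n : T ⟶ N, ∃ h : n ≫ π = v, pbMap n h ≫ ev = w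

variable (p G) in
/-- The Weil restriction property on all test schemes. -/
def IsRes (π : N ⟶ V) (ev : pullback π p ⟶ G) : Prop :=
  IsResOn G p (fun _ => True) π ev

variable {π : N ⟶ V} {ev : pullback π p ⟶ G}

/-- An open piece of `T`. -/
noncomputable abbrev piece (T : Over S) (i : T.left.affineCover.I₀) : Over S :=
  Over.mk (T.left.affineCover.f i ≫ T.hom)

/-- The inclusion of an open piece. -/
noncomputable abbrev pieceι (T : Over S) (i : T.left.affineCover.I₀) : piece T i ⟶ T :=
  Over.homMk (T.left.affineCover.f i)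

theorem hom_ext_pieces {T Z : Over S} (f g : T ⟶ Z) (h : ∀ i, pieceι T i ≫ f = pieceι T i ≫ g) : f = g :=
  Over.OverMorphism.ext (T.left.affineCover.hom_ext _ _ fun i => congrArg CommaMorphism.left (h i))

/-- It is enough to test on affine schemes. -/
theorem isRes_of_affine (H : IsResOn G p (fun T => IsAffine T.left) π ev) : IsRes G p π ev := by
  have uniq : ∀ {T : Over S} (v : T ⟶ V) (w : pullback v p ⟶ G) (n n' : T ⟶ N) (h : n ≫ π = v) (h' : n' ≫ π = v),
      pbMap n h ≫ ev = w → pbMap n' h' ≫ ev = w → n = n' := by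
    intro T v w n n' h h' e e'
    refine hom_ext_pieces _ _ fun i => ?_
    have hA : IsAffine (piece T i).left := inferInstanceAs (IsAffine (T.left.affineCover.X i))
    refine (H hA (pieceι T i ≫ v) (pbMap (pieceι T i) rfl ≫ w)).unique ⟨by rw [Category.assoc, h], ?_⟩
      ⟨by rw [Category.assoc, h'], ?_⟩
    · rw [← pbMap_comp (pieceι T i) rfl n h, Category.assoc, e]
    · rw [← pbMap_comp (pieceι T i) rfl n' h', Category.assoc, e']
  intro T _ v w
  have hA : ∀ i, IsAffine (piece T i).left := fun i => inferInstanceAs (IsAffine (T.left.affineCover.X i))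
  choose n hn hne using fun i => (H (hA i) (pieceι T i ≫ v) (pbMap (pieceι T i) rfl ≫ w)).exists
  have hcompat : ∀ i j, pullback.fst (T.left.affineCover.f i) (T.left.affineCover.f j) ≫ (n i).left =
      pullback.snd (T.left.affineCover.f i) (T.left.affineCover.f j) ≫ (n j).left := by
    intro i j
    let Z : Over S := Over.mk (pullback.fst (T.left.affineCover.f i) (T.left.affineCover.f j) ≫ (piece T i).hom)
    let a : Z ⟶ piece T i := Over.homMk (pullback.fst _ _)
    let b : Z ⟶ piece T j := Over.homMk (pullback.snd _ _) (by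
      show pullback.snd _ _ ≫ T.left.affineCover.f j ≫ T.hom = pullback.fst _ _ ≫ T.left.affineCover.f i ≫ T.hom
      rw [← Category.assoc, ← Category.assoc, pullback.condition])
    have hab : b ≫ pieceι T j = a ≫ pieceι T i := Over.OverMorphism.ext pullback.condition.symm
    have e : a ≫ n i = b ≫ n j := by
      refine uniq (a ≫ pieceι T i ≫ v) (pbMap (a ≫ pieceι T i) (Category.assoc _ _ _) ≫ w) _ _
        (by rw [Category.assoc, hn i]) (by rw [Category.assoc, hn j, reassoc_of% hab]) ?_ ?_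
      · rw [← pbMap_comp a rfl (n i) (hn i), Category.assoc, hne i, pbMap_comp_assoc]
      · rw [← pbMap_comp b (by rw [reassoc_of% hab]) (n j) (hn j), Category.assoc, hne j, pbMap_comp_assoc,
          pbMap_congr hab]
    exact congrArg CommaMorphism.left e
  let m : T.left ⟶ N.left := T.left.affineCover.glueMorphisms (fun i => (n i).left) hcompat
  have hm : ∀ i, T.left.affineCover.f i ≫ m = (n i).left := fun i => T.left.affineCover.ι_glueMorphisms _ _ i
  let nn : T ⟶ N := Over.homMk m (T.left.affineCover.hom_ext _ _ fun i => by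
    rw [← Category.assoc, hm i]; exact Over.w (n i))
  have hnn : ∀ i, pieceι T i ≫ nn = n i := fun i => Over.OverMorphism.ext (hm i)
  have hnv : nn ≫ π = v := hom_ext_pieces _ _ fun i => by rw [← Category.assoc, hnn i, hn i]
  have hne' : pbMap nn hnv ≫ ev = w := by
    let 𝒰 : (pullback v p).left.OpenCover := T.left.affineCover.pullback₁ (pullback.fst v p).left
    refine Over.OverMorphism.ext (𝒰.hom_ext _ _ fun i => ?_)
    let Z : Over S := Over.mk (𝒰.f i ≫ (pullback v p).hom)
    let z : Z ⟶ pullback v p := Over.homMk (𝒰.f i)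
    let zi : Z ⟶ piece T i := Over.homMk (pullback.snd (pullback.fst v p).left (T.left.affineCover.f i)) (by
      show pullback.snd _ _ ≫ T.left.affineCover.f i ≫ T.hom = 𝒰.f i ≫ (pullback v p).hom
      rw [← Category.assoc, ← pullback.condition, Category.assoc, Over.w (pullback.fst v p)]
      rfl)
    have hz : zi ≫ pieceι T i = z ≫ pullback.fst v p := Over.OverMorphism.ext pullback.condition.symm
    let l : Z ⟶ pullback (pieceι T i ≫ v) p := pullback.lift zi (z ≫ pullback.snd v p) (by
      rw [reassoc_of% hz, pullback.condition, Category.assoc])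
    have hl : l ≫ pbMap (pieceι T i) rfl = z := by
      ext1
      · rw [Category.assoc, pbMap_fst, pullback.lift_fst_assoc, hz]
      · rw [Category.assoc, pbMap_snd, pullback.lift_snd]
    have e : z ≫ pbMap nn hnv ≫ ev = z ≫ w := by
      rw [← hl, Category.assoc, Category.assoc, pbMap_comp_assoc, pbMap_congr (hnn i), hne i]
    exact congrArg CommaMorphism.left e
  exact ⟨nn, ⟨hnv, hne'⟩, fun n' ⟨h', e'⟩ => uniq v w _ _ h' hnv e' hne'⟩

namespace IsRes

variable (hR : IsRes G p π ev)
include hR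

theorem hom_ext {T : Over S} {n n' : T ⟶ N} (h : n' ≫ π = n ≫ π) (e : pbMap n' h ≫ ev = pbMap n rfl ≫ ev) :
    n' = n :=
  (hR (T := T) trivial (n ≫ π) (pbMap n rfl ≫ ev)).unique ⟨h, e⟩ ⟨rfl, rfl⟩

/-- The point of `N` with given image in `V` and given value. -/
noncomputable def pt {T : Over S} (v : T ⟶ V) (w : pullback v p ⟶ G) : T ⟶ N :=
  (hR (T := T) trivial v w).exists.choose

theorem pt_π {T : Over S} (v : T ⟶ V) (w : pullback v p ⟶ G) : hR.pt v w ≫ π = v :=
  (hR (T := T) trivial v w).exists.choose_spec.choose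

theorem pt_ev {T : Over S} (v : T ⟶ V) (w : pullback v p ⟶ G) : pbMap (hR.pt v w) (hR.pt_π v w) ≫ ev = w :=
  (hR (T := T) trivial v w).exists.choose_spec.choose_spec

variable [GrpObj G]

/-- The translation action of `G` on the restriction. -/
noncomputable def actMap : G ⊗ N ⟶ N :=
  hR.pt (snd G N ≫ π) ((pullback.fst (snd G N ≫ π) p ≫ fst G N) * (pbMap (snd G N) rfl ≫ ev))

theorem actMap_π : hR.actMap ≫ π = snd G N ≫ π := hR.pt_π _ _

theorem lift_actMap_π {T : Over S} (γ : T ⟶ G) (n : T ⟶ N) : (lift γ n ≫ hR.actMap) ≫ π = n ≫ π := by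
  rw [Category.assoc, hR.actMap_π, lift_snd_assoc]

theorem lift_actMap_ev {T : Over S} (γ : T ⟶ G) (n : T ⟶ N) :
    pbMap (lift γ n ≫ hR.actMap) (hR.lift_actMap_π γ n) ≫ ev =
      (pullback.fst (n ≫ π) p ≫ γ) * (pbMap n rfl ≫ ev) := by
  have h : lift γ n ≫ snd G N ≫ π = n ≫ π := by rw [lift_snd_assoc]
  have e1 : pbMap hR.actMap hR.actMap_π ≫ ev =
      (pullback.fst (snd G N ≫ π) p ≫ fst G N) * (pbMap (snd G N) rfl ≫ ev) := hR.pt_ev _ _
  rw [← pbMap_comp (lift γ n) h hR.actMap hR.actMap_π, Category.assoc, e1, MonObj.comp_mul, pbMap_fst_assoc,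
    pbMap_comp_assoc, pbMap_congr (lift_snd γ n), lift_fst]

theorem lift_actMap_ev' {T : Over S} (γ : T ⟶ G) (n : T ⟶ N) (v : T ⟶ V) (h : n ≫ π = v)
    (h' : (lift γ n ≫ hR.actMap) ≫ π = v) :
    pbMap (lift γ n ≫ hR.actMap) h' ≫ ev = (pullback.fst v p ≫ γ) * (pbMap n h ≫ ev) := by
  subst h
  exact hR.lift_actMap_ev γ n

theorem actMap_one {T : Over S} (n : T ⟶ N) : lift 1 n ≫ hR.actMap = n := by
  refine hR.hom_ext (hR.lift_actMap_π _ _) ?_
  rw [hR.lift_actMap_ev, MonObj.comp_one, _root_.one_mul]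

theorem actMap_mul {T : Over S} (γ δ : T ⟶ G) (n : T ⟶ N) :
    lift (γ * δ) n ≫ hR.actMap = lift γ (lift δ n ≫ hR.actMap) ≫ hR.actMap := by
  have h1 := hR.lift_actMap_π δ n
  have h2 := (hR.lift_actMap_π γ (lift δ n ≫ hR.actMap)).trans h1
  have h3 := hR.lift_actMap_π (γ * δ) n
  refine (hR (T := T) trivial (n ≫ π) ((pullback.fst (n ≫ π) p ≫ (γ * δ)) * (pbMap n rfl ≫ ev))).unique
    ⟨h3, hR.lift_actMap_ev' _ n (n ≫ π) rfl h3⟩ ⟨h2, ?_⟩
  rw [hR.lift_actMap_ev' γ (lift δ n ≫ hR.actMap) (n ≫ π) h1 h2, hR.lift_actMap_ev' δ n (n ≫ π) rfl h1,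
    MonObj.comp_mul, _root_.mul_assoc]

/-- The translation action. -/
noncomputable def act : AlgGrp.Action G N where
  act := hR.actMap
  one_act := by
    have h : η[G] ▷ N = lift 1 (λ_ N).hom := by
      rw [Hom.one_def]
      apply CartesianMonoidalCategory.hom_ext
      · simp [toUnit_unique (fst (𝟙_ (Over S)) N) (toUnit _)]
      · simp [leftUnitor_hom]
    rw [h]
    exact hR.actMap_one _
  mul_act := by
    have h1 : μ[G] ▷ N = lift (fst (G ⊗ G) N ≫ μ[G]) (snd (G ⊗ G) N) := by
      apply CartesianMonoidalCategory.hom_ext <;> simp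
    have hμ : fst (G ⊗ G) N ≫ μ[G] = (fst _ _ ≫ fst G G) * (fst _ _ ≫ snd G G) := by
      rw [Hom.mul_def, ← comp_lift, lift_fst_snd, Category.comp_id]
    have h2 : (α_ G G N).hom ≫ (G ◁ hR.actMap) =
        lift (fst (G ⊗ G) N ≫ fst G G) (lift (fst (G ⊗ G) N ≫ snd G G) (snd (G ⊗ G) N) ≫ hR.actMap) := by
      apply CartesianMonoidalCategory.hom_ext
      · simp
      · have : (α_ G G N).hom ≫ snd G (G ⊗ N) = lift (fst (G ⊗ G) N ≫ snd G G) (snd (G ⊗ G) N) := by
          apply CartesianMonoidalCategory.hom_ext <;> simp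
        rw [Category.assoc, whiskerLeft_snd, lift_snd, reassoc_of% this]
    rw [h1, hμ, reassoc_of% h2]
    exact hR.actMap_mul _ _ _

/-- If `W ⟶ V` is flat and surjective the translation action is free. -/
theorem act_free [Flat p.left] [Surjective p.left] {T : Over S} (γ : T ⟶ G) (n : T ⟶ N)
    (h : lift γ n ≫ hR.act.act = n) : γ = 1 := by
  have e := hR.lift_actMap_ev γ n
  have e2 : pbMap (p := p) (lift γ n ≫ hR.actMap) (hR.lift_actMap_π γ n) ≫ ev = pbMap n rfl ≫ ev := by
    rw [pbMap_congr (show lift γ n ≫ hR.actMap = n from h)]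
  rw [e2] at e
  have e3 : pullback.fst (n ≫ π) p ≫ γ = 1 := by
    have := congrArg (· * (pbMap (p := p) n rfl ≫ ev)⁻¹) e
    simpa using this.symm
  have sq := (IsPullback.of_hasPullback (n ≫ π) p).map (Over.forget S)
  have : Flat (pullback.fst (n ≫ π) p).left := MorphismProperty.of_isPullback sq.flip (inferInstanceAs (Flat p.left))
  have : Surjective (pullback.fst (n ≫ π) p).left :=
    MorphismProperty.of_isPullback sq.flip (inferInstanceAs (Surjective p.left))
  have : Epi (pullback.fst (n ≫ π) p).left := Flat.epi_of_flat_of_surjective _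
  have : Epi (pullback.fst (n ≫ π) p) := (Over.forget S).epi_of_epi_map (inferInstanceAs (Epi (pullback.fst (n ≫ π) p).left))
  rw [← cancel_epi (pullback.fst (n ≫ π) p), e3, MonObj.comp_one]

end IsRes

end Groth.Agent.AlgStkX
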