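import Groth.Agent.AlgStkX.WeilLift
import Groth.Agent.AlgStkX.FibSeq
import Mathlib.RingTheory.Smooth.Locus
import Mathlib.RingTheory.LocalRing.ResidueField.Ideal

/-!
# Smooth points of spaces of finite quotients
-/

set_option autoImplicit false
set_option maxHeartbeats 1000000

universe u

open IsLocalRing TensorProduct

namespace Groth.Agent.AlgStkX

theorem exists_mul_eq_residueField {A : Type u} [CommRing A] (p : Ideal A) [p.IsPrime] (x : p.ResidueField) :
    ∃ a b : A, algebraMap A p.ResidueField b ≠ 0 ∧ x * algebraMap A p.ResidueField b = algebraMap A p.ResidueField a := by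
  obtain ⟨⟨a, s, hs⟩, hx⟩ := IsLocalization.surj (nonZeroDivisors (A ⧸ p)) x
  obtain ⟨a, rfl⟩ := Ideal.Quotient.mk_surjective a
  obtain ⟨b, rfl⟩ := Ideal.Quotient.mk_surjective s
  refine ⟨a, b, ?_, ?_⟩
  · rw [IsScalarTower.algebraMap_apply A (A ⧸ p) p.ResidueField, Ideal.Quotient.algebraMap_eq]
    intro h
    exact nonZeroDivisors.ne_zero hs (p.injective_algebraMap_quotient_residueField (h.trans (map_zero _).symm))
  · rw [IsScalarTower.algebraMap_apply A (A ⧸ p) p.ResidueField,
      IsScalarTower.algebraMap_apply A (A ⧸ p) p.ResidueField, Ideal.Quotient.algebraMap_eq]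
    exact hx

/-- A lift of `R → Rₘ` along a square-zero surjection gives a section. -/
theorem exists_section {A R S O : Type u} [CommRing A] [CommRing R] [Algebra A R] [CommRing S] [Algebra A S]
    [Algebra R S] [IsScalarTower A R S] (M : Submonoid R) [IsLocalization M S] [CommRing O] [Algebra A O]
    (π : O →ₐ[A] S) (hπ : Function.Surjective π) (hsq : ∀ y, π y = 0 → y * y = 0) (φ : R →ₐ[A] O)
    (hφ : ∀ r, π (φ r) = algebraMap R S r) : ∃ g : S →ₐ[A] O, π.comp g = AlgHom.id A S := by
  have hunit : ∀ x : M, IsUnit (φ x) := fun x => by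
    obtain ⟨z, hz⟩ := (IsLocalization.map_units S x).exists_right_inv
    obtain ⟨z, rfl⟩ := hπ z
    have h2 := hsq (φ x * z - 1) (by rw [map_sub, map_mul, map_one, hφ, hz, sub_self])
    exact IsUnit.of_mul_eq_one (z * (2 - φ x * z)) (by linear_combination (-1 : O) * h2)
  refine ⟨IsLocalization.liftAlgHom (M := M) (f := φ) hunit, IsLocalization.algHom_ext M (AlgHom.ext fun r => ?_)⟩
  show π (IsLocalization.liftAlgHom (M := M) (f := φ) hunit (algebraMap R S r)) = algebraMap R S r
  rw [show IsLocalization.liftAlgHom (M := M) (f := φ) hunit (algebraMap R S r) = φ r by simp]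
  exact hφ r

/-- Over every prime of the base at which `C` has nonempty fibre there is a smooth point of some space of
points of `C` with values in finite free algebras. -/
theorem exists_isSmoothAt_weil {A C : Type u} [CommRing A] [CommRing C] [Algebra A C]
    [Algebra.FinitePresentation A C] [Module.Flat A C] (p : Ideal A) [p.IsPrime]
    [Nontrivial (p.ResidueField ⊗[A] C)] :
    ∃ d : ℕ, 0 < d ∧ ∀ (R : Type u) [CommRing R] [Algebra (Univ A d) R] [Algebra A R]
      [IsScalarTower A (Univ A d) R] [Algebra.FinitePresentation A R] (g : C →ₐ[A] R ⊗[Univ A d] UnivAlg A d),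
      (∀ (A' : Type u) [CommRing A'] [Algebra (Univ A d) A'] [Algebra A A'] [IsScalarTower A (Univ A d) A']
        (h : C →ₐ[A] A' ⊗[Univ A d] UnivAlg A d),
        ∃! φ : R →ₐ[Univ A d] A', ∀ c, Algebra.TensorProduct.map φ (AlgHom.id _ (UnivAlg A d)) (g c) = h c) →
      ∃ (m : Ideal R) (_ : m.IsPrime), m.comap (algebraMap A R) = p ∧ Algebra.IsSmoothAt A m := by
  classical
  let k := p.ResidueField
  obtain ⟨B, _, _, _, _, gk', l, hgk', hlk', hgen', hreg'⟩ := exists_fibre_seq k (k ⊗[A] C)
  let d := Module.finrank k B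
  refine ⟨d, Module.finrank_pos, fun R _ _ _ _ _ g huniv => ?_⟩
  let b : Module.Basis (Fin d) k B := Module.finBasis k B
  let := Algebra.compHom B (algebraMap A k)
  have : IsScalarTower A k B := .of_algebraMap_eq fun _ => rfl
  obtain ⟨φu, hφuc, hφue⟩ := exists_classify (A := A) b
  let := φu.toRingHom.toAlgebra
  have : IsScalarTower A (Univ A d) k := .of_algebraMap_eq fun a => (φu.commutes a).symm
  obtain ⟨ε, -⟩ := exists_equiv_of_consts (A := A) b hφuc hφue
  obtain ⟨φk, hφk, -⟩ := huniv k
    ((ε.symm.toAlgHom.restrictScalars A).comp ((gk'.restrictScalars A).comp Algebra.TensorProduct.includeRight))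
  let gk : k ⊗[A] C →ₐ[k] k ⊗[Univ A d] UnivAlg A d := ε.symm.toAlgHom.comp gk'
  have : IsLocalRing (k ⊗[Univ A d] UnivAlg A d) := ε.symm.toRingEquiv.isLocalRing
  let m : Ideal R := RingHom.ker φk.toRingHom
  have : m.IsPrime := RingHom.ker_isPrime _
  have hkA : ∀ a, φk (algebraMap A R a) = algebraMap A k a := fun a => (φk.restrictScalars A).commutes a
  refine ⟨m, inferInstance, ?_, ?_⟩
  · ext a
    show φk (algebraMap A R a) = 0 ↔ a ∈ p
    rw [hkA, Ideal.algebraMap_residueField_eq_zero]
  have hgk : Function.Surjective gk := ε.symm.surjective.comp hgk'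
  have hq : (maximalIdeal B).comap gk'.toRingHom = (maximalIdeal _).comap gk.toRingHom := by
    ext x
    rw [Ideal.mem_comap, Ideal.mem_comap, IsLocalRing.mem_maximalIdeal, IsLocalRing.mem_maximalIdeal,
      mem_nonunits_iff, mem_nonunits_iff]
    show ¬ IsUnit (gk' x) ↔ ¬ IsUnit (ε.symm (gk' x))
    rw [isUnit_map_iff ε.symm]
  have hgen : ∀ x, gk x = 0 → ∃ w ∉ (maximalIdeal B).comap gk'.toRingHom, w * x ∈ Ideal.ofList l :=
    fun x hx => hgen' x (ε.symm.injective (hx.trans (map_zero _).symm))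
  have hlk : ∀ x ∈ l, gk x = 0 := fun x hx => by
    show ε.symm (gk' x) = 0
    rw [hlk' x hx, map_zero]
  -- a presentation of the local ring
  obtain ⟨n, f₀, hf₀⟩ := Algebra.FiniteType.iff_quotient_mvPolynomial''.mp
    (inferInstance : Algebra.FiniteType A R)
  let S := Localization.AtPrime m
  let M' := m.primeCompl.comap f₀
  let P := Localization M'
  have : IsLocalization.AtPrime P (m.comap f₀) := inferInstanceAs (IsLocalization M' P)
  have : IsLocalRing P := IsLocalization.AtPrime.isLocalRing P (m.comap f₀)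
  let fP : P →ₐ[A] S := IsLocalization.liftAlgHom (M := M')
      (f := (IsScalarTower.toAlgHom A R S).comp f₀) fun x => by
    simpa using IsLocalization.map_units (M := m.primeCompl) _ ⟨f₀ x.1, x.2⟩
  have hfP : Function.Surjective fP := by
    intro x
    obtain ⟨x, ⟨s, hs⟩, rfl⟩ := IsLocalization.exists_mk'_eq m.primeCompl x
    obtain ⟨x, rfl⟩ := hf₀ x
    obtain ⟨s, rfl⟩ := hf₀ s
    refine ⟨IsLocalization.mk' (M := M') _ x ⟨s, hs⟩, ?_⟩
    simp [fP, S, IsLocalization.lift_mk', Units.mul_inv_eq_iff_eq_mul, IsUnit.liftRight]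
  have : Algebra.FormallyEtale (MvPolynomial (Fin n) A) P := .of_isLocalization M'
  have : Algebra.FormallySmooth A P := .comp _ (MvPolynomial (Fin n) A) _
  let O := P ⧸ RingHom.ker fP.toRingHom ^ 2
  let π : O →ₐ[A] S := fP.kerSquareLift
  have hπ : Function.Surjective π := fun x => by
    obtain ⟨y, rfl⟩ := hfP x
    exact ⟨Ideal.Quotient.mk _ y, AlgHom.kerSquareLift_mk _ _⟩
  have : Nontrivial O := π.toRingHom.domain_nontrivial
  have : IsLocalRing O := .of_surjective' (Ideal.Quotient.mk _) Ideal.Quotient.mk_surjective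
  have hI : RingHom.ker π.toRingHom ^ 2 = ⊥ := by
    rw [AlgHom.ker_kerSquareLift]; exact Ideal.cotangentIdeal_square _
  have hsq : ∀ y, π y = 0 → y * y = 0 := fun y hy => by
    have h2 := Ideal.pow_mem_pow (show y ∈ RingHom.ker π.toRingHom from hy) 2
    rw [hI, Ideal.mem_bot, pow_two] at h2
    exact h2
  let ρ : S →ₐ[A] k := IsLocalization.liftAlgHom (M := m.primeCompl) (f := φk.restrictScalars A)
    fun x => isUnit_iff_ne_zero.2 x.2
  have hρ : ∀ r, ρ (algebraMap R S r) = φk r := fun r => by simp [ρ]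
  have hρsurj : Function.Surjective ρ := fun x => by
    obtain ⟨a, c, hc, hx⟩ := exists_mul_eq_residueField p x
    have hcm : algebraMap A R c ∈ m.primeCompl := fun h => hc ((hkA c).symm.trans h)
    refine ⟨IsLocalization.mk' S (algebraMap A R a) ⟨_, hcm⟩, ?_⟩
    refine mul_right_cancel₀ hc ?_
    rw [hx, ← hkA c, ← hkA a, ← hρ, ← map_mul, IsLocalization.mk'_spec, hρ]
  have hgkg : ∀ c, gk (1 ⊗ₜ c) = Algebra.TensorProduct.map φk (AlgHom.id _ (UnivAlg A d)) (g c) := fun c => by
    rw [hφk c]; rfl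
  have hρ' : ∀ r, ρ (IsScalarTower.toAlgHom A R S r) = φk r := fun r => by
    rw [IsScalarTower.toAlgHom_apply]; exact hρ r
  have hlift := exists_lift_point (R := R) (k := k) g huniv φk gk hgkg hgk
    ((maximalIdeal B).comap gk'.toRingHom) hq l hlk hgen hreg' (O := O) (O₀ := S)
  obtain ⟨φ, hφ⟩ := hlift π hπ hI (IsScalarTower.toAlgHom A R S) ρ hρsurj hρ'
  obtain ⟨sec, hsec⟩ := exists_section (O := O) m.primeCompl π hπ hsq φ fun r => AlgHom.congr_fun hφ r
  exact (Algebra.FormallySmooth.iff_split_surjection fP hfP).2 ⟨sec, hsec⟩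

end Groth.Agent.AlgStkX
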