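import Groth.Agent.AlgStkX.Res
import Groth.Agent.AlgStkX.WeilSmooth
import Groth.Agent.MorLib.SmoothLocus
import Mathlib.AlgebraicGeometry.Morphisms.Smooth

/-!
# The Weil restriction of an affine group along the universal finite free algebra, as a scheme
-/

set_option autoImplicit false
set_option backward.isDefEq.respectTransparency false
set_option maxHeartbeats 800000

universe u

open CategoryTheory CategoryTheory.Limits MonoidalCategory CartesianMonoidalCategory MonObj AlgebraicGeometry
open TensorProduct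

namespace Groth.Agent.AlgStkX

/-- `Spec` of a ring map between unbundled rings. -/
noncomputable abbrev sp {A B : Type u} [CommRing A] [CommRing B] (f : A →+* B) :
    Spec (CommRingCat.of B) ⟶ Spec (CommRingCat.of A) :=
  Spec.map (CommRingCat.ofHom f)

@[reassoc]
theorem sp_comp {A B C : Type u} [CommRing A] [CommRing B] [CommRing C] (f : A →+* B) (g : B →+* C) :
    sp g ≫ sp f = sp (g.comp f) := by
  rw [← Spec.map_comp]; rfl

theorem sp_injective {A B : Type u} [CommRing A] [CommRing B] {f g : A →+* B} (h : sp f = sp g) : f = g :=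
  congrArg CommRingCat.Hom.hom (Spec.map_injective h)

theorem sp_surjective {A B : Type u} [CommRing A] [CommRing B] (s : Spec (CommRingCat.of B) ⟶ Spec (CommRingCat.of A)) :
    ∃ f : A →+* B, sp f = s :=
  ⟨(Spec.preimage s).hom, Spec.map_preimage s⟩

variable {S : Scheme.{u}}

/-- Being a restriction on affine test schemes only needs to be checked on spectra. -/
theorem isResOn_affine_of_spec {V W G N : Over S} {p : W ⟶ V} {π : N ⟶ V} {ev : pullback π p ⟶ G}
    (H : IsResOn G p (fun T => ∃ R : CommRingCat.{u}, T.left = Spec R) π ev) :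
    IsResOn G p (fun T => IsAffine T.left) π ev := by
  intro T hT v w
  have : IsAffine T.left := hT
  let T' : Over S := Over.mk (T.left.isoSpec.inv ≫ T.hom)
  let e : T' ≅ T := Over.isoMk T.left.isoSpec.symm
  obtain ⟨n, ⟨hn, hne⟩, huniq⟩ := H (T := T') ⟨_, rfl⟩ (e.hom ≫ v) (pbMap e.hom rfl ≫ w)
  refine ⟨e.inv ≫ n, ⟨by rw [Category.assoc, hn, e.inv_hom_id_assoc], ?_⟩, ?_⟩
  · rw [← pbMap_comp e.inv (e.inv_hom_id_assoc v) n hn, Category.assoc, hne, pbMap_comp_assoc,
      pbMap_congr e.inv_hom_id]
    refine Eq.trans (congrArg (· ≫ w) ?_) (Category.id_comp w)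
    ext1 <;> simp
  · rintro n' ⟨h', e'⟩
    have : e.hom ≫ n' = n := huniq _ ⟨by rw [Category.assoc, h'], by
      rw [← pbMap_comp e.hom rfl n' h', Category.assoc, e']⟩
    rw [← this, e.inv_hom_id_assoc]

section Build

variable {A C R : Type u} [CommRing A] (j : Spec (CommRingCat.of A) ⟶ S) (d : ℕ)
  [CommRing C] [Algebra A C] [CommRing R] [Algebra (Univ A d) R] [Algebra A R] [IsScalarTower A (Univ A d) R]

/-- The space of algebra structures on `A^d`, over `S`. -/
noncomputable def resV : Over S := Over.mk (sp (algebraMap A (Univ A d)) ≫ j)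

/-- The universal finite free algebra, over `S`. -/
noncomputable def resW : Over S :=
  Over.mk (sp (algebraMap (Univ A d) (UnivAlg A d)) ≫ (resV j d).hom)

/-- The projection. -/
noncomputable def resP : resW j d ⟶ resV j d := Over.homMk (sp (algebraMap (Univ A d) (UnivAlg A d)))

variable (R) in
/-- The space of points with values in the universal finite free algebra. -/
noncomputable def resN : Over S := Over.mk (sp (algebraMap A R) ≫ j)

variable (R) in
/-- The projection to algebra structures. -/
noncomputable def resπ : resN R j ⟶ resV j d :=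
  Over.homMk (sp (algebraMap (Univ A d) R)) (by
    show sp (algebraMap (Univ A d) R) ≫ sp (algebraMap A (Univ A d)) ≫ j = sp (algebraMap A R) ≫ j
    rw [sp_comp_assoc, ← IsScalarTower.algebraMap_eq])

theorem resπ_left : (resπ R j d).left =
    (Iso.refl (Spec (CommRingCat.of R))).hom ≫ sp (algebraMap (Univ A d) R) :=
  (Category.id_comp _).symm

theorem pbSq {A' : Type u} [CommRing A'] [Algebra (Univ A d) A'] {T : Over S}
    (v : T ⟶ resV j d) (i : T.left ≅ Spec (CommRingCat.of A'))
    (hv : v.left = i.hom ≫ sp (algebraMap (Univ A d) A')) :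
    IsPullback ((pullback.fst v (resP j d)).left ≫ i.hom) (pullback.snd v (resP j d)).left
      (sp (algebraMap (Univ A d) A')) (sp (algebraMap (Univ A d) (UnivAlg A d))) :=
  ((IsPullback.of_hasPullback v (resP j d)).map (Over.forget S)).of_iso (Iso.refl (pullback v (resP j d)).left) i
    (Iso.refl (resW j d).left) (Iso.refl (resV j d).left) (Category.id_comp _).symm
    ((Category.comp_id _).trans (Category.id_comp _).symm) ((Category.comp_id _).trans hv)
    ((Category.comp_id _).trans (Category.id_comp _).symm)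

/-- The base change of `W` to a spectrum is a spectrum. -/
noncomputable def pbSpec {A' : Type u} [CommRing A'] [Algebra (Univ A d) A'] {T : Over S}
    (v : T ⟶ resV j d) (i : T.left ≅ Spec (CommRingCat.of A'))
    (hv : v.left = i.hom ≫ sp (algebraMap (Univ A d) A')) :
    (pullback v (resP j d)).left ≅ Spec (CommRingCat.of (A' ⊗[Univ A d] UnivAlg A d)) :=
  (pbSq j d v i hv).isoPullback ≪≫ pullbackSpecIso (Univ A d) A' (UnivAlg A d)

theorem pbSpec_inv_fst {A' : Type u} [CommRing A'] [Algebra (Univ A d) A'] {T : Over S}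
    (v : T ⟶ resV j d) (i : T.left ≅ Spec (CommRingCat.of A'))
    (hv : v.left = i.hom ≫ sp (algebraMap (Univ A d) A')) :
    (pbSpec j d v i hv).inv ≫ (pullback.fst v (resP j d)).left ≫ i.hom =
      sp (algebraMap A' (A' ⊗[Univ A d] UnivAlg A d)) := by
  simp [pbSpec]
  rfl

theorem pbSpec_inv_snd {A' : Type u} [CommRing A'] [Algebra (Univ A d) A'] {T : Over S}
    (v : T ⟶ resV j d) (i : T.left ≅ Spec (CommRingCat.of A'))
    (hv : v.left = i.hom ≫ sp (algebraMap (Univ A d) A')) :
    (pbSpec j d v i hv).inv ≫ (pullback.snd v (resP j d)).left =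
      sp (Algebra.TensorProduct.includeRight : UnivAlg A d →ₐ[Univ A d] A' ⊗[Univ A d] UnivAlg A d).toRingHom := by
  simp [pbSpec]

theorem pbSpec_hom_fst {A' : Type u} [CommRing A'] [Algebra (Univ A d) A'] {T : Over S}
    (v : T ⟶ resV j d) (i : T.left ≅ Spec (CommRingCat.of A'))
    (hv : v.left = i.hom ≫ sp (algebraMap (Univ A d) A')) :
    (pbSpec j d v i hv).hom ≫ sp (algebraMap A' (A' ⊗[Univ A d] UnivAlg A d)) =
      (pullback.fst v (resP j d)).left ≫ i.hom := by
  rw [← pbSpec_inv_fst j d v i hv, Iso.hom_inv_id_assoc]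

/-- The universal value as a map to `Spec C`. -/
theorem resEv_w (g : C →ₐ[A] R ⊗[Univ A d] UnivAlg A d) :
    (pbSpec j d (resπ R j d) (Iso.refl (Spec (CommRingCat.of R))) (resπ_left j d)).hom ≫ sp g.toRingHom ≫ sp (algebraMap A C) ≫ j =
      (pullback (resπ R j d) (resP j d)).hom := by
  rw [sp_comp_assoc, show g.toRingHom.comp (algebraMap A C) = algebraMap A (R ⊗[Univ A d] UnivAlg A d) from g.comp_algebraMap, IsScalarTower.algebraMap_eq A R (R ⊗[Univ A d] UnivAlg A d),
    ← sp_comp_assoc, ← Category.assoc, pbSpec_hom_fst, Category.assoc]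
  exact Over.w (pullback.fst (resπ R j d) (resP j d))

/-- The universal value. -/
noncomputable def resEv {G : Over S} (gC : Spec (CommRingCat.of C) ⟶ G.left)
    (sq : IsPullback gC (sp (algebraMap A C)) G.hom j) (g : C →ₐ[A] R ⊗[Univ A d] UnivAlg A d) :
    pullback (resπ R j d) (resP j d) ⟶ G :=
  Over.homMk ((pbSpec j d (resπ R j d) (Iso.refl (Spec (CommRingCat.of R))) (resπ_left j d)).hom ≫ sp g.toRingHom ≫ gC) (by
    rw [Category.assoc, Category.assoc, sq.w]; exact resEv_w j d g)

/-- The space of points with values in the universal algebra is the Weil restriction. -/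
theorem isRes_spec [IsOpenImmersion j] {G : Over S} (gC : Spec (CommRingCat.of C) ⟶ G.left)
    (sq : IsPullback gC (sp (algebraMap A C)) G.hom j) (g : C →ₐ[A] R ⊗[Univ A d] UnivAlg A d)
    (huniv : ∀ (A' : Type u) [CommRing A'] [Algebra (Univ A d) A'] [Algebra A A'] [IsScalarTower A (Univ A d) A']
      (h : C →ₐ[A] A' ⊗[Univ A d] UnivAlg A d),
      ∃! φ : R →ₐ[Univ A d] A', ∀ c, Algebra.TensorProduct.map φ (AlgHom.id _ (UnivAlg A d)) (g c) = h c) :
    IsRes G (resP j d) (resπ R j d) (resEv j d gC sq g) := by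
  refine isRes_of_affine (isResOn_affine_of_spec ?_)
  rintro T ⟨A'r, hT⟩ v w
  obtain ⟨A', _, rfl⟩ : ∃ (A' : Type u) (_ : CommRing A'), A'r = CommRingCat.of A' := ⟨A'r, inferInstance, rfl⟩
  let i : T.left ≅ Spec (CommRingCat.of A') := eqToIso hT
  obtain ⟨f, hf⟩ := sp_surjective (i.inv ≫ v.left)
  let := f.toAlgebra
  let := (f.comp (algebraMap A (Univ A d))).toAlgebra
  have : IsScalarTower A (Univ A d) A' := .of_algebraMap_eq fun _ => rfl
  have hv : v.left = i.hom ≫ sp (algebraMap (Univ A d) A') := by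
    rw [show sp (algebraMap (Univ A d) A') = i.inv ≫ v.left from hf, Iso.hom_inv_id_assoc]
  let E := A' ⊗[Univ A d] UnivAlg A d
  let eT := pbSpec j d v i hv
  have hov : (eT.inv ≫ w.left) ≫ G.hom = sp (algebraMap A E) ≫ j := by
    rw [Category.assoc, Over.w w, ← Over.w (pullback.fst v (resP j d)), ← Over.w v, hv,
      IsScalarTower.algebraMap_eq A A' E, IsScalarTower.algebraMap_eq A (Univ A d) A', ← sp_comp_assoc,
      ← sp_comp_assoc, ← pbSpec_inv_fst j d v i hv]
    simp only [Category.assoc]
    rfl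
  obtain ⟨h₀, hh₀⟩ := sp_surjective (sq.lift _ _ hov)
  have hh₀A : h₀.comp (algebraMap A C) = algebraMap A E := sp_injective (by
    rw [← sp_comp, hh₀]; exact sq.lift_snd _ _ _)
  let h : C →ₐ[A] E := { h₀ with commutes' := fun a => RingHom.congr_fun hh₀A a }
  have hgC : sp h.toRingHom ≫ gC = eT.inv ≫ w.left := by
    show sp h₀ ≫ gC = _
    rw [hh₀, sq.lift_fst]
  obtain ⟨φ, hφ, huniq⟩ := huniv A' h
  have hN : ∀ (ψ : R →ₐ[Univ A d] A') (n : T ⟶ resN R j) (hn : n ≫ resπ R j d = v),
      n.left = i.hom ≫ sp ψ.toRingHom →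
      eT.inv ≫ (pbMap n hn ≫ resEv j d gC sq g).left =
        sp ((Algebra.TensorProduct.map ψ (AlgHom.id (Univ A d) (UnivAlg A d))).toRingHom.comp g.toRingHom) ≫ gC := by
    intro ψ n hn hnl
    let eN := pbSpec j d (resπ R j d) (Iso.refl (Spec (CommRingCat.of R))) (resπ_left j d)
    have key : eT.inv ≫ (pbMap n hn).left =
        sp (Algebra.TensorProduct.map ψ (AlgHom.id (Univ A d) (UnivAlg A d))).toRingHom ≫ eN.inv := by
      refine ((IsPullback.of_hasPullback (resπ R j d) (resP j d)).map (Over.forget S)).hom_ext ?_ ?_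
      · show (eT.inv ≫ (pbMap n hn).left) ≫ (pullback.fst (resπ R j d) (resP j d)).left =
          (_ ≫ eN.inv) ≫ (pullback.fst (resπ R j d) (resP j d)).left
        have e1 : eN.inv ≫ (pullback.fst (resπ R j d) (resP j d)).left =
            sp (algebraMap R (R ⊗[Univ A d] UnivAlg A d)) := by
          exact (congrArg (eN.inv ≫ ·) (Category.comp_id _).symm).trans
            (pbSpec_inv_fst j d (resπ R j d) (Iso.refl (Spec (CommRingCat.of R))) (resπ_left j d))
        rw [Category.assoc, Category.assoc, e1, ← Over.comp_left, pbMap_fst, Over.comp_left, hnl, sp_comp]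
        have e2 := pbSpec_inv_fst j d v i hv
        simp only [← Category.assoc] at e2 ⊢
        rw [e2, sp_comp]
        exact congrArg (fun f => sp f) (RingHom.ext fun r => by simp)
      · show (eT.inv ≫ (pbMap n hn).left) ≫ (pullback.snd (resπ R j d) (resP j d)).left =
          (_ ≫ eN.inv) ≫ (pullback.snd (resπ R j d) (resP j d)).left
        rw [Category.assoc, Category.assoc, pbSpec_inv_snd, ← Over.comp_left, pbMap_snd, pbSpec_inv_snd, sp_comp]
        refine congrArg (fun f => sp f) (RingHom.ext fun x => ?_)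
        show _ = Algebra.TensorProduct.map ψ (AlgHom.id (Univ A d) (UnivAlg A d)) ((1 : R) ⊗ₜ x)
        rw [Algebra.TensorProduct.map_tmul, map_one]
        rfl
    rw [Over.comp_left, ← Category.assoc, key, Category.assoc, ← sp_comp]
    simp only [resEv, Over.homMk_left, Category.assoc]
    rw [eN.inv_hom_id_assoc]
  let n : T ⟶ resN R j := Over.homMk (i.hom ≫ sp φ.toRingHom) (by
    show (i.hom ≫ sp φ.toRingHom) ≫ sp (algebraMap A R) ≫ j = T.hom
    rw [Category.assoc, sp_comp_assoc, IsScalarTower.algebraMap_eq A (Univ A d) R, ← RingHom.comp_assoc,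
      show φ.toRingHom.comp (algebraMap (Univ A d) R) = algebraMap (Univ A d) A' from φ.comp_algebraMap,
      ← sp_comp_assoc, ← Over.w v, hv, Category.assoc]
    rfl)
  have hn : n ≫ resπ R j d = v := Over.OverMorphism.ext (by
    show (i.hom ≫ sp φ.toRingHom) ≫ sp (algebraMap (Univ A d) R) = v.left
    rw [Category.assoc, sp_comp, show φ.toRingHom.comp (algebraMap (Univ A d) R) = algebraMap (Univ A d) A' from
      φ.comp_algebraMap, hv])
  refine ⟨n, ⟨hn, ?_⟩, ?_⟩
  · refine Over.OverMorphism.ext ((cancel_epi eT.inv).1 ?_)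
    rw [hN φ n hn rfl, ← hgC]
    congr 2
    exact RingHom.ext fun c => hφ c
  · rintro n' ⟨hn', he'⟩
    obtain ⟨ψ₀, hψ₀⟩ := sp_surjective (i.inv ≫ n'.left)
    have hn'l : n'.left = i.hom ≫ sp ψ₀ := by rw [hψ₀, Iso.hom_inv_id_assoc]
    have hψU : ψ₀.comp (algebraMap (Univ A d) R) = algebraMap (Univ A d) A' := sp_injective (by
      rw [← sp_comp, hψ₀, Category.assoc]
      show i.inv ≫ (n' ≫ resπ R j d).left = _
      rw [hn']
      exact hf.symm)
    let ψ : R →ₐ[Univ A d] A' := { ψ₀ with commutes' := fun r => RingHom.congr_fun hψU r }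
    have hψ : ∀ c, Algebra.TensorProduct.map ψ (AlgHom.id _ (UnivAlg A d)) (g c) = h c := by
      have e := hN ψ n' hn' hn'l
      rw [he', ← hgC] at e
      have : Mono gC := MorphismProperty.of_isPullback (P := MorphismProperty.monomorphisms Scheme.{u}) sq.flip
        (show Mono j from inferInstance)
      exact fun c => RingHom.congr_fun (sp_injective ((cancel_mono gC).1 e.symm)) c
    have : ψ = φ := huniq ψ hψ
    refine Over.OverMorphism.ext ?_
    show n'.left = i.hom ≫ sp φ.toRingHom
    rw [hn'l, ← this]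

end Build

end Groth.Agent.AlgStkX
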