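import Groth.Agent.AlgStLib.SepUnivClosed
import Groth.Agent.AlgStLib.LocQDescent
import Groth.Agent.AlgStLib.DiagLFT
import Groth.Agent.AlgStLib.UnivInj

/-!
# Separatedness descends along surjective universally closed precomposition
-/

set_option backward.isDefEq.respectTransparency false
set_option backward.isDefEq.respectTransparency.types false

universe u

open CategoryTheory CategoryTheory.Functor CategoryTheory.Limits AlgebraicGeometry Opposite AlgSp
open Groth.Agent.FibBase Groth.Agent.AlgSpLib Groth.Agent.AlgStLib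

namespace Groth.Agent.AlgStkX.SepDesc

variable {S : Scheme.{u}} {𝒳 𝒴 𝒲 𝒱 : AlgSt.Cat S}

local notation "K₀" => Scheme.fppfPrecoverage

/-! ## Algebraic spaces -/

theorem univClosed_of_surjective_comp {X Y Z : Sp S} {a : X ⟶ Y} {b : Y ⟶ Z}
    (ha : IsSurjectiveMor a) (h : IsUnivClosedMor (a ≫ b)) : IsUnivClosedMor b := by
  intro W W' hW k fst snd sq C hC
  have sa := IsPullback.of_hasPullback a fst
  have hcl := h hW k _ _ (sa.paste_vert sq.flip.flip)
  have hs : Function.Surjective (Points.map (pullback.snd a fst)) := surjective_map_of_isPullback sa ha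
  have := hcl _ (hC.preimage (Points.continuous_map (pullback.snd a fst)))
  rwa [show (Points.map (pullback.snd a fst ≫ snd)) = Points.map snd ∘ Points.map (pullback.snd a fst) from
    funext (Points.map_comp _ _), Set.image_comp, Set.image_preimage_eq _ hs] at this

theorem separated_of_surjective_univClosed_comp {X Y Z : Sp S} (hX : IsAlgSpace X) (hY : IsAlgSpace Y)
    (hZ : IsAlgSpace Z) {a : X ⟶ Y} {b : Y ⟶ Z} (ha : IsSurjectiveMor a) (ha' : IsUnivClosedMor a)
    (h : IsSeparatedMor (a ≫ b)) : IsSeparatedMor b := by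
  have hb := IsPullback.of_hasPullback (a ≫ b) (a ≫ b)
  obtain ⟨l, hl, sl⟩ := Groth.Agent.AlgSpPts.exists_isPullback_comp hb
  have hP := isAlgSpace_pullback hY hX hZ b (a ≫ b)
  have sr : IsPullback (pullback.snd b (a ≫ b)) (pullback.fst b (a ≫ b)) (a ≫ b) b :=
    (IsPullback.of_hasPullback b (a ≫ b)).flip
  obtain ⟨r, hr, sr'⟩ := Groth.Agent.AlgSpPts.exists_isPullback_comp sr
  have huc₁ : IsUnivClosedMor l := Groth.Agent.AlgSpPts.isUnivClosedMor_of_isPullback sl ha'
  have huc₂ : IsUnivClosedMor r := Groth.Agent.AlgSpPts.isUnivClosedMor_of_isPullback sr' ha'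
  have hYY := isAlgSpace_pullback hY hY hZ b b
  have hΔ : IsUnivClosedMor (pullback.diagonal (a ≫ b)) :=
    (isUnivClosedMor_diagonal_iff hX hZ (a ≫ b)).2 h
  have e : pullback.diagonal (a ≫ b) ≫ l ≫ r = a ≫ pullback.diagonal b := by
    have w₁ : l ≫ pullback.fst b (a ≫ b) = pullback.fst (a ≫ b) (a ≫ b) ≫ a := sl.w.symm
    have w₂ : r ≫ pullback.fst b b = pullback.snd b (a ≫ b) ≫ a := sr'.w.symm
    apply pullback.hom_ext
    · simp only [Category.assoc, w₂, pullback.diagonal_fst, Category.comp_id]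
      rw [← Category.assoc l, hl, pullback.diagonal_snd_assoc]
    · simp only [Category.assoc, hr, pullback.diagonal_snd, Category.comp_id]
      rw [w₁, pullback.diagonal_fst_assoc]
  refine (isUnivClosedMor_diagonal_iff hY hZ b).1 (univClosed_of_surjective_comp ha ?_)
  rw [← e]
  exact Groth.Agent.AlgSpPts.isUnivClosedMor_comp (isAlgSpace_pullback hX hX hZ _ _) hYY hΔ
    (Groth.Agent.AlgSpPts.isUnivClosedMor_comp hP hYY huc₁ huc₂)

/-! ## Functors representable by algebraic spaces -/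

theorem isLocalOnBase_ucl : IsLocalOnBase (IsFppfCover (S := S)) IsUnivClosedMor :=
  isLocalOnBase_fppf_of_fpqc isLocalOnBase_fpqc_isUnivClosedMor

/-- Universally closed and separated cancel from a surjective universally closed functor. -/
theorem repByAlgSpWith_sep_univClosed_of_comp {f : 𝒳 ⥤ᵇ 𝒲} {w : 𝒲 ⥤ᵇ 𝒱}
    (hw : AlgSt.RepByAlgSp1 w) (hf : AlgSt.RepByAlgSpWith IsUnivClosedMor f)
    (hf' : AlgSt.RepByAlgSpWith IsSurjectiveMor f)
    (hfw : AlgSt.RepByAlgSpWith IsProperMor (BasedFunctor.comp f w)) :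
    AlgSt.RepByAlgSpWith (IsUnivClosedMor ⊓ IsSeparatedMor) w := by
  intro U y
  have hfwy : RepOver IsProperMor (FibCat.fpFst y (BasedFunctor.comp f w)) := hfw U y
  obtain ⟨F, e, he⟩ := hw U y
  refine ⟨F, e, he, ?_⟩
  let K : AlgSt.ofSp F.obj ⥤ᵇ 𝒲 := BasedFunctor.comp e (FibCat.fpSnd y w)
  let q := FibCat.fpFst K f
  let k := fpMap (F := FibCat.fpSnd y w) (G := f) (F' := K) (G' := f) (a := e) (b := BasedFunctor.id _)
    (c := BasedFunctor.id _) (Iso.refl _) (Iso.refl _)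
  have hk : FibCat.IsEquivOver k := fpMap_isEquivOver _ _ he isEquivOver_id
  obtain ⟨F', e₁, he₁⟩ := hfwy.repByAlgSp
  obtain ⟨g₁, hg₁, -⟩ := isEquivOver_inv (isEquivOver_comp hk (pasteHor_isEquivOver y f w))
  let e' : AlgSt.ofSp F'.obj ⥤ᵇ FibCat.fp K f := BasedFunctor.comp e₁ g₁
  have he' : FibCat.IsEquivOver e' := isEquivOver_comp he₁ hg₁
  let a : F'.obj ⟶ F.obj := spHom (BasedFunctor.comp e' q)
  let i : BasedFunctor.comp e' q ≅ AlgSt.ofSpMap a := isoOfSpMap _
  let E : AlgSt.ofSp F'.obj ⥤ᵇ FibCat.fp y (BasedFunctor.comp f w) :=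
    BasedFunctor.comp e' (BasedFunctor.comp k (pasteHor y f w))
  have hE := (hfwy.property_of_stableBC stableBC_isProperMor E
    (isEquivOver_comp he' (isEquivOver_comp hk (pasteHor_isEquivOver y f w)))).2
  let j : BasedFunctor.comp E (FibCat.fpFst y (BasedFunctor.comp f w)) ≅
      BasedFunctor.comp (AlgSt.ofSpMap a) (BasedFunctor.comp e (FibCat.fpFst y w)) :=
    whiskerRightIso i (BasedFunctor.comp e (FibCat.fpFst y w))
  rw [spMapOfOver_congr j, spMapOfOver_comp, spHom_ofSpMap] at hE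
  have sq {P : MorphismProperty (Sp S)} (hPb : StableBC P) (h : AlgSt.RepByAlgSpWith P f) :
      RepBySpWith P a.hom :=
    repBySpWith_of_repByAlgSpWith (AlgSt.ofSpMap a) (BasedFunctor.id _) hPb isEquivOver_id
      ((repByAlgSpWith_iff_of_square (f := q) (f' := AlgSt.ofSpMap a) (a := e') (b := BasedFunctor.id _) he'
        isEquivOver_id i.symm).1 (repByAlgSpWith_fpFst K h)) (Iso.refl _)
  have ha₁ : IsUnivClosedMor a :=
    property_of_repBySpWith isLocalOnBase_ucl F'.property F.property (sq stableBC_isUnivClosedMor hf)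
  have ha₂ : IsSurjectiveMor a :=
    isSurjectiveMor_of_repBySpWith F.property a (sq stableBC_isSurjectiveMor hf')
  exact ⟨univClosed_of_surjective_comp ha₂ hE.2.2,
    separated_of_surjective_univClosed_comp F'.property F.property (IsAlgSpace.yon_obj U) ha₂ ha₁ hE.1⟩

theorem locEssSurj_of_comp {f : 𝒳 ⥤ᵇ 𝒲} {w : 𝒲 ⥤ᵇ 𝒱} (h : LocEssSurj (BasedFunctor.comp f w)) :
    LocEssSurj w := fun U y => by
  obtain ⟨R, hR, hz⟩ := h U y
  refine ⟨R, hR, fun V k hk => ?_⟩
  obtain ⟨z, ⟨i⟩⟩ := hz k hk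
  exact ⟨BasedFunctor.comp z f, ⟨i⟩⟩

/-- A flat, locally finitely presented surjection of algebraic stacks is locally essentially surjective. -/
theorem locEssSurj_of_locQ (h𝒳 : AlgSt.IsAlgStack K₀ 𝒳) (h𝒴 : AlgSt.IsAlgStack K₀ 𝒴) {f : 𝒳 ⥤ᵇ 𝒴}
    (hf₁ : AlgSt.LocQ (LocP @Flat) f) (hf₂ : AlgSt.LocQ (LocP @LocallyOfFinitePresentation) f)
    (hf₃ : AlgSt.IsSurjective f) : LocEssSurj f := by
  obtain ⟨V, y, hy, hy'⟩ := exists_space_atlas h𝒴
  obtain ⟨U, c, hc, hc'⟩ := exists_space_atlas_fp h𝒳 h𝒴 f y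
  let h := spHom (BasedFunctor.comp c (FibCat.fpSnd f y))
  have h₁ : LocP @Flat h := (locQ_iff_locQS isSmoothLocalST_flat h𝒳 h𝒴 f).1 hf₁ U V y c hy hc
  have h₂ : LocP @LocallyOfFinitePresentation h :=
    (locQ_iff_locQS isSmoothLocalST_lfp h𝒳 h𝒴 f).1 hf₂ U V y c hy hc
  have h₃ : IsSurjectiveMor h := surj_chart h𝒳 h𝒴 hf₃ hc'
  have hU := isFibGrpd_ofSp U.obj
  have hV := isFibGrpd_ofSp V.obj
  let i : BasedFunctor.comp (AlgSt.ofSpMap h) y ≅
      BasedFunctor.comp (BasedFunctor.comp c (FibCat.fpFst f y)) f :=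
    (whiskerRightIso (isoOfSpMap (BasedFunctor.comp c (FibCat.fpSnd f y))) y).symm ≪≫
      (whiskerLeftIso c (FibCat.fpIso f y)).symm
  have hl : LocEssSurj (BasedFunctor.comp (BasedFunctor.comp c (FibCat.fpFst f y)) f) :=
    locEssSurj_of_repByAlgSp
      (repByAlgSpWith_of_iso i (repByAlgSpWith_locP_comp hU hV
        (repByAlgSpWith_ofSpMap stableBC_locP U.property V.property h h₁) (repByAlgSpWith_flat_of_smooth hy)))
      (repByAlgSpWith_of_iso i (repByAlgSpWith_locP_comp hU hV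
        (repByAlgSpWith_ofSpMap stableBC_locP U.property V.property h h₂) (repByAlgSpWith_lfp_of_smooth hy)))
      (repByAlgSpWith_of_iso i (repByAlgSpWith_isSurjectiveMor_comp hU hV
        (repByAlgSpWith_ofSpMap stableBC_isSurjectiveMor U.property V.property h h₃) hy'))
  exact locEssSurj_of_comp hl

/-- Separatedness of the second functor of a separated composite. -/
theorem isSeparatedMor_of_comp {𝒵 : AlgSt.Cat S} (h𝒳 : AlgSt.IsAlgStack K₀ 𝒳) (h𝒴 : AlgSt.IsAlgStack K₀ 𝒴)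
    (h𝒵 : AlgSt.IsAlgStack K₀ 𝒵) {f : 𝒳 ⥤ᵇ 𝒴} {g : 𝒴 ⥤ᵇ 𝒵} (hl : LocEssSurj f)
    (hs : AlgSt.IsSurjective (FibCat.diag f))
    (hu : AlgSt.RepByAlgSpWith IsUnivClosedMor (FibCat.diag f))
    (hh : AlgSt.IsSeparatedMor (BasedFunctor.comp f g)) : AlgSt.IsSeparatedMor g := by
  have hg := repByAlgSpWith_lft_diag h𝒴 h𝒵 g
  have hg₁ := repByAlgSp1_of_repByAlgSpWith hg
  have hfs := repByAlgSpWith_surjective_of_isSurjective h𝒳.isStack.1
    (fp_isFibGrpd h𝒳.isStack.1 h𝒳.isStack.1 h𝒴.isStack.1) (repByAlgSp1_of_repByAlgSpWith hu) hs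
  have hwl := repByAlgSpWith_weaken f f g hg
  have hw := repByAlgSpWith_sep_univClosed_of_comp (repByAlgSp1_of_repByAlgSpWith hwl) hu hfs
    (repByAlgSpWith_of_iso (diagCompIso f g).symm hh)
  have hwp : AlgSt.RepByAlgSpWith IsProperMor (weaken f f g) :=
    repByAlgSpWith_mono_space (fun hF hG a ha => (⟨ha.2.2, ⟨ha.1,
        Groth.Agent.AlgSpPts.isQuasiCompactMor_of_univClosed hF hG ha.2.1⟩, ha.2.1⟩ : IsProperMor a))
      (repByAlgSpWith_and stableBC_locP hwl hw)
  exact repByAlgSpWith_of_locEssSurj stableBC_isProperMor isLocalOnBase_isProperMor hg₁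
    (locEssSurj_pairMap g hl hl)
    ((repByAlgSpWith_iff_of_square (f' := weaken f f g) (f := FibCat.fpFst (pairMap f f g) (FibCat.diag g))
      (a := diagComparison f f g) (b := BasedFunctor.id _) (diagComparison_isEquivOver f f g) isEquivOver_id
      (Iso.refl _)).2 hwp)

end Groth.Agent.AlgStkX.SepDesc
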