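import Groth.Agent.AlgSpDec.SliceFlat

/-!
# Cutting a flat finitely presented algebra by a sequence which is regular on a fibre
-/

set_option autoImplicit false

universe u

open Groth.Agent.FlatModel

namespace Groth.Agent.AlgStkX

variable {O E : Type u} [CommRing O] [CommRing E] [Algebra O E]

/-- `l` is regular, after `I`, on the fibre over `p` localised at `Q`. -/
def RegFrom (p : Ideal O) (Q : Ideal E) [Q.IsPrime] : Ideal E → List E → Prop
  | _, [] => True
  | I, f :: l => (∀ t, f * t ∈ sat p I Q.primeCompl → t ∈ sat p I Q.primeCompl) ∧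
      RegFrom p Q (I ⊔ Ideal.span {f}) l

/-- Characterisation of `E_h/J`. -/
theorem nonempty_algEquiv_piece {J : Ideal E} {h : E} {W : Type u} [CommRing W] [Algebra E W] [Algebra O W]
    [IsScalarTower O E W]
    (hJ : ∀ x ∈ J, algebraMap E W x = 0) (hh : IsUnit (algebraMap E W h))
    (hext : ∀ (V : Type u) [CommRing V] [Algebra E V], (∀ x ∈ J, algebraMap E V x = 0) →
      IsUnit (algebraMap E V h) → ∃ φ : W →ₐ[E] V, True)
    (huniq : ∀ (φ : W →ₐ[E] W), φ = AlgHom.id E W) :
    Nonempty (W ≃ₐ[O] (Localization.Away h ⧸ J.map (algebraMap E (Localization.Away h)))) := by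
  let V := Localization.Away h ⧸ J.map (algebraMap E (Localization.Away h))
  obtain ⟨φ, -⟩ := hext V (fun x hx => Ideal.Quotient.eq_zero_iff_mem.2 (Ideal.mem_map_of_mem _ hx))
    (by rw [IsScalarTower.algebraMap_apply E (Localization.Away h) V]
        exact (IsLocalization.Away.algebraMap_isUnit h).map _)
  let ψ₀ : Localization.Away h →ₐ[E] W := IsLocalization.liftAlgHom (M := Submonoid.powers h)
    (f := Algebra.ofId E W) (by rintro ⟨_, n, rfl⟩; simpa using hh.pow n)
  let ψ : V →ₐ[E] W := Ideal.Quotient.liftₐ _ ψ₀ fun x hx =>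
    (Ideal.map_le_iff_le_comap (K := RingHom.ker ψ₀)).2 (fun j hj => by
      show ψ₀ (algebraMap E _ j) = 0
      rw [AlgHom.commutes]; exact hJ j hj) hx
  refine ⟨(AlgEquiv.ofAlgHom φ ψ ?_ (huniq _)).restrictScalars O⟩
  refine Ideal.Quotient.algHom_ext E ?_
  exact IsLocalization.algHom_ext (Submonoid.powers h) (by ext)

theorem exists_flat_seq (p : Ideal O) [p.IsPrime] (Q : Ideal E) [Q.IsPrime] [Q.LiesOver p]
    [Algebra.FinitePresentation O E] :
    ∀ (l : List E) (I : Ideal E) (h₀ : E), I.FG → h₀ ∉ Q → I ≤ Q → (∀ x ∈ l, x ∈ Q) →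
      Module.Flat O (Localization.Away h₀ ⧸ I.map (algebraMap E (Localization.Away h₀))) →
      RegFrom p Q I l →
      ∃ h ∉ Q, Module.Flat O
        (Localization.Away h ⧸ (I ⊔ Ideal.ofList l).map (algebraMap E (Localization.Away h)))
  | [], I, h₀, _, hh₀, _, _, hflat, _ => ⟨h₀, hh₀, by
      rw [Ideal.ofList_nil, sup_bot_eq]; exact hflat⟩
  | f :: l, I, h₀, hI, hh₀, hIQ, hl, hflat, ⟨hreg, hrest⟩ => by
    classical
    let E₀ := Localization.Away h₀
    let A₁ := E₀ ⧸ I.map (algebraMap E E₀)
    have : Algebra.FinitePresentation E E₀ := IsLocalization.Away.finitePresentation h₀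
    have : Algebra.FinitePresentation O E₀ := .trans O E E₀
    have : Algebra.FinitePresentation O A₁ := Algebra.FinitePresentation.quotient (hI.map _)
    have : Module.Flat O A₁ := hflat
    have hmk : ∀ x : A₁, ∃ (e : E) (u : A₁), IsUnit u ∧ algebraMap E A₁ e = x * u := by
      intro x
      obtain ⟨y, rfl⟩ := Ideal.Quotient.mk_surjective x
      obtain ⟨⟨e, ⟨_, k, rfl⟩⟩, he⟩ := IsLocalization.surj (Submonoid.powers h₀) y
      refine ⟨e, algebraMap E A₁ h₀ ^ k, ?_, ?_⟩
      · rw [IsScalarTower.algebraMap_apply E E₀ A₁]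
        exact ((IsLocalization.Away.algebraMap_isUnit h₀).map _).pow k
      · rw [IsScalarTower.algebraMap_apply E E₀ A₁, IsScalarTower.algebraMap_apply E E₀ A₁ h₀, ← map_pow,
          ← map_pow, Ideal.Quotient.algebraMap_eq, ← map_mul]
        exact congrArg _ he.symm
    -- the prime of `A₁` under `Q`
    have hQ0 : (Q.map (algebraMap E E₀)).IsPrime :=
      IsLocalization.isPrime_of_isPrime_disjoint (Submonoid.powers h₀) E₀ Q ‹_› (by
        rw [Set.disjoint_left]
        rintro _ ⟨k, rfl⟩ hx
        exact hh₀ (Ideal.IsPrime.mem_of_pow_mem ‹_› k hx))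
    let Q₁ : Ideal A₁ := (Q.map (algebraMap E E₀)).map (Ideal.Quotient.mk (I.map (algebraMap E E₀)))
    have hle : I.map (algebraMap E E₀) ≤ Q.map (algebraMap E E₀) := Ideal.map_mono hIQ
    have hQ₁ : Q₁.IsPrime := Ideal.map_isPrime_of_surjective Ideal.Quotient.mk_surjective (by rwa [Ideal.mk_ker])
    have hcomap : Q₁.comap (algebraMap E A₁) = Q := by
      rw [IsScalarTower.algebraMap_eq E E₀ A₁, ← Ideal.comap_comap, Ideal.Quotient.algebraMap_eq,
        Ideal.comap_map_of_surjective _ Ideal.Quotient.mk_surjective, ← RingHom.ker_eq_comap_bot, Ideal.mk_ker,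
        sup_eq_left.2 hle]
      exact IsLocalization.comap_map_of_isPrime_disjoint (Submonoid.powers h₀) E₀ ‹_› (by
        rw [Set.disjoint_left]
        rintro _ ⟨k, rfl⟩ hx
        exact hh₀ (Ideal.IsPrime.mem_of_pow_mem ‹_› k hx))
    have : Q₁.LiesOver p := ⟨by
      rw [Ideal.under, IsScalarTower.algebraMap_eq O E A₁, ← Ideal.comap_comap, hcomap]
      exact Ideal.LiesOver.over⟩
    have hsat : ∀ e : E, algebraMap E A₁ e ∈ sat p ⊥ Q₁.primeCompl ↔ e ∈ sat p I Q.primeCompl := by
      intro e
      constructor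
      · rintro ⟨w, hw, hwe⟩
        obtain ⟨w', u, hu, hw'⟩ := hmk w
        rw [bot_sup_eq] at hwe
        have h1 : algebraMap E A₁ (w' * e) ∈ p.map (algebraMap O A₁) := by
          rw [map_mul, hw', mul_right_comm]
          exact Ideal.mul_mem_right _ _ hwe
        rw [IsScalarTower.algebraMap_eq O E A₁, ← Ideal.map_map, IsScalarTower.algebraMap_eq E E₀ A₁,
          ← Ideal.map_map, RingHom.comp_apply, Ideal.Quotient.algebraMap_eq,
          Ideal.mem_map_iff_of_surjective _ Ideal.Quotient.mk_surjective] at h1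
        obtain ⟨z, hz, hze⟩ := h1
        rw [Ideal.Quotient.eq] at hze
        have h2 : algebraMap E E₀ (w' * e) ∈ (I ⊔ p.map (algebraMap O E)).map (algebraMap E E₀) := by
          rw [Ideal.map_sup]
          rw [show algebraMap E E₀ (w' * e) = -(z - algebraMap E E₀ (w' * e)) + z by ring]
          exact add_mem (Ideal.mem_sup_left (neg_mem hze)) (Ideal.mem_sup_right hz)
        rw [IsLocalization.algebraMap_mem_map_algebraMap_iff (Submonoid.powers h₀)] at h2
        obtain ⟨_, ⟨k, rfl⟩, hk⟩ := h2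
        refine ⟨h₀ ^ k * w', mul_mem ?_ ?_, by rw [mul_assoc]; exact hk⟩
        · exact fun hx => hh₀ (Ideal.IsPrime.mem_of_pow_mem ‹_› k hx)
        · intro hx
          have : algebraMap E A₁ w' ∈ Q₁ := by rw [← hcomap] at hx; exact hx
          rw [hw'] at this
          exact (Ideal.IsPrime.mem_or_mem hQ₁ this).elim hw (fun h => hQ₁.ne_top (Ideal.eq_top_of_isUnit_mem _ h hu))
      · rintro ⟨w, hw, hwe⟩
        refine ⟨algebraMap E A₁ w, fun hx => hw (by rw [← hcomap]; exact hx), ?_⟩
        rw [bot_sup_eq, ← map_mul, IsScalarTower.algebraMap_eq O E A₁, ← Ideal.map_map]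
        have hI0 : I.map (algebraMap E A₁) = ⊥ := by
          rw [IsScalarTower.algebraMap_eq E E₀ A₁, ← Ideal.map_map, Ideal.Quotient.algebraMap_eq, Ideal.map_quotient_self]
        have := Ideal.mem_map_of_mem (algebraMap E A₁) hwe
        rwa [Ideal.map_sup, hI0, bot_sup_eq] at this
    have hfQ : f ∈ Q := hl f (by simp)
    obtain ⟨h₁, hh₁, hflat₁⟩ := AlgSpDec.Slice.exists_flat_quotient (O := O) (algebraMap E A₁ f) p Q₁
      (show f ∈ Q₁.comap (algebraMap E A₁) by rw [hcomap]; exact hfQ) (fun t ht => by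
        obtain ⟨e, u, hu, he⟩ := hmk t
        have h1 : algebraMap E A₁ (f * e) ∈ sat p ⊥ Q₁.primeCompl := by
          rw [map_mul, he, ← mul_assoc]; exact Ideal.mul_mem_right _ _ ht
        have h2 := (hsat e).2 (hreg e ((hsat _).1 h1))
        rw [he] at h2
        exact (Ideal.unit_mul_mem_iff_mem _ hu).1 (by rwa [mul_comm] at h2))
    obtain ⟨c, u, hu, hc⟩ := hmk h₁
    let h := h₀ * c
    have hh : h ∉ Q := fun hx => (Ideal.IsPrime.mem_or_mem ‹_› hx).elim hh₀ fun hcQ => by
      have : algebraMap E A₁ c ∈ Q₁ := by rw [← hcomap] at hcQ; exact hcQ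
      rw [hc] at this
      exact (Ideal.IsPrime.mem_or_mem hQ₁ this).elim hh₁ (fun h => hQ₁.ne_top (Ideal.eq_top_of_isUnit_mem _ h hu))
    let A₂ := Localization.Away h₁
    let W := A₂ ⧸ Ideal.span {algebraMap A₁ A₂ (algebraMap E A₁ f)}
    have hW : Module.Flat O W := hflat₁ A₂
    obtain ⟨e⟩ : Nonempty (W ≃ₐ[O] (Localization.Away h ⧸ (I ⊔ Ideal.span {f}).map (algebraMap E (Localization.Away h)))) := by
      refine nonempty_algEquiv_piece ?_ ?_ ?_ ?_
      · have hI0 : ∀ x ∈ I, algebraMap E W x = 0 := fun x hx => by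
          have h0 : algebraMap E A₁ x = 0 := by
            rw [IsScalarTower.algebraMap_apply E E₀ A₁]
            exact Ideal.Quotient.eq_zero_iff_mem.2 (Ideal.mem_map_of_mem _ hx)
          rw [IsScalarTower.algebraMap_apply E A₁ W]
          exact (congrArg _ h0).trans (map_zero _)
        intro x hx
        refine (sup_le (show I ≤ RingHom.ker (algebraMap E W) from hI0) ((Ideal.span_singleton_le_iff_mem _).2 ?_)) hx
        show algebraMap E W f = 0
        rw [IsScalarTower.algebraMap_apply E A₂ W, IsScalarTower.algebraMap_apply E A₁ A₂, Ideal.Quotient.algebraMap_eq]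
        exact Ideal.Quotient.eq_zero_iff_mem.2 (Ideal.subset_span rfl)
      · have hu1 : ∀ x : A₁, IsUnit x → IsUnit (algebraMap A₁ W x) := fun x hx => hx.map _
        rw [map_mul, IsUnit.mul_iff, IsScalarTower.algebraMap_apply E A₁ W, IsScalarTower.algebraMap_apply E A₁ W c, hc,
          map_mul]
        refine ⟨hu1 _ ?_, IsUnit.mul ?_ (hu1 _ hu)⟩
        · rw [IsScalarTower.algebraMap_apply E E₀ A₁]
          exact (IsLocalization.Away.algebraMap_isUnit h₀).map _
        · rw [IsScalarTower.algebraMap_apply A₁ A₂ W]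
          exact (IsLocalization.Away.algebraMap_isUnit h₁).map _
      · intro V _ _ hJ hunit
        rw [map_mul, IsUnit.mul_iff] at hunit
        let φ₀ : E₀ →ₐ[E] V := IsLocalization.liftAlgHom (M := Submonoid.powers h₀) (f := Algebra.ofId E V)
          (by rintro ⟨_, n, rfl⟩; simpa using hunit.1.pow n)
        let φ₁ : A₁ →ₐ[E] V := Ideal.Quotient.liftₐ _ φ₀ fun x hx =>
          (Ideal.map_le_iff_le_comap (K := RingHom.ker φ₀)).2 (fun j hj => by
            show φ₀ (algebraMap E _ j) = 0
            rw [AlgHom.commutes]; exact hJ j (Ideal.mem_sup_left hj)) hx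
        have hφu : IsUnit (φ₁ h₁) := by
          have := hunit.2
          rw [← φ₁.commutes c, hc, map_mul, IsUnit.mul_iff] at this
          exact this.1
        letI : Algebra A₁ V := φ₁.toRingHom.toAlgebra
        have : IsScalarTower E A₁ V := .of_algebraMap_eq fun x => (φ₁.commutes x).symm
        let φ₂ : A₂ →ₐ[A₁] V := IsLocalization.liftAlgHom (M := Submonoid.powers h₁) (f := Algebra.ofId A₁ V)
          (by rintro ⟨_, n, rfl⟩; simpa using (show IsUnit (algebraMap A₁ V h₁) from hφu).pow n)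
        refine ⟨(Ideal.Quotient.liftₐ _ φ₂ fun x hx =>
          ((Ideal.span_singleton_le_iff_mem (RingHom.ker φ₂)).2 (by
            show φ₂ (algebraMap A₁ A₂ _) = 0
            rw [AlgHom.commutes, ← IsScalarTower.algebraMap_apply E A₁ V]
            exact hJ f (Ideal.mem_sup_right (Ideal.subset_span rfl)))) hx).restrictScalars E, trivial⟩
      · intro φ
        refine Ideal.Quotient.algHom_ext E ?_
        have hφA : φ.comp (IsScalarTower.toAlgHom E A₁ W) = IsScalarTower.toAlgHom E A₁ W := by
          refine Ideal.Quotient.algHom_ext E (IsLocalization.algHom_ext (Submonoid.powers h₀) (by ext))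
        let φA : W →ₐ[A₁] W := { φ.toRingHom with commutes' := fun x => AlgHom.congr_fun hφA x }
        have := IsLocalization.algHom_ext (Submonoid.powers h₁)
          (f := φA.comp (IsScalarTower.toAlgHom A₁ A₂ W)) (g := IsScalarTower.toAlgHom A₁ A₂ W) (by ext)
        exact AlgHom.ext fun x => AlgHom.congr_fun this x
    have hf1 : Module.Flat O (Localization.Away h ⧸ (I ⊔ Ideal.span {f}).map (algebraMap E (Localization.Away h))) :=
      Module.Flat.of_linearEquiv e.symm.toLinearEquiv
    obtain ⟨h', hh', hflat'⟩ := exists_flat_seq p Q l (I ⊔ Ideal.span {f}) h (Submodule.FG.sup hI (Submodule.fg_span_singleton f)) hh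
      (sup_le hIQ ((Ideal.span_singleton_le_iff_mem _).2 hfQ)) (fun x hx => hl x (by simp [hx])) hf1 hrest
    refine ⟨h', hh', ?_⟩
    rwa [Ideal.ofList_cons, ← sup_assoc]

/-- A sequence regular on the fibre cuts out a flat algebra near the prime. -/
theorem exists_flat_of_regFrom [Algebra.FinitePresentation O E] [Module.Flat O E] (p : Ideal O) [p.IsPrime]
    (Q : Ideal E) [Q.IsPrime] [Q.LiesOver p] (l : List E) (hl : ∀ x ∈ l, x ∈ Q) (h : RegFrom p Q ⊥ l) :
    ∃ h ∉ Q, Module.Flat O (Localization.Away h ⧸ (Ideal.ofList l).map (algebraMap E (Localization.Away h))) := by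
  have h1 : (1 : E) ∉ Q := (Ideal.ne_top_iff_one _).1 (Ideal.IsPrime.ne_top ‹_›)
  have hflat : Module.Flat O (Localization.Away (1 : E) ⧸ (⊥ : Ideal E).map (algebraMap E (Localization.Away (1 : E)))) := by
    have : Module.Flat E (Localization.Away (1 : E)) := IsLocalization.flat _ (Submonoid.powers (1 : E))
    have : Module.Flat O (Localization.Away (1 : E)) := Module.Flat.trans O E _
    rw [Ideal.map_bot]
    exact Module.Flat.of_linearEquiv (AlgEquiv.quotientBot O (Localization.Away (1 : E))).toLinearEquiv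
  obtain ⟨g, hg, hfl⟩ := exists_flat_seq p Q l ⊥ 1 Submodule.fg_bot h1 bot_le hl hflat h
  exact ⟨g, hg, by rwa [bot_sup_eq] at hfl⟩

end Groth.Agent.AlgStkX
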