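import Groth.Agent.AlgStkX.SmoothOpen
import Groth.Agent.MorLib.SmoothLocus
import Groth.Agent.FlatPtDesc.Basic
import Groth.Agent.SrcDescent.SchemeFppf

/-!
# Smoothness at a point descends along flat base change
-/

set_option autoImplicit false
set_option backward.isDefEq.respectTransparency false
set_option backward.isDefEq.respectTransparency.types false

universe u

open CategoryTheory CategoryTheory.Limits AlgebraicGeometry

namespace Groth.Agent.AlgStkX.SmoothOpen

variable {U W U' W' : Scheme.{u}} (h : U ⟶ W) (g : W' ⟶ W) (h' : U' ⟶ W') (g' : U' ⟶ U)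

theorem mem_smOpen_of_lfp (sq : IsPullback g' h' h g) [Flat g] [LocallyOfFinitePresentation h] (V' : U'.Opens)
    (hV' : Smooth (V'.ι ≫ h')) {u' : U'} (hu : u' ∈ V') : g' u' ∈ smOpen h := by
  have : LocallyOfFinitePresentation h' := MorphismProperty.of_isPullback sq ‹_›
  have hm : u' ∈ h'.smoothLocus := (FlatPtDesc.exists_smooth_nhd_iff h' u').1 ⟨V', hu, hV'⟩
  obtain ⟨O, hO, hOs⟩ := (FlatPtDesc.exists_smooth_nhd_iff h (g' u')).2
    (MorLib.SmoothLoc.sm_descend h g h' g' sq u' hm)
  exact le_smOpen hOs hO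

/-- Smoothness descends along a flat base change when the base change or the map is of finite presentation. -/
theorem mem_smOpen (sq : IsPullback g' h' h g) [Flat g]
    (hor : LocallyOfFinitePresentation g ∨ LocallyOfFinitePresentation h) (V' : U'.Opens)
    (hV' : Smooth (V'.ι ≫ h')) {u' : U'} (hu : u' ∈ V') : g' u' ∈ smOpen h := by
  rcases hor with hg | hh
  · have : LocallyOfFinitePresentation g' := MorphismProperty.of_isPullback sq.flip hg
    have : Flat g' := MorphismProperty.of_isPullback sq.flip ‹Flat g›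
    let O : U.Opens := ⟨Set.range (V'.ι ≫ g'), (V'.ι ≫ g').isOpenMap.isOpen_range⟩
    let k : V'.toScheme ⟶ O.toScheme := IsOpenImmersion.lift O.ι (V'.ι ≫ g')
      (by rw [Scheme.Opens.range_ι]; exact le_rfl)
    have hk : k ≫ O.ι = V'.ι ≫ g' := IsOpenImmersion.lift_fac _ _ _
    have : Surjective k := ⟨fun o => by
      obtain ⟨v, hv⟩ := o.2
      exact ⟨v, O.ι.isOpenEmbedding.injective (by rw [← Scheme.Hom.comp_apply, hk]; exact hv)⟩⟩
    have : Flat (k ≫ O.ι) := by rw [hk]; infer_instance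
    have : Flat k := MorphismProperty.of_postcomp (W := @Flat) (W' := @IsOpenImmersion) k O.ι inferInstance this
    have : LocallyOfFinitePresentation (k ≫ O.ι) := by rw [hk]; infer_instance
    have : LocallyOfFinitePresentation k :=
      MorphismProperty.of_postcomp (W := @LocallyOfFinitePresentation) (W' := @IsOpenImmersion) k O.ι
        inferInstance this
    have : LocallyOfFinitePresentation (k ≫ O.ι ≫ h) := by
      rw [← Category.assoc, hk, Category.assoc, sq.w, ← Category.assoc]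
      infer_instance
    have : LocallyOfFinitePresentation (O.ι ≫ h) := SrcDescent.locallyOfFinitePresentation_of_fppf_comp k (O.ι ≫ h)
    let V'' := g' ⁻¹ᵁ O
    have sq' : IsPullback (g' ∣_ O) (V''.ι ≫ h') (O.ι ≫ h) g :=
      (isPullback_morphismRestrict g' O).paste_vert sq
    have hle : V' ≤ V'' := fun v hv => ⟨⟨v, hv⟩, rfl⟩
    let V₁ : V''.toScheme.Opens := V''.ι ⁻¹ᵁ V'
    have hV₁ : Smooth (V₁.ι ≫ V''.ι ≫ h') := by
      have hr : Set.range (V₁.ι ≫ V''.ι) ⊆ Set.range V'.ι := by
        rintro _ ⟨v, rfl⟩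
        rw [Scheme.Opens.range_ι]
        exact v.2
      let j := IsOpenImmersion.lift V'.ι (V₁.ι ≫ V''.ι) hr
      have hj : j ≫ V'.ι = V₁.ι ≫ V''.ι := IsOpenImmersion.lift_fac _ _ _
      have : IsOpenImmersion (j ≫ V'.ι) := by rw [hj]; infer_instance
      have : IsOpenImmersion j := IsOpenImmersion.of_comp j V'.ι
      rw [← Category.assoc, ← hj, Category.assoc]
      infer_instance
    have hm := mem_smOpen_of_lfp (O.ι ≫ h) g (V''.ι ≫ h') (g' ∣_ O) sq' V₁ hV₁ (u' := ⟨u', hle hu⟩) hu
    let O₁ : O.toScheme.Opens := smOpen (O.ι ≫ h)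
    have hO₁ : Smooth (O₁.ι ≫ O.ι ≫ h) := smooth_smOpen _
    let O₂ := O.ι ''ᵁ O₁
    have hO₂ : Smooth (O₂.ι ≫ h) := by
      rw [← (O.ι.isoImage O₁).inv_hom_id_assoc (O₂.ι ≫ h), ← Category.assoc (O.ι.isoImage O₁).hom,
        Scheme.Hom.isoImage_hom_ι, Category.assoc]
      infer_instance
    refine le_smOpen hO₂ ⟨(g' ∣_ O) ⟨u', hle hu⟩, hm, ?_⟩
    show ((g' ∣_ O) ≫ O.ι) _ = g' u'
    rw [morphismRestrict_ι]
    rfl
  · exact mem_smOpen_of_lfp h g h' g' sq V' hV' hu

end Groth.Agent.AlgStkX.SmoothOpen
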