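import Groth.Agent.AlgStkX.ChartBC
import Groth.Agent.AlgStkX.SmoothDescend
import Groth.Agent.AlgStLib.LocQInst
import Groth.Agent.GerbFlat.Section

/-!
# The open substack of smoothness commutes with flat base change
-/

set_option autoImplicit false
set_option backward.isDefEq.respectTransparency false
set_option backward.isDefEq.respectTransparency.types false

universe u

open CategoryTheory CategoryTheory.Functor CategoryTheory.Limits AlgebraicGeometry Opposite AlgSp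

namespace Groth.Agent.AlgStkX.SmoothOpen

open Groth.Agent.FibBase Groth.Agent.AlgSpLib Groth.Agent.AlgStLib

variable {S : Scheme.{u}} {𝒳 𝒴 𝒴' : AlgSt.Cat S}

local notation "K₀" => Scheme.fppfPrecoverage

set_option maxHeartbeats 200000 in
/-- The base change of a scheme chart of a morphism along a scheme chart of a base change. -/
theorem exists_bc_chart (h𝒳 : FibCat.IsFibGrpd 𝒳.p) (h𝒴 : FibCat.IsFibGrpd 𝒴.p) {f : 𝒳 ⥤ᵇ 𝒴} {y : 𝒴' ⥤ᵇ 𝒴}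
    {U W W' : Over S} {y₀ : FibCat.overCat W ⥤ᵇ 𝒴} {y₁ : FibCat.overCat W' ⥤ᵇ 𝒴'}
    {c : FibCat.overCat U ⥤ᵇ FibCat.fp f y₀} {h : U ⟶ W}
    (ih : BasedFunctor.comp c (FibCat.fpSnd f y₀) ≅ AlgSt.overMap h) {k : W' ⟶ W}
    (β₁ : BasedFunctor.comp y₁ y ≅ BasedFunctor.comp (AlgSt.overMap k) y₀) :
    ∃ (U' : Over S) (γ : U' ⟶ U) (h' : U' ⟶ W') (c₁ : FibCat.overCat U' ⥤ᵇ FibCat.fp (FibCat.fpFst y f) y₁),
      IsPullback γ.left h'.left h.left k.left ∧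
      Nonempty (BasedFunctor.comp c₁ (FibCat.fpSnd (FibCat.fpFst y f) y₁) ≅ AlgSt.overMap h') ∧
      Nonempty (BasedFunctor.comp (BasedFunctor.comp c₁ (FibCat.fpFst (FibCat.fpFst y f) y₁)) (FibCat.fpSnd y f) ≅
        BasedFunctor.comp (AlgSt.overMap γ) (BasedFunctor.comp c (FibCat.fpFst f y₀))) ∧
      (AlgSt.RepByAlgSpWith (LocP @Smooth) c → AlgSt.RepByAlgSpWith (LocP @Smooth) c₁) ∧
      (AlgSt.RepByAlgSpWith IsSurjectiveMor c → AlgSt.RepByAlgSpWith IsSurjectiveMor c₁) := by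
  let VW : AlgSp.Space S := ⟨_, IsAlgSpace.yon_obj W⟩
  let VW' : AlgSp.Space S := ⟨_, IsAlgSpace.yon_obj W'⟩
  let UU : AlgSp.Space S := ⟨_, IsAlgSpace.yon_obj U⟩
  let yS : AlgSt.ofSp VW.obj ⥤ᵇ 𝒴 := BasedFunctor.comp (AlgSt.toOverCat W) y₀
  let yS' : AlgSt.ofSp VW'.obj ⥤ᵇ 𝒴' := BasedFunctor.comp (AlgSt.toOverCat W') y₁
  let β : BasedFunctor.comp yS' y ≅ BasedFunctor.comp (AlgSt.ofSpMap ((yon S).map k)) yS :=
    whiskerLeftIso (AlgSt.toOverCat W') β₁ ≪≫ whiskerRightIso (toOverCatMapIso k) y₀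
  have : (BasedFunctor.id 𝒴).toFunctor.Full := inferInstanceAs (𝟭 _).Full
  have : (BasedFunctor.id 𝒴).toFunctor.Faithful := inferInstanceAs (𝟭 _).Faithful
  have : (BasedFunctor.id 𝒴').toFunctor.Full := inferInstanceAs (𝟭 _).Full
  have : (BasedFunctor.id 𝒴').toFunctor.Faithful := inferInstanceAs (𝟭 _).Faithful
  let m := fpMap (F := f) (G := yS) (F' := f) (G' := y₀) (a := BasedFunctor.id _) (b := AlgSt.ofOverCat W)
    (c := BasedFunctor.id _) (Iso.refl _) (whiskerRightIso (ofOverCatIso W) y₀).symm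
  have hm : FibCat.IsEquivOver m := fpMap_isEquivOver _ _ isEquivOver_id (isEquivOver_ofOverCat W)
  let cS : AlgSt.ofSp UU.obj ⥤ᵇ FibCat.fp f yS :=
    BasedFunctor.comp (AlgSt.toOverCat U) (BasedFunctor.comp c m)
  let js : BasedFunctor.comp cS (FibCat.fpSnd f yS) ≅ BasedFunctor.comp (AlgSt.toOverCat U)
      (BasedFunctor.comp (BasedFunctor.comp c (FibCat.fpSnd f y₀)) (AlgSt.ofOverCat W)) := Iso.refl _
  have ecS : spHom (BasedFunctor.comp cS (FibCat.fpSnd f yS)) = (yon S).map h :=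
    (spHom_congr js).trans (spHom_toOverCat_comp ih)
  obtain ⟨D, pD, qD, cD, sqD, hqD, hsD, hsD', ⟨iD⟩⟩ :=
    exists_chart_baseChange' (g := y) (V' := VW') (y' := yS') h𝒳 h𝒴 β cS
  rw [ecS] at sqD
  have sqY : IsPullback ((yon S).map (pullback.fst h k)) ((yon S).map (pullback.snd h k)) ((yon S).map h)
      ((yon S).map k) := (IsPullback.of_hasPullback h k).map (yon S)
  let φ := sqY.isoIsPullback _ _ sqD
  let f' := FibCat.fpFst y f
  let m' := fpMap (F := f') (G := y₁) (F' := f') (G' := yS') (a := BasedFunctor.id _) (b := AlgSt.toOverCat W')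
    (c := BasedFunctor.id _) (Iso.refl _) (Iso.refl _)
  have hm' : FibCat.IsEquivOver m' := fpMap_isEquivOver _ _ isEquivOver_id (isEquivOver_toOverCat W')
  have hΦ : FibCat.IsEquivOver (overOfMap φ.hom) :=
    isEquivOver_comp (isEquivOver_ofOverCat _) (isEquivOver_ofSpMap φ.hom)
  refine ⟨pullback h k, pullback.fst h k, pullback.snd h k,
    BasedFunctor.comp (overOfMap φ.hom) (BasedFunctor.comp cD m'),
    (IsPullback.of_hasPullback h k).map (Over.forget S), ⟨?_⟩, ⟨?_⟩, fun hc => ?_, fun hc => ?_⟩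
  · exact whiskerLeftIso (overOfMap φ.hom) (whiskerRightIso (isoOfSpMap (BasedFunctor.comp cD (FibCat.fpSnd f' yS'))
        ≪≫ eqToIso (congrArg AlgSt.ofSpMap hqD)) (AlgSt.toOverCat W')) ≪≫
      GerbFlat.overOfMapIso (sqY.isoIsPullback_hom_snd _ _ sqD).symm
  · exact whiskerLeftIso (overOfMap φ.hom) iD ≪≫
      whiskerRightIso (GerbFlat.overOfMapIso (sqY.isoIsPullback_hom_fst _ _ sqD).symm)
        (BasedFunctor.comp c (FibCat.fpFst f y₀))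
  · exact repByAlgSpWith_precomp hΦ (repByAlgSpWith_postcomp hm' (hsD
      (repByAlgSpWith_precomp (isEquivOver_toOverCat U) (repByAlgSpWith_postcomp hm hc))))
  · exact repByAlgSpWith_precomp hΦ (repByAlgSpWith_postcomp hm' (hsD'
      (repByAlgSpWith_precomp (isEquivOver_toOverCat U) (repByAlgSpWith_postcomp hm hc))))

theorem smooth_largest_baseChange (h𝒳 : AlgSt.IsAlgStack K₀ 𝒳) (h𝒴 : AlgSt.IsAlgStack K₀ 𝒴)
    (h𝒴' : AlgSt.IsAlgStack K₀ 𝒴') (f : 𝒳 ⥤ᵇ 𝒴) (y : 𝒴' ⥤ᵇ 𝒴) (hy : AlgSt.LocQ (LocP @Flat) y)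
    (hfp : AlgSt.LocQ (LocP @LocallyOfFinitePresentation) y ∨ AlgSt.LocQ (LocP @LocallyOfFinitePresentation) f)
    (Q : 𝒳.obj → Prop) (hQ₁ : AlgSt.IsOpenSubstack 𝒳 Q K₀)
    (hQ₂ : AlgSt.LocQ (LocP @Smooth) (BasedFunctor.comp (AlgSt.subIncl 𝒳 Q) f))
    (hQ₃ : ∀ Q' : 𝒳.obj → Prop, AlgSt.IsOpenSubstack 𝒳 Q' K₀ →
      AlgSt.LocQ (LocP @Smooth) (BasedFunctor.comp (AlgSt.subIncl 𝒳 Q') f) → ∀ a, Q' a → Q a) :
    AlgSt.IsOpenSubstack (FibCat.fp y f) (fun b ↦ Q b.obj.snd) K₀ ∧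
      AlgSt.LocQ (LocP @Smooth)
        (BasedFunctor.comp (AlgSt.subIncl (FibCat.fp y f) fun b ↦ Q b.obj.snd) (FibCat.fpFst y f)) ∧
      ∀ Q' : (FibCat.fp y f).obj → Prop, AlgSt.IsOpenSubstack (FibCat.fp y f) Q' K₀ →
        AlgSt.LocQ (LocP @Smooth) (BasedFunctor.comp (AlgSt.subIncl (FibCat.fp y f) Q') (FibCat.fpFst y f)) →
        ∀ b, Q' b → Q b.obj.snd := by
  obtain ⟨T₀, hT₀, rfl⟩ : ∃ T, IsOpen T ∧ Q = PtsIn T :=
    ⟨_, isOpen_range_of_isOpenImm hQ₁.2.1 h𝒳 hQ₁.2.2, eq_ptsIn_range h𝒳 hQ₁⟩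
  -- charts
  obtain ⟨W, y₀, hy₀, hy₀'⟩ := id h𝒴.atlas
  obtain ⟨U, c, hc, hc'⟩ := exists_atlas_fp h𝒳 (isAlgStack_overCat W) h𝒴 f y₀
  obtain ⟨h, ⟨ih₀⟩⟩ := exists_mapB (BasedFunctor.comp c (FibCat.fpSnd f y₀))
  obtain ⟨W', d, hd, hd'⟩ := exists_atlas_fp h𝒴' (isAlgStack_overCat W) h𝒴 y y₀
  obtain ⟨k, ⟨ik₀⟩⟩ := exists_mapB (BasedFunctor.comp d (FibCat.fpSnd y y₀))
  let ih : BasedFunctor.comp c (FibCat.fpSnd f y₀) ≅ AlgSt.overMap h := ih₀.symm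
  let ik : BasedFunctor.comp d (FibCat.fpSnd y y₀) ≅ AlgSt.overMap k := ik₀.symm
  let x := BasedFunctor.comp c (FibCat.fpFst f y₀)
  have hx : AlgSt.RepByAlgSpWith (LocP @Smooth) x := repByAlgSpWith_locP_comp (isFibGrpd_overCat U)
    (fp_isFibGrpd h𝒳.isStack.1 (isFibGrpd_overCat W) h𝒴.isStack.1) hc (repByAlgSpWith_fpFst f hy₀)
  let y₁ := BasedFunctor.comp d (FibCat.fpFst y y₀)
  have hg := fp_isFibGrpd (F := y) (G := y₀) h𝒴'.isStack.1 (isFibGrpd_overCat W) h𝒴.isStack.1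
  have hy₁ : AlgSt.RepByAlgSpWith (LocP @Smooth) y₁ :=
    repByAlgSpWith_locP_comp (isFibGrpd_overCat W') hg hd (repByAlgSpWith_fpFst y hy₀)
  have hy₁' : AlgSt.RepByAlgSpWith IsSurjectiveMor y₁ :=
    repByAlgSpWith_isSurjectiveMor_comp (isFibGrpd_overCat W') hg hd' (repByAlgSpWith_fpFst y hy₀')
  -- properties of the chart maps
  have : Flat k.left := locP_yon_map
    (((locQ_iff_locQS isSmoothLocalST_flat h𝒴' h𝒴 y).1 hy).scheme d hy₀ hd ik)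
  have hor : LocallyOfFinitePresentation k.left ∨ LocallyOfFinitePresentation h.left :=
    hfp.imp (fun hl => locP_yon_map (((locQ_iff_locQS isSmoothLocalST_lfp h𝒴' h𝒴 y).1 hl).scheme d hy₀ hd ik))
      fun hl => locP_yon_map (((locQ_iff_locQS isSmoothLocalST_lfp h𝒳 h𝒴 f).1 hl).scheme c hy₀ hc ih)
  obtain ⟨U', γ, hw', c₁, sqL, ⟨i₁⟩, ⟨i₂⟩, hc₁s, hc₁j⟩ := exists_bc_chart h𝒳.isStack.1 h𝒴.isStack.1
    (y₁ := y₁) (k := k) ih (whiskerLeftIso d (FibCat.fpIso y y₀) ≪≫ whiskerRightIso ik y₀)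
  have h' : AlgSt.IsAlgStack K₀ (FibCat.fp y f) := isAlgStack_fp h𝒴' h𝒳 h𝒴.isStack h𝒴.diag y f
  have hc₁ := hc₁s hc
  let f' := FibCat.fpFst y f
  let x' := BasedFunctor.comp c₁ (FibCat.fpFst f' y₁)
  have hg' := fp_isFibGrpd (F := f') (G := y₁) h'.isStack.1 (isFibGrpd_overCat W') h𝒴'.isStack.1
  have hx'' : AlgSt.RepByAlgSpWith (LocP @Smooth) x' :=
    repByAlgSpWith_locP_comp (isFibGrpd_overCat U') hg' hc₁ (repByAlgSpWith_fpFst f' hy₁)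
  have hx' : AlgSt.RepByAlgSpWith IsSurjectiveMor x' :=
    repByAlgSpWith_isSurjectiveMor_comp (isFibGrpd_overCat U') hg' (hc₁j hc') (repByAlgSpWith_fpFst f' hy₁')
  -- points
  have hpt : ∀ u', AlgSt.Points.map (FibCat.fpSnd y f) (AlgSt.Points.ofChart x' u') =
      AlgSt.Points.ofChart x (γ.left u') := fun u' => by
    rw [ofChart_eq_map, ← pts_map_comp, pts_map_congr i₂, ← ofChart_eq_map, ofChart_overMap]
  let T := AlgSt.Points.map (FibCat.fpSnd y f) ⁻¹' T₀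
  have hT : IsOpen T := hT₀.preimage (continuous_pts_map h𝒳.isStack.1 h𝒳.atlas _)
  have hpred : (fun b : (FibCat.fp y f).obj ↦ PtsIn T₀ b.obj.snd) = PtsIn T := funext fun b =>
    propext (ptsIn_map_iff h𝒳.isStack.1 h'.isStack.1 (FibCat.fpSnd y f) T₀ b)
  rw [hpred]
  refine ⟨isOpenSubstack_ptsIn h' hT, ?_, fun Q' hQ' hloc b hb => ?_⟩
  · let α : BasedFunctor.comp x' f' ≅ BasedFunctor.comp (AlgSt.overMap hw') y₁ :=
      whiskerLeftIso c₁ (FibCat.fpIso f' y₁) ≪≫ whiskerRightIso i₁ y₁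
    have hV := smooth_of_locQ h𝒳 h𝒴 c hc hy₀ ih hT₀ hQ₂
    let V := chartOpen h𝒳 x hT₀
    let V' : U'.left.Opens := γ.left ⁻¹ᵁ V
    have hV' : Smooth (V'.ι ≫ hw'.left) :=
      MorphismProperty.of_isPullback ((isPullback_morphismRestrict γ.left V).paste_vert sqL) hV
    refine locQ_of_open h' hx'' hy₁ α hV' hT (Set.ext fun p => ⟨fun hp => ?_, ?_⟩)
    · obtain ⟨u', rfl⟩ := ofChart_surjective h'.isStack.1 hx' p
      exact ⟨u', show AlgSt.Points.ofChart x (γ.left u') ∈ T₀ from hpt u' ▸ hp, rfl⟩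
    · rintro ⟨u', hu', rfl⟩
      show AlgSt.Points.map (FibCat.fpSnd y f) _ ∈ T₀
      rw [hpt]
      exact hu'
  · obtain ⟨T', hT', rfl⟩ : ∃ T', IsOpen T' ∧ Q' = PtsIn T' :=
      ⟨_, isOpen_range_of_isOpenImm hQ'.2.1 h' hQ'.2.2, eq_ptsIn_range h' hQ'⟩
    have hV' := smooth_of_locQ h' h𝒴' c₁ hc₁ hy₁ i₁ hT' hloc
    let T₁ := AlgSt.Points.ofChart x '' (smOpen h.left : Set U.left)
    have hT₁ : IsOpen T₁ := isOpen_image h𝒳 hx _
    have hT₁₀ := hQ₃ (PtsIn T₁) (isOpenSubstack_ptsIn h𝒳 hT₁)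
      (locQ_of_open h𝒳 hx hy₀ (whiskerLeftIso c (FibCat.fpIso f y₀) ≪≫ whiskerRightIso ih y₀)
        (smooth_smOpen h.left) hT₁ rfl)
    have hsub : T₁ ⊆ T₀ := by
      intro t ht
      obtain ⟨p, rfl⟩ := AlgSt.Points.mk_surjective t
      refine hT₁₀ p.obj (fun q φ => ?_) p (𝟙 _)
      rw [pts_eq_of_hom (p := q) (q := p) φ]
      exact ht
    refine (congrFun hpred b).mpr fun p φ => ?_
    obtain ⟨u', hu'⟩ := ofChart_surjective h'.isStack.1 hx' (AlgSt.Points.mk p)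
    show AlgSt.Points.map (FibCat.fpSnd y f) _ ∈ T₀
    rw [← hu', hpt]
    exact hsub ⟨_, mem_smOpen h.left k.left _ γ.left sqL hor _ hV'
      (show AlgSt.Points.ofChart x' u' ∈ T' from hu' ▸ hb p φ), rfl⟩

end Groth.Agent.AlgStkX.SmoothOpen
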