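import Groth.Agent.StkLib.Sieves
import Groth.Prelude.Def_StGerb

/-!
# Extension of functors to a stack along a locally surjective fully faithful functor

For `i : 𝒜 ⥤ᵇ 𝒬` fully faithful and locally surjective on objects and a functor `F : 𝒜 ⥤ᵇ 𝒳` to a
stack, the extension `extend` of `F` to `𝒬`, its uniqueness and criteria for it to be fully faithful or
an equivalence.
-/

set_option autoImplicit false
set_option backward.isDefEq.respectTransparency false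
set_option backward.isDefEq.respectTransparency.types false

universe v₄ u₄ v₃ u₃ v₂ u₂ v u

open CategoryTheory CategoryTheory.Functor Groth.Agent.FibBase Groth.Agent.StkLib

namespace Groth.Agent.AlgStkX.StackExtend

variable {C : Type u} [Category.{v} C] {J : GrothendieckTopology C} {𝒜 : BasedCategory.{v₂, u₂} C}
  {𝒬 : BasedCategory.{v₃, u₃} C} {𝒳 : BasedCategory.{v₄, u₄} C}

/-- Lifts of the arrows of a sieve below an object, in the image of `i`. -/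
def Covers (i : 𝒜 ⥤ᵇ 𝒬) (q : 𝒬.obj) (R : Sieve (𝒬.p.obj q)) : Prop :=
  ∀ ⦃V : C⦄ (f : V ⟶ 𝒬.p.obj q), R f → ∃ (p : 𝒜.obj) (m : i.obj p ⟶ q), 𝒬.p.IsHomLift f m

/-- The sieve of arrows which lift. -/
def liftSieve (h𝒜 : FibCat.IsFibGrpd 𝒜.p) (i : 𝒜 ⥤ᵇ 𝒬) (q : 𝒬.obj) : Sieve (𝒬.p.obj q) where
  arrows V f := ∃ (p : 𝒜.obj) (m : i.obj p ⟶ q), 𝒬.p.IsHomLift f m
  downward_closed := by
    rintro V W f ⟨p, m, hm⟩ g
    have hp : 𝒜.p.obj p = V := (i.w_obj p).symm.trans (IsHomLift.domain_eq 𝒬.p f m)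
    subst hp
    obtain ⟨p', k, hk⟩ := h𝒜.exists_lift g
    have := i.preserves_isHomLift g k
    exact ⟨p', i.map k ≫ m, inferInstanceAs (𝒬.p.IsHomLift (g ≫ f) (i.map k ≫ m))⟩

theorem covers_liftSieve (h𝒜 : FibCat.IsFibGrpd 𝒜.p) (i : 𝒜 ⥤ᵇ 𝒬) (q : 𝒬.obj) :
    Covers i q (liftSieve h𝒜 i q) := fun _ _ hf => hf

theorem liftSieve_mem (h𝒜 : FibCat.IsFibGrpd 𝒜.p) {i : 𝒜 ⥤ᵇ 𝒬} (hi : Gerb.LocSurjObj J i) (q : 𝒬.obj) :
    liftSieve h𝒜 i q ∈ J (𝒬.p.obj q) := by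
  obtain ⟨R, hR, h⟩ := hi q
  exact J.superset_covering (fun V f hf => h f hf) hR

theorem Covers.mono {i : 𝒜 ⥤ᵇ 𝒬} {q : 𝒬.obj} {R R' : Sieve (𝒬.p.obj q)} (h : Covers i q R) (hle : R' ≤ R) :
    Covers i q R' := fun V f hf => h f (hle _ hf)

/-- Compatible lifts of the members of a sieve to morphisms into `x`. -/
structure Fam (i : 𝒜 ⥤ᵇ 𝒬) (F : 𝒜 ⥤ᵇ 𝒳) (q : 𝒬.obj) (R : Sieve (𝒬.p.obj q)) (x : 𝒳.obj) {U : C}
    (f₀ : 𝒬.p.obj q ⟶ U) where
  ε : ∀ (p : 𝒜.obj) ⦃V : C⦄ (f : V ⟶ 𝒬.p.obj q), R f → ∀ (m : i.obj p ⟶ q), 𝒬.p.IsHomLift f m → (F.obj p ⟶ x)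
  lift : ∀ (p : 𝒜.obj) ⦃V : C⦄ (f : V ⟶ 𝒬.p.obj q) (hf : R f) (m : i.obj p ⟶ q) (hm : 𝒬.p.IsHomLift f m),
    𝒳.p.IsHomLift (f ≫ f₀) (ε p f hf m hm)
  nat : ∀ ⦃p' p : 𝒜.obj⦄ (k : p' ⟶ p) ⦃V W : C⦄ (f : V ⟶ 𝒬.p.obj q) (hf : R f) (g : W ⟶ V)
    (m : i.obj p ⟶ q) (hm : 𝒬.p.IsHomLift f m) (_ : 𝒜.p.IsHomLift g k)
    (hf' : R (g ≫ f)) (hm' : 𝒬.p.IsHomLift (g ≫ f) (i.map k ≫ m)),
    F.map k ≫ ε p f hf m hm = ε p' (g ≫ f) hf' (i.map k ≫ m) hm'

theorem Fam.ε_congr {i : 𝒜 ⥤ᵇ 𝒬} {F : 𝒜 ⥤ᵇ 𝒳} {q : 𝒬.obj} {R : Sieve (𝒬.p.obj q)} {x : 𝒳.obj} {U : C}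
    {f₀ : 𝒬.p.obj q ⟶ U} (c : Fam i F q R x f₀) {p : 𝒜.obj} {V : C} {f f' : V ⟶ 𝒬.p.obj q} (e : f = f')
    {hf : R f} {hf' : R f'} {m m' : i.obj p ⟶ q} (e' : m = m') {hm : 𝒬.p.IsHomLift f m}
    {hm' : 𝒬.p.IsHomLift f' m'} : c.ε p f hf m hm = c.ε p f' hf' m' hm' := by
  subst e e'; rfl

theorem ext_k {i : 𝒜 ⥤ᵇ 𝒬} [i.toFunctor.Faithful] (h𝒬 : FibCat.IsFibGrpd 𝒬.p) {q : 𝒬.obj} {V W : C}
    (f : V ⟶ 𝒬.p.obj q) {p' p : 𝒜.obj} (m : i.obj p ⟶ q) (hm : 𝒬.p.IsHomLift f m) (g : W ⟶ V)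
    (k k' : p' ⟶ p) (hk : 𝒜.p.IsHomLift g k) (hk' : 𝒜.p.IsHomLift g k') (e : i.map k ≫ m = i.map k' ≫ m) :
    k = k' := by
  have := isSC (hp := h𝒬) f m
  have := i.preserves_isHomLift g k
  have := i.preserves_isHomLift g k'
  exact i.toFunctor.map_injective (IsStronglyCartesian.ext 𝒬.p f m g e)

theorem exists_k {i : 𝒜 ⥤ᵇ 𝒬} [i.toFunctor.Full] (h𝒬 : FibCat.IsFibGrpd 𝒬.p) {q : 𝒬.obj} {V W : C}
    (f : V ⟶ 𝒬.p.obj q) {p' p : 𝒜.obj} (m : i.obj p ⟶ q) (hm : 𝒬.p.IsHomLift f m) (g : W ⟶ V)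
    (m' : i.obj p' ⟶ q) (hm' : 𝒬.p.IsHomLift (g ≫ f) m') :
    ∃ k : p' ⟶ p, 𝒜.p.IsHomLift g k ∧ i.map k ≫ m = m' := by
  have := isSC (hp := h𝒬) f m
  obtain ⟨k, hk⟩ := i.toFunctor.map_surjective (IsStronglyCartesian.map 𝒬.p f m (g := g) rfl m')
  refine ⟨k, ?_, ?_⟩
  · rw [← i.isHomLift_iff, hk]; infer_instance
  · rw [hk, IsStronglyCartesian.fac]

variable {i : 𝒜 ⥤ᵇ 𝒬} [i.toFunctor.Full] [i.toFunctor.Faithful] (h𝒬 : FibCat.IsFibGrpd 𝒬.p) {F : 𝒜 ⥤ᵇ 𝒳}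
  {q : 𝒬.obj} {R : Sieve (𝒬.p.obj q)} (hR : Covers i q R)

/-- The chosen lift of a member. -/
noncomputable def pA (a : (Stk.sieveCat R).obj) : 𝒜.obj := (hR a.obj.hom a.property).choose

/-- The chosen lift of a member. -/
noncomputable def mA (a : (Stk.sieveCat R).obj) : i.obj (pA hR a) ⟶ q :=
  (hR a.obj.hom a.property).choose_spec.choose

theorem mA_lift (a : (Stk.sieveCat R).obj) : 𝒬.p.IsHomLift a.obj.hom (mA hR a) :=
  (hR a.obj.hom a.property).choose_spec.choose_spec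

theorem pA_base (a : (Stk.sieveCat R).obj) : 𝒜.p.obj (pA hR a) = a.obj.left :=
  haveI := mA_lift hR a
  (i.w_obj _).symm.trans (IsHomLift.domain_eq 𝒬.p a.obj.hom (mA hR a))

/-- The comparison of chosen lifts. -/
noncomputable def kA {a b : (Stk.sieveCat R).obj} (g : a ⟶ b) : pA hR a ⟶ pA hR b :=
  (exists_k h𝒬 b.obj.hom (mA hR b) (mA_lift hR b) g.hom.left (mA hR a)
    (by rw [Over.w g.hom]; exact mA_lift hR a)).choose

theorem kA_lift {a b : (Stk.sieveCat R).obj} (g : a ⟶ b) : 𝒜.p.IsHomLift g.hom.left (kA h𝒬 hR g) :=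
  (exists_k h𝒬 b.obj.hom (mA hR b) (mA_lift hR b) g.hom.left (mA hR a)
    (by rw [Over.w g.hom]; exact mA_lift hR a)).choose_spec.1

theorem kA_fac {a b : (Stk.sieveCat R).obj} (g : a ⟶ b) : i.map (kA h𝒬 hR g) ≫ mA hR b = mA hR a :=
  (exists_k h𝒬 b.obj.hom (mA hR b) (mA_lift hR b) g.hom.left (mA hR a)
    (by rw [Over.w g.hom]; exact mA_lift hR a)).choose_spec.2

variable (F) in
/-- The descent datum of the chosen lifts. -/
noncomputable def datum : Stk.sieveCat R ⥤ᵇ 𝒳 where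
  toFunctor :=
    { obj := fun a => F.obj (pA hR a)
      map := fun g => F.map (kA h𝒬 hR g)
      map_id := fun a => by
        refine (congrArg F.map (ext_k h𝒬 a.obj.hom (mA hR a) (mA_lift hR a) (𝟙 a.obj.left) (kA h𝒬 hR (𝟙 a))
          (𝟙 _) (kA_lift h𝒬 hR (𝟙 a)) (IsHomLift.id (pA_base hR a)) ?_)).trans (F.toFunctor.map_id _)
        rw [kA_fac, i.toFunctor.map_id]
        exact (Category.id_comp _).symm
      map_comp := fun {a b c} g g' => by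
        refine (congrArg F.map (ext_k h𝒬 c.obj.hom (mA hR c) (mA_lift hR c) (g ≫ g').hom.left
          (kA h𝒬 hR (g ≫ g')) (kA h𝒬 hR g ≫ kA h𝒬 hR g') (kA_lift h𝒬 hR _) ?_ ?_)).trans (F.toFunctor.map_comp _ _)
        · have := kA_lift h𝒬 hR g
          have := kA_lift h𝒬 hR g'
          exact inferInstanceAs (𝒜.p.IsHomLift (g.hom.left ≫ g'.hom.left) (kA h𝒬 hR g ≫ kA h𝒬 hR g'))
        · rw [kA_fac, i.toFunctor.map_comp, Category.assoc, kA_fac, kA_fac] }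
  w := CategoryTheory.Functor.ext (fun a => (F.w_obj _).trans (pA_base hR a)) fun a b g => by
    have := kA_lift h𝒬 hR g
    exact IsHomLift.fac' 𝒳.p g.hom.left (F.map (kA h𝒬 hR g))

section Glue

variable (h𝒳 : FibCat.IsFibGrpd 𝒳.p)

include h𝒬 hR h𝒳 in
/-- An object with a family over the identity, from the stack condition. -/
theorem exists_fam (hst : (Stk.resSieve R 𝒳).EssSurj) :
    ∃ x : 𝒳.obj, 𝒳.p.obj x = 𝒬.p.obj q ∧ Nonempty (Fam i F q R x (𝟙 (𝒬.p.obj q))) := by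
  let H := datum (F := F) h𝒬 hR
  let G := (Stk.resSieve R 𝒳).objPreimage H
  let α : (Stk.resSieve R 𝒳).obj G ≅ H := (Stk.resSieve R 𝒳).objObjPreimageIso H
  let e : ∀ a : (Stk.sieveCat R).obj, F.obj (pA hR a) ⟶ G.obj (Over.mk (𝟙 (𝒬.p.obj q))) :=
    fun a => α.inv.toNatTrans.app a ≫ G.map (toId a.obj)
  have he : ∀ a, 𝒳.p.IsHomLift a.obj.hom (e a) := fun a => by
    have : 𝒳.p.IsHomLift a.obj.hom (G.map (toId a.obj)) := overMap_isHomLift G (toId a.obj)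
    have : 𝒳.p.IsHomLift (𝟙 a.obj.left) (α.inv.toNatTrans.app a) := α.inv.isHomLift' a
    exact IsHomLift.comp_lift_id_left' 𝒳.p a.obj.left _ a.obj.hom _
  have hn : ∀ {a b : (Stk.sieveCat R).obj} (g : a ⟶ b), F.map (kA h𝒬 hR g) ≫ e b = e a := fun {a b} g => by
    show H.map g ≫ α.inv.toNatTrans.app b ≫ G.map (toId b.obj) = _
    rw [← Category.assoc, α.inv.toNatTrans.naturality, Category.assoc]
    refine congrArg (α.inv.toNatTrans.app a ≫ ·) ?_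
    show G.map g.hom ≫ G.map (toId b.obj) = _
    rw [← G.toFunctor.map_comp]
    exact congrArg G.map (Over.OverMorphism.ext (Over.w g.hom))
  have hk : ∀ (p : 𝒜.obj) ⦃V : C⦄ (f : V ⟶ 𝒬.p.obj q) (hf : R f) (m : i.obj p ⟶ q), 𝒬.p.IsHomLift f m →
      ∃ k : p ⟶ pA hR (sob f hf), 𝒜.p.IsHomLift (𝟙 V) k ∧ i.map k ≫ mA hR (sob f hf) = m :=
    fun p V f hf m hm => exists_k h𝒬 f _ (mA_lift hR (sob f hf)) (𝟙 V) m (by rwa [Category.id_comp])
  refine ⟨G.obj (Over.mk (𝟙 (𝒬.p.obj q))), G.w_obj _, ⟨{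
    ε := fun p V f hf m hm => F.map (hk p f hf m hm).choose ≫ e (sob f hf)
    lift := fun p V f hf m hm => ?_
    nat := fun p' p k V W f hf g m hm hg hf' hm' => ?_ }⟩⟩
  · rw [Category.comp_id]
    have := (hk p f hf m hm).choose_spec.1
    have := F.preserves_isHomLift (𝟙 V) (hk p f hf m hm).choose
    have : 𝒳.p.IsHomLift f (e (sob f hf)) := he (sob f hf)
    exact IsHomLift.comp_lift_id_left' 𝒳.p V _ f _
  · let a' := sob (g ≫ f) hf'
    let a := sob f hf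
    let t : a' ⟶ a := ObjectProperty.homMk (Over.homMk g)
    have h1 := (hk p f hf m hm).choose_spec
    have h2 := (hk p' (g ≫ f) hf' _ hm').choose_spec
    generalize (hk p f hf m hm).choose = k1 at h1 ⊢
    generalize (hk p' (g ≫ f) hf' _ hm').choose = k2 at h2 ⊢
    have e0 : k ≫ k1 = k2 ≫ kA h𝒬 hR t := ?_
    · calc F.map k ≫ F.map k1 ≫ e a = F.map (k ≫ k1) ≫ e a := by rw [F.toFunctor.map_comp, Category.assoc]
        _ = F.map (k2 ≫ kA h𝒬 hR t) ≫ e a := by rw [e0]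
        _ = F.map k2 ≫ F.map (kA h𝒬 hR t) ≫ e a := by rw [F.toFunctor.map_comp, Category.assoc]
        _ = F.map k2 ≫ e a' := congrArg (F.map k2 ≫ ·) (hn t)
    have := h1.1
    have := h2.1
    have : 𝒜.p.IsHomLift g (kA h𝒬 hR t) := kA_lift h𝒬 hR t
    refine ext_k h𝒬 f (mA hR a) (mA_lift hR a) g _ _
      (IsHomLift.comp_lift_id_right' 𝒜.p g k V _) (IsHomLift.comp_lift_id_left' 𝒜.p W _ g _) ?_
    rw [i.toFunctor.map_comp, i.toFunctor.map_comp, Category.assoc, Category.assoc, h1.2, kA_fac, h2.2]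

include h𝒬 hR h𝒳 in
/-- Morphisms out of an object with a family over the identity are determined by, and glue from, families. -/
theorem existsUnique_glue (hst : Stk.IsPrestackFor R 𝒳) {x : 𝒳.obj} (c : Fam i F q R x (𝟙 (𝒬.p.obj q)))
    (hx : 𝒳.p.obj x = 𝒬.p.obj q) {x' : 𝒳.obj} {U : C} (f₀ : 𝒬.p.obj q ⟶ U) (hx' : 𝒳.p.obj x' = U)
    (c' : Fam i F q R x' f₀) :
    ∃! φ : x ⟶ x', 𝒳.p.IsHomLift f₀ φ ∧ ∀ (p : 𝒜.obj) ⦃V : C⦄ (f : V ⟶ 𝒬.p.obj q) (hf : R f)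
      (m : i.obj p ⟶ q) (hm : 𝒬.p.IsHomLift f m), c.ε p f hf m hm ≫ φ = c'.ε p f hf m hm := by
  obtain ⟨_, _⟩ := hst
  obtain ⟨G, ι, hι⟩ := exists_ofObj h𝒳 x hx
  subst hx'
  obtain ⟨x'', π, hπ⟩ := h𝒳.exists_lift f₀
  obtain ⟨G'', ι'', hι''⟩ := exists_ofObj h𝒳 x'' (IsHomLift.domain_eq 𝒳.p f₀ π)
  let θ := ι''.hom ≫ π
  have hθ : 𝒳.p.IsHomLift f₀ θ := IsHomLift.comp_lift_id_left' 𝒳.p (𝒬.p.obj q) _ f₀ _
  let cc : ∀ a : (Stk.sieveCat R).obj, F.obj (pA hR a) ⟶ x :=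
    fun a => c.ε _ a.obj.hom a.property (mA hR a) (mA_lift hR a)
  have hc : ∀ a, 𝒳.p.IsHomLift a.obj.hom (cc a) := fun a => by
    have := c.lift _ a.obj.hom a.property (mA hR a) (mA_lift hR a)
    rwa [Category.comp_id] at this
  have hu : ∀ a : (Stk.sieveCat R).obj, ∃ u : G.obj a.obj ≅ F.obj (pA hR a),
      𝒳.p.IsHomLift (𝟙 a.obj.left) u.hom ∧ u.hom ≫ cc a = G.map (toId a.obj) ≫ ι.hom := fun a =>
    haveI := hc a
    haveI : 𝒳.p.IsHomLift a.obj.hom (G.map (toId a.obj)) := overMap_isHomLift G (toId a.obj)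
    haveI : 𝒳.p.IsHomLift a.obj.hom (G.map (toId a.obj) ≫ ι.hom) :=
      IsHomLift.comp_lift_id_right' 𝒳.p a.obj.hom _ (𝒬.p.obj q) _
    exists_iso_of_lifts (hp := h𝒳) a.obj.hom _ _
  choose u hu1 hu2 using hu
  have hθa : ∀ a : (Stk.sieveCat R).obj, 𝒳.p.IsHomLift (a.obj.hom ≫ f₀) (G''.map (toId a.obj) ≫ θ) := fun a =>
    haveI : 𝒳.p.IsHomLift a.obj.hom (G''.map (toId a.obj)) := overMap_isHomLift G'' (toId a.obj)
    IsHomLift.comp 𝒳.p a.obj.hom f₀ (G''.map (toId a.obj)) θ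
  have hγ : ∀ a : (Stk.sieveCat R).obj, ∃ γ : G.obj a.obj ⟶ G''.obj a.obj,
      𝒳.p.IsHomLift (𝟙 a.obj.left) γ ∧
        γ ≫ G''.map (toId a.obj) ≫ θ = (u a).hom ≫ c'.ε _ a.obj.hom a.property (mA hR a) (mA_lift hR a) := fun a => by
    have := hθa a
    have := isSC (hp := h𝒳) (a.obj.hom ≫ f₀) (G''.map (toId a.obj) ≫ θ)
    have := hu1 a
    have := c'.lift _ a.obj.hom a.property (mA hR a) (mA_lift hR a)
    have : 𝒳.p.IsHomLift (a.obj.hom ≫ f₀)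
        ((u a).hom ≫ c'.ε _ a.obj.hom a.property (mA hR a) (mA_lift hR a)) :=
      IsHomLift.comp_lift_id_left' 𝒳.p a.obj.left _ _ _
    exact ⟨IsCartesian.map 𝒳.p (a.obj.hom ≫ f₀) (G''.map (toId a.obj) ≫ θ) _, inferInstance,
      IsCartesian.fac 𝒳.p (a.obj.hom ≫ f₀) (G''.map (toId a.obj) ≫ θ) _⟩
  choose γ hγ1 hγ2 using hγ
  have htoId : ∀ (H : FibCat.overCat (𝒬.p.obj q) ⥤ᵇ 𝒳) {a b : (Stk.sieveCat R).obj} (g : a ⟶ b),
      H.map g.hom ≫ H.map (toId b.obj) = H.map (toId a.obj) := fun H {a b} g => by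
    rw [← H.toFunctor.map_comp]
    exact congrArg H.map (Over.OverMorphism.ext (Over.w g.hom))
  have hnat : ∀ {a b : (Stk.sieveCat R).obj} (g : a ⟶ b), G.map g.hom ≫ γ b = γ a ≫ G''.map g.hom := by
    intro a b g
    have := hθa b
    have := isSC (hp := h𝒳) (b.obj.hom ≫ f₀) (G''.map (toId b.obj) ≫ θ)
    have : 𝒳.p.IsHomLift g.hom.left (G.map g.hom) := overMap_isHomLift G g.hom
    have : 𝒳.p.IsHomLift g.hom.left (G''.map g.hom) := overMap_isHomLift G'' g.hom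
    have := hγ1 a
    have := hγ1 b
    have : 𝒳.p.IsHomLift g.hom.left (G.map g.hom ≫ γ b) :=
      IsHomLift.comp_lift_id_right' 𝒳.p g.hom.left _ b.obj.left _
    have : 𝒳.p.IsHomLift g.hom.left (γ a ≫ G''.map g.hom) :=
      IsHomLift.comp_lift_id_left' 𝒳.p a.obj.left _ g.hom.left _
    refine IsStronglyCartesian.ext 𝒳.p (b.obj.hom ≫ f₀) (G''.map (toId b.obj) ≫ θ) g.hom.left ?_
    rw [Category.assoc, Category.assoc, hγ2, ← Category.assoc (G''.map g.hom), htoId G'' g, hγ2]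
    have hg : 𝒜.p.IsHomLift g.hom.left (kA h𝒬 hR g) := kA_lift h𝒬 hR g
    have hmw : 𝒬.p.IsHomLift (g.hom.left ≫ b.obj.hom) (i.map (kA h𝒬 hR g) ≫ mA hR b) := by
      rw [kA_fac, Over.w g.hom]; exact mA_lift hR a
    have hfw : R (g.hom.left ≫ b.obj.hom) := by rw [Over.w g.hom]; exact a.property
    have key : ∀ {y : 𝒳.obj} {V : C} {f₁ : 𝒬.p.obj q ⟶ V} (d : Fam i F q R y f₁),
        F.map (kA h𝒬 hR g) ≫ d.ε _ b.obj.hom b.property (mA hR b) (mA_lift hR b) =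
          d.ε _ a.obj.hom a.property (mA hR a) (mA_lift hR a) := fun {y V f₁} d =>
      (d.nat (kA h𝒬 hR g) b.obj.hom b.property g.hom.left (mA hR b) (mA_lift hR b) hg hfw hmw).trans
        (d.ε_congr (Over.w g.hom) (kA_fac h𝒬 hR g))
    have h1 : G.map g.hom ≫ (u b).hom = (u a).hom ≫ F.map (kA h𝒬 hR g) := by
      have := hc b
      have := isSC (hp := h𝒳) b.obj.hom (cc b)
      have := hu1 a
      have := hu1 b
      have : 𝒳.p.IsHomLift g.hom.left (F.map (kA h𝒬 hR g)) := F.preserves_isHomLift g.hom.left _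
      have : 𝒳.p.IsHomLift g.hom.left (G.map g.hom ≫ (u b).hom) :=
        IsHomLift.comp_lift_id_right' 𝒳.p g.hom.left _ b.obj.left _
      have : 𝒳.p.IsHomLift g.hom.left ((u a).hom ≫ F.map (kA h𝒬 hR g)) :=
        IsHomLift.comp_lift_id_left' 𝒳.p a.obj.left _ g.hom.left _
      refine IsStronglyCartesian.ext 𝒳.p b.obj.hom (cc b) g.hom.left ?_
      rw [Category.assoc, hu2, ← Category.assoc, htoId G g, Category.assoc, key c, hu2]
    rw [← Category.assoc, h1, Category.assoc, key c']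
  let Γ : (Stk.resSieve R 𝒳).obj G ⟶ (Stk.resSieve R 𝒳).obj G'' :=
    { toNatTrans := { app := γ, naturality := fun a b g => hnat g }, isHomLift' := hγ1 }
  obtain ⟨β, hβ⟩ := (Stk.resSieve R 𝒳).map_surjective Γ
  have hval : ∀ (a : (Stk.sieveCat R).obj) (β' : G ⟶ G''),
      cc a ≫ ι.inv ≫ β'.toNatTrans.app (Over.mk (𝟙 _)) ≫ θ =
        (u a).inv ≫ β'.toNatTrans.app a.obj ≫ G''.map (toId a.obj) ≫ θ := fun a β' => by
    rw [← cancel_epi (u a).hom, ← Category.assoc _ (cc a), hu2, Category.assoc, ι.hom_inv_id_assoc,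
      (u a).hom_inv_id_assoc]
    exact ((Category.assoc _ _ _).symm.trans (congrArg (· ≫ θ) (β'.toNatTrans.naturality (toId a.obj)))).trans
      (Category.assoc _ _ _)
  have hι' : 𝒳.p.IsHomLift (𝟙 (𝒬.p.obj q)) ι.inv := IsHomLift.lift_id_inv 𝒳.p _ ι
  have hall : ∀ (φ : x ⟶ x'), 𝒳.p.IsHomLift f₀ φ →
      (∀ a, cc a ≫ φ = c'.ε _ a.obj.hom a.property (mA hR a) (mA_lift hR a)) →
      ∀ (p : 𝒜.obj) ⦃V : C⦄ (f : V ⟶ 𝒬.p.obj q) (hf : R f) (m : i.obj p ⟶ q) (hm : 𝒬.p.IsHomLift f m),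
        c.ε p f hf m hm ≫ φ = c'.ε p f hf m hm := by
    intro φ _ h p V f hf m hm
    obtain ⟨k, hk, hkm⟩ := exists_k h𝒬 f _ (mA_lift hR (sob f hf)) (𝟙 V) m (by rwa [Category.id_comp])
    have hmw : 𝒬.p.IsHomLift (𝟙 V ≫ f) (i.map k ≫ mA hR (sob f hf)) := by rw [hkm, Category.id_comp]; exact hm
    have hfw : R (𝟙 V ≫ f) := by rw [Category.id_comp]; exact hf
    have key : ∀ {y : 𝒳.obj} {W : C} {f₁ : 𝒬.p.obj q ⟶ W} (d : Fam i F q R y f₁),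
        F.map k ≫ d.ε _ f hf (mA hR (sob f hf)) (mA_lift hR (sob f hf)) = d.ε p f hf m hm := fun {y W f₁} d =>
      (d.nat k f hf (𝟙 V) _ (mA_lift hR (sob f hf)) hk hfw hmw).trans (d.ε_congr (Category.id_comp f) hkm)
    rw [← key c, Category.assoc, ← key c']
    exact congrArg (F.map k ≫ ·) (h (sob f hf))
  have hφ : 𝒳.p.IsHomLift f₀ (ι.inv ≫ β.toNatTrans.app (Over.mk (𝟙 _)) ≫ θ) := by
    have : 𝒳.p.IsHomLift (𝟙 (𝒬.p.obj q)) (β.toNatTrans.app (Over.mk (𝟙 _))) := BasedNatTrans.isHomLift β rfl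
    have : 𝒳.p.IsHomLift f₀ (β.toNatTrans.app (Over.mk (𝟙 _)) ≫ θ) :=
      IsHomLift.comp_lift_id_left' 𝒳.p (𝒬.p.obj q) _ f₀ _
    exact IsHomLift.comp_lift_id_left' 𝒳.p (𝒬.p.obj q) _ f₀ _
  refine ⟨_, ⟨hφ, hall _ hφ fun a => ?_⟩, fun φ' hφ' => ?_⟩
  · rw [hval, show β.toNatTrans.app a.obj = γ a from congrArg (fun t => t.toNatTrans.app a) hβ, hγ2,
      (u a).inv_hom_id_assoc]
  · obtain ⟨hl, he⟩ := hφ'
    have := isSC (hp := h𝒳) f₀ θ
    have : 𝒳.p.IsHomLift f₀ (ι.hom ≫ φ') := IsHomLift.comp_lift_id_left' 𝒳.p (𝒬.p.obj q) _ f₀ _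
    let t := IsCartesian.map 𝒳.p f₀ θ (ι.hom ≫ φ')
    let β' := homOfEval (preserves_of_isFibGrpd h𝒳 G'') t inferInstance
    have hβ' : (Stk.resSieve R 𝒳).map β' = Γ := hext fun a => by
      have := hθa a
      have := isSC (hp := h𝒳) (a.obj.hom ≫ f₀) (G''.map (toId a.obj) ≫ θ)
      have h1 : 𝒳.p.IsHomLift (𝟙 a.obj.left) (β'.toNatTrans.app a.obj) := BasedNatTrans.isHomLift β' rfl
      have := hγ1 a
      show β'.toNatTrans.app a.obj = γ a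
      refine IsStronglyCartesian.ext 𝒳.p (a.obj.hom ≫ f₀) (G''.map (toId a.obj) ≫ θ) (𝟙 a.obj.left) ?_
      rw [hγ2, ← cancel_epi (u a).inv, ← hval, (u a).inv_hom_id_assoc, ← he _ a.obj.hom a.property (mA hR a)
        (mA_lift hR a), homOfEval_app, IsCartesian.fac, ι.inv_hom_id_assoc]
    have hb : β' = β := (Stk.resSieve R 𝒳).map_injective (hβ'.trans hβ.symm)
    rw [← hb, homOfEval_app, IsCartesian.fac, ι.inv_hom_id_assoc]

end Glue

section Families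

omit [i.toFunctor.Full] [i.toFunctor.Faithful]

/-- The family of a functor on `𝒬` restricted along `i`, pushed along a morphism. -/
def famOfFunctor (A : 𝒬 ⥤ᵇ 𝒳) (α : F ⟶ BasedFunctor.comp i A) {q' : 𝒬.obj} (n : q ⟶ q') :
    Fam i F q R (A.obj q') (𝒬.p.map n) where
  ε p _ _ _ m _ := α.toNatTrans.app p ≫ A.map (m ≫ n)
  lift p V f _ m hm := by
    have hp : 𝒜.p.obj p = V := (i.w_obj p).symm.trans (IsHomLift.domain_eq 𝒬.p f m)
    subst hp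
    have : 𝒳.p.IsHomLift (𝟙 (𝒜.p.obj p)) (α.toNatTrans.app p) := α.isHomLift' p
    have : 𝒬.p.IsHomLift (f ≫ 𝒬.p.map n) (m ≫ n) :=
      haveI := IsHomLift.map 𝒬.p n
      inferInstance
    have := A.preserves_isHomLift (f ≫ 𝒬.p.map n) (m ≫ n)
    exact IsHomLift.comp_lift_id_left' 𝒳.p (𝒜.p.obj p) _ (f ≫ 𝒬.p.map n) _
  nat p' p k V W f _ g m _ _ _ _ := by
    rw [← Category.assoc, α.toNatTrans.naturality k, Category.assoc]
    show α.toNatTrans.app p' ≫ A.map (i.map k) ≫ A.map (m ≫ n) = α.toNatTrans.app p' ≫ A.map ((i.map k ≫ m) ≫ n)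
    rw [← A.toFunctor.map_comp, Category.assoc]

/-- Pushing a family forward along a morphism of `𝒬`. -/
def Fam.push {q' : 𝒬.obj} {R' : Sieve (𝒬.p.obj q')} {x : 𝒳.obj} {U : C} {f₀ : 𝒬.p.obj q' ⟶ U}
    (d : Fam i F q' R' x f₀) (n : q ⟶ q') (hle : ∀ ⦃V : C⦄ (f : V ⟶ 𝒬.p.obj q), R f → R' (f ≫ 𝒬.p.map n)) :
    Fam i F q R x (𝒬.p.map n ≫ f₀) where
  ε p _ f hf m hm := d.ε p (f ≫ 𝒬.p.map n) (hle f hf) (m ≫ n)
    (haveI := hm; haveI := IsHomLift.map 𝒬.p n; inferInstance)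
  lift p V f hf m hm := by rw [← Category.assoc]; exact d.lift p _ _ _ _
  nat p' p k V W f hf g m hm hg hf' hm' := by
    have := IsHomLift.map 𝒬.p n
    have := hm'
    exact (d.nat k (f ≫ 𝒬.p.map n) (hle f hf) g (m ≫ n) _ hg
      (by rw [← Category.assoc]; exact hle _ hf')
      (by rw [← Category.assoc, ← Category.assoc]; infer_instance)).trans
      (d.ε_congr (Category.assoc _ _ _).symm (Category.assoc _ _ _).symm)

/-- Composing a family with a morphism. -/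
def Fam.post {x : 𝒳.obj} {U : C} {f₀ : 𝒬.p.obj q ⟶ U} (d : Fam i F q R x f₀) {x' : 𝒳.obj} {U' : C}
    (f₁ : U ⟶ U') (φ : x ⟶ x') (hφ : 𝒳.p.IsHomLift f₁ φ) : Fam i F q R x' (f₀ ≫ f₁) where
  ε p _ f hf m hm := d.ε p f hf m hm ≫ φ
  lift p V f hf m hm := by
    have := d.lift p f hf m hm
    rw [← Category.assoc]; infer_instance
  nat p' p k V W f hf g m hm hg hf' hm' := by rw [← Category.assoc, d.nat k f hf g m hm hg hf' hm']

end Families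

section Extend

variable (h𝒜 : FibCat.IsFibGrpd 𝒜.p) (hi : Gerb.LocSurjObj J i) (hst : Stk.IsStack J 𝒳)
  (F' : 𝒜 ⥤ᵇ 𝒳)

include h𝒬 hi hst in
theorem exists_extObj (q : 𝒬.obj) :
    ∃ x : 𝒳.obj, 𝒳.p.obj x = 𝒬.p.obj q ∧ Nonempty (Fam i F' q (liftSieve h𝒜 i q) x (𝟙 (𝒬.p.obj q))) := by
  have : (Stk.resSieve (liftSieve h𝒜 i q) 𝒳).IsEquivalence := hst.2 _ (liftSieve_mem h𝒜 hi q)
  exact exists_fam h𝒬 (covers_liftSieve h𝒜 i q) hst.1 inferInstance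

/-- The value of the extension. -/
noncomputable def extObj (q : 𝒬.obj) : 𝒳.obj := (exists_extObj h𝒬 h𝒜 hi hst F' q).choose

theorem extObj_base (q : 𝒬.obj) : 𝒳.p.obj (extObj h𝒬 h𝒜 hi hst F' q) = 𝒬.p.obj q :=
  (exists_extObj h𝒬 h𝒜 hi hst F' q).choose_spec.1

/-- The tautological family of the value of the extension. -/
noncomputable def extFam (q : 𝒬.obj) :
    Fam i F' q (liftSieve h𝒜 i q) (extObj h𝒬 h𝒜 hi hst F' q) (𝟙 (𝒬.p.obj q)) :=
  (exists_extObj h𝒬 h𝒜 hi hst F' q).choose_spec.2.some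

include h𝒬 hi hst in
theorem existsUnique_ext {x : 𝒳.obj} {q : 𝒬.obj} (c : Fam i F' q (liftSieve h𝒜 i q) x (𝟙 (𝒬.p.obj q)))
    (hx : 𝒳.p.obj x = 𝒬.p.obj q) {x' : 𝒳.obj} {U : C} (f₀ : 𝒬.p.obj q ⟶ U) (hx' : 𝒳.p.obj x' = U)
    (c' : Fam i F' q (liftSieve h𝒜 i q) x' f₀) :
    ∃! φ : x ⟶ x', 𝒳.p.IsHomLift f₀ φ ∧ ∀ (p : 𝒜.obj) ⦃V : C⦄ (f : V ⟶ 𝒬.p.obj q)
      (hf : liftSieve h𝒜 i q f) (m : i.obj p ⟶ q) (hm : 𝒬.p.IsHomLift f m),
      c.ε p f hf m hm ≫ φ = c'.ε p f hf m hm := by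
  have : (Stk.resSieve (liftSieve h𝒜 i q) 𝒳).IsEquivalence := hst.2 _ (liftSieve_mem h𝒜 hi q)
  exact existsUnique_glue h𝒬 (covers_liftSieve h𝒜 i q) hst.1 ⟨inferInstance, inferInstance⟩ c hx f₀ hx' c'

omit [i.toFunctor.Full] [i.toFunctor.Faithful] in
theorem liftSieve_comp {q q' : 𝒬.obj} (n : q ⟶ q') ⦃V : C⦄ (f : V ⟶ 𝒬.p.obj q) (hf : liftSieve h𝒜 i q f) :
    liftSieve h𝒜 i q' (f ≫ 𝒬.p.map n) := by
  obtain ⟨p, m, hm⟩ := hf
  have := IsHomLift.map 𝒬.p n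
  exact ⟨p, m ≫ n, inferInstance⟩

theorem existsUnique_extMap {q q' : 𝒬.obj} (n : q ⟶ q') :
    ∃! φ : extObj h𝒬 h𝒜 hi hst F' q ⟶ extObj h𝒬 h𝒜 hi hst F' q',
      𝒳.p.IsHomLift (𝒬.p.map n ≫ 𝟙 (𝒬.p.obj q')) φ ∧ ∀ (p : 𝒜.obj) ⦃V : C⦄ (f : V ⟶ 𝒬.p.obj q)
      (hf : liftSieve h𝒜 i q f) (m : i.obj p ⟶ q) (hm : 𝒬.p.IsHomLift f m),
      (extFam h𝒬 h𝒜 hi hst F' q).ε p f hf m hm ≫ φ =
        ((extFam h𝒬 h𝒜 hi hst F' q').push n (liftSieve_comp h𝒜 n)).ε p f hf m hm :=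
  existsUnique_ext h𝒬 h𝒜 hi hst F' _ (extObj_base h𝒬 h𝒜 hi hst F' q) _ (extObj_base h𝒬 h𝒜 hi hst F' q') _

/-- The extension of a functor to a stack. -/
noncomputable def extend : 𝒬 ⥤ᵇ 𝒳 where
  toFunctor :=
    { obj := extObj h𝒬 h𝒜 hi hst F'
      map := fun n => (existsUnique_extMap h𝒬 h𝒜 hi hst F' n).choose
      map_id := fun q => by
        refine ((existsUnique_extMap h𝒬 h𝒜 hi hst F' (𝟙 q)).choose_spec.2 _ ⟨?_, fun p V f hf m hm => ?_⟩).symm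
        · rw [Category.comp_id, 𝒬.p.map_id]
          exact IsHomLift.id (extObj_base h𝒬 h𝒜 hi hst F' q)
        · rw [Category.comp_id]
          exact (extFam h𝒬 h𝒜 hi hst F' q).ε_congr (by rw [𝒬.p.map_id, Category.comp_id]) (Category.comp_id m).symm
      map_comp := fun {q q' q''} n n' => by
        have h1 := (existsUnique_extMap h𝒬 h𝒜 hi hst F' n).choose_spec.1
        have h2 := (existsUnique_extMap h𝒬 h𝒜 hi hst F' n').choose_spec.1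
        refine ((existsUnique_extMap h𝒬 h𝒜 hi hst F' (n ≫ n')).choose_spec.2 _ ⟨?_, fun p V f hf m hm => ?_⟩).symm
        · have := h1.1
          have := h2.1
          simp only [Category.comp_id, 𝒬.p.map_comp] at *
          infer_instance
        · rw [← Category.assoc, h1.2 p f hf m hm]
          refine (h2.2 p _ (liftSieve_comp h𝒜 n f hf) (m ≫ n) _).trans ?_
          exact (extFam h𝒬 h𝒜 hi hst F' q'').ε_congr (by rw [𝒬.p.map_comp, Category.assoc]) (Category.assoc _ _ _) }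
  w := CategoryTheory.Functor.ext (extObj_base h𝒬 h𝒜 hi hst F') fun q q' n => by
    have h0 := (existsUnique_extMap h𝒬 h𝒜 hi hst F' n).choose_spec.1.1
    have : 𝒳.p.IsHomLift (𝒬.p.map n) (existsUnique_extMap h𝒬 h𝒜 hi hst F' n).choose :=
      (congrArg (fun f => 𝒳.p.IsHomLift f (existsUnique_extMap h𝒬 h𝒜 hi hst F' n).choose)
        (Category.comp_id (𝒬.p.map n))).mp h0
    exact IsHomLift.fac' 𝒳.p (𝒬.p.map n) (existsUnique_extMap h𝒬 h𝒜 hi hst F' n).choose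

theorem extFam_comp_map {q q' : 𝒬.obj} (n : q ⟶ q') (p : 𝒜.obj) ⦃V : C⦄ (f : V ⟶ 𝒬.p.obj q)
    (hf : liftSieve h𝒜 i q f) (m : i.obj p ⟶ q) (hm : 𝒬.p.IsHomLift f m) :
    (extFam h𝒬 h𝒜 hi hst F' q).ε p f hf m hm ≫ (extend h𝒬 h𝒜 hi hst F').map n =
      ((extFam h𝒬 h𝒜 hi hst F' q').push n (liftSieve_comp h𝒜 n)).ε p f hf m hm :=
  (existsUnique_extMap h𝒬 h𝒜 hi hst F' n).choose_spec.1.2 p f hf m hm

/-- The extension extends. -/
noncomputable def extendIso : F' ≅ BasedFunctor.comp i (extend h𝒬 h𝒜 hi hst F') := by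
  have hid : ∀ p : 𝒜.obj, 𝒬.p.IsHomLift (𝟙 (𝒬.p.obj (i.obj p))) (𝟙 (i.obj p)) := fun p => IsHomLift.id rfl
  let u : ∀ p : 𝒜.obj, F'.obj p ⟶ extObj h𝒬 h𝒜 hi hst F' (i.obj p) := fun p =>
    (extFam h𝒬 h𝒜 hi hst F' (i.obj p)).ε p (𝟙 _) ⟨p, 𝟙 _, hid p⟩ (𝟙 _) (hid p)
  let τ : F' ⟶ BasedFunctor.comp i (extend h𝒬 h𝒜 hi hst F') :=
    { toNatTrans :=
        { app := u
          naturality := fun p p' k => by
            let g := 𝒬.p.map (i.map k)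
            have hg : 𝒜.p.IsHomLift g k := (i.isHomLift_iff g k).1 (IsHomLift.map 𝒬.p (i.map k))
            have hgm : 𝒬.p.IsHomLift (g ≫ 𝟙 _) (i.map k ≫ 𝟙 _) := by
              rw [Category.comp_id, Category.comp_id]; exact IsHomLift.map 𝒬.p (i.map k)
            refine ((extFam h𝒬 h𝒜 hi hst F' (i.obj p')).nat k (𝟙 _) ⟨p', 𝟙 _, hid p'⟩ g (𝟙 _) (hid p') hg
              ⟨p, _, hgm⟩ hgm).trans ?_
            refine Eq.trans ?_ (extFam_comp_map h𝒬 h𝒜 hi hst F' (i.map k) p (𝟙 _) ⟨p, 𝟙 _, hid p⟩ (𝟙 _) (hid p)).symm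
            exact Fam.ε_congr _ ((Category.comp_id _).trans (Category.id_comp _).symm)
              ((Category.comp_id _).trans (Category.id_comp _).symm) }
      isHomLift' := fun p => by
        have := (extFam h𝒬 h𝒜 hi hst F' (i.obj p)).lift p (𝟙 _) ⟨p, 𝟙 _, hid p⟩ (𝟙 _) (hid p)
        rw [Category.comp_id] at this
        exact isHomLift_id_congr (i.w_obj p) this }
  haveI := hom_isIso hst.1 τ
  exact asIso τ

end Extend

section Unique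

variable (h𝒜 : FibCat.IsFibGrpd 𝒜.p) (hi : Gerb.LocSurjObj J i) (hst : Stk.IsStack J 𝒳)

include h𝒬 h𝒜 hi hst in
/-- Functors to a stack agreeing along `i` are isomorphic. -/
theorem nonempty_iso_of_comp {A B : 𝒬 ⥤ᵇ 𝒳} (α : BasedFunctor.comp i A ≅ BasedFunctor.comp i B) :
    Nonempty (A ≅ B) := by
  let F₀ := BasedFunctor.comp i A
  let cA : ∀ {q q' : 𝒬.obj} (n : q ⟶ q'), Fam i F₀ q (liftSieve h𝒜 i q) (A.obj q') (𝒬.p.map n) :=
    fun n => famOfFunctor A (𝟙 F₀) n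
  let cA₁ : ∀ q : 𝒬.obj, Fam i F₀ q (liftSieve h𝒜 i q) (A.obj q) (𝟙 (𝒬.p.obj q)) :=
    fun q => cast (congrArg (Fam i F₀ q (liftSieve h𝒜 i q) (A.obj q)) (𝒬.p.map_id q)) (cA (𝟙 q))
  have hcA : ∀ (q : 𝒬.obj) (p : 𝒜.obj) ⦃V : C⦄ (f : V ⟶ 𝒬.p.obj q) (hf : liftSieve h𝒜 i q f)
      (m : i.obj p ⟶ q) (hm : 𝒬.p.IsHomLift f m), (cA₁ q).ε p f hf m hm = A.map m := by
    intro q p V f hf m hm
    have aux : ∀ {f₁ f₂ : 𝒬.p.obj q ⟶ 𝒬.p.obj q} (e : f₁ = f₂) (c : Fam i F₀ q (liftSieve h𝒜 i q) (A.obj q) f₁),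
        (cast (congrArg (Fam i F₀ q (liftSieve h𝒜 i q) (A.obj q)) e) c).ε p f hf m hm = c.ε p f hf m hm := by
      rintro f₁ f₂ rfl c; rfl
    refine (aux (𝒬.p.map_id q) (cA (𝟙 q))).trans ?_
    show 𝟙 _ ≫ A.map (m ≫ 𝟙 q) = A.map m
    rw [Category.comp_id]
    exact Category.id_comp _
  let cB : ∀ {q q' : 𝒬.obj} (n : q ⟶ q'), Fam i F₀ q (liftSieve h𝒜 i q) (B.obj q') (𝒬.p.map n) :=
    fun n => famOfFunctor B α.hom n
  have hq := fun q : 𝒬.obj => existsUnique_ext h𝒬 h𝒜 hi hst F₀ (cA₁ q) (A.w_obj q) (𝒬.p.map (𝟙 q)) (B.w_obj q)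
    (cB (𝟙 q))
  choose φ hφ _ using hq
  have hlift : ∀ q, 𝒳.p.IsHomLift (𝟙 (𝒬.p.obj q)) (φ q) := fun q => 𝒬.p.map_id q ▸ (hφ q).1
  let τ : A ⟶ B :=
    { toNatTrans :=
        { app := φ
          naturality := fun q q' n => by
            have hu := existsUnique_ext h𝒬 h𝒜 hi hst F₀ (cA₁ q) (A.w_obj q) (𝒬.p.map n) (B.w_obj q') (cB n)
            have := IsHomLift.map 𝒬.p n
            have := A.preserves_isHomLift (𝒬.p.map n) n
            have := B.preserves_isHomLift (𝒬.p.map n) n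
            have := hlift q
            have := hlift q'
            refine hu.unique ⟨IsHomLift.comp_lift_id_right' 𝒳.p (𝒬.p.map n) (A.map n) (𝒬.p.obj q') (φ q'), fun p V f hf m hm => ?_⟩
              ⟨IsHomLift.comp_lift_id_left' 𝒳.p (𝒬.p.obj q) (φ q) (𝒬.p.map n) (B.map n), fun p V f hf m hm => ?_⟩
            · rw [hcA, ← Category.assoc, ← A.toFunctor.map_comp]
              have hmn : 𝒬.p.IsHomLift (f ≫ 𝒬.p.map n) (m ≫ n) := inferInstance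
              have h := (hφ q').2 p (f ≫ 𝒬.p.map n) (liftSieve_comp h𝒜 n f hf) (m ≫ n) hmn
              rw [hcA] at h
              refine h.trans ?_
              show α.hom.toNatTrans.app p ≫ B.map ((m ≫ n) ≫ 𝟙 q') = α.hom.toNatTrans.app p ≫ B.map (m ≫ n)
              rw [Category.comp_id]
            · rw [← Category.assoc, (hφ q).2 p f hf m hm]
              show (α.hom.toNatTrans.app p ≫ B.map (m ≫ 𝟙 q)) ≫ B.map n = α.hom.toNatTrans.app p ≫ B.map (m ≫ n)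
              rw [Category.comp_id, Category.assoc, B.toFunctor.map_comp] }
      isHomLift' := hlift }
  haveI := hom_isIso hst.1 τ
  exact ⟨asIso τ⟩

end Unique

section Criteria

variable (h𝒜 : FibCat.IsFibGrpd 𝒜.p) (hi : Gerb.LocSurjObj J i) (hst : Stk.IsStack J 𝒳)
  (A : 𝒬 ⥤ᵇ 𝒳) [(BasedFunctor.comp i A).toFunctor.Full] [(BasedFunctor.comp i A).toFunctor.Faithful]

include h𝒬 hst in
/-- Morphisms out of objects in the image of `i` are detected by `A`. -/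
theorem map_injective_of_img {p : 𝒜.obj} {q' : 𝒬.obj} {V : C} (f : V ⟶ 𝒬.p.obj q') (ν ν' : i.obj p ⟶ q')
    (hν : 𝒬.p.IsHomLift f ν) (hν' : 𝒬.p.IsHomLift f ν') (e : A.map ν = A.map ν') : ν = ν' := by
  obtain ⟨h, hh, hfac⟩ := exists_k h𝒬 f ν hν (𝟙 V) ν' (by rwa [Category.id_comp])
  have := A.preserves_isHomLift f ν
  have := isSC (hp := hst.1) f (A.map ν)
  have hp : 𝒜.p.obj p = V := (i.w_obj p).symm.trans (IsHomLift.domain_eq 𝒬.p f ν)
  have : 𝒳.p.IsHomLift (𝟙 V) ((BasedFunctor.comp i A).map h) :=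
    haveI := hh; (BasedFunctor.comp i A).preserves_isHomLift (𝟙 V) h
  have : 𝒳.p.IsHomLift (𝟙 V) ((BasedFunctor.comp i A).map (𝟙 p)) :=
    haveI := IsHomLift.id (p := 𝒜.p) hp; (BasedFunctor.comp i A).preserves_isHomLift (𝟙 V) (𝟙 p)
  have : h = 𝟙 p := (BasedFunctor.comp i A).toFunctor.map_injective
    (IsStronglyCartesian.ext 𝒳.p f (A.map ν) (𝟙 V) (by
      show A.map (i.map h) ≫ A.map ν = A.map (i.map (𝟙 p)) ≫ A.map ν
      rw [← A.toFunctor.map_comp, ← A.toFunctor.map_comp, hfac, ← e, i.toFunctor.map_id, Category.id_comp]))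
  rw [← hfac, this, i.toFunctor.map_id]
  exact (Category.id_comp ν).symm

variable (hst𝒬 : Stk.IsStack J 𝒬)

include h𝒬 h𝒜 hi hst hst𝒬 in
/-- A functor between stacks is fully faithful if it is so on the image of `i`. -/
theorem full_faithful_of_comp : A.toFunctor.Full ∧ A.toFunctor.Faithful := by
  have base : ∀ {q q' : 𝒬.obj} (n : q ⟶ q'), 𝒳.p.IsHomLift (𝒬.p.map n) (A.map n) := fun n =>
    haveI := IsHomLift.map 𝒬.p n; A.preserves_isHomLift (𝒬.p.map n) n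
  refine ⟨⟨fun {q q'} φ => ?_⟩, ⟨fun {q q'} n n' e => ?_⟩⟩
  · let f₀ : 𝒬.p.obj q ⟶ 𝒬.p.obj q' := eqToHom (A.w_obj q).symm ≫ 𝒳.p.map φ ≫ eqToHom (A.w_obj q')
    have hφ : 𝒳.p.IsHomLift f₀ φ := IsHomLift.of_fac 𝒳.p f₀ φ (A.w_obj q) (A.w_obj q') rfl
    let R := liftSieve h𝒜 i q ⊓ (liftSieve h𝒜 i q').pullback f₀
    have hR : R ∈ J (𝒬.p.obj q) :=
      J.intersection_covering (liftSieve_mem h𝒜 hi q) (J.pullback_stable _ (liftSieve_mem h𝒜 hi q'))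
    have hcov : Covers i q R := (covers_liftSieve h𝒜 i q).mono inf_le_left
    have hν : ∀ (p : 𝒜.obj) ⦃V : C⦄ (f : V ⟶ 𝒬.p.obj q), R f → ∀ (m : i.obj p ⟶ q), 𝒬.p.IsHomLift f m →
        ∃ ν : i.obj p ⟶ q', 𝒬.p.IsHomLift (f ≫ f₀) ν ∧ A.map ν = A.map m ≫ φ := by
      intro p V f hf m hm
      obtain ⟨p', m', hm'⟩ := hf.2
      have := A.preserves_isHomLift f m
      have := A.preserves_isHomLift (f ≫ f₀) m'
      have := isSC (hp := hst.1) (f ≫ f₀) (A.map m')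
      obtain ⟨h, hh⟩ := (BasedFunctor.comp i A).toFunctor.map_surjective
        (IsCartesian.map 𝒳.p (f ≫ f₀) (A.map m') (A.map m ≫ φ))
      have : 𝒳.p.IsHomLift (𝟙 V) ((BasedFunctor.comp i A).map h) := by rw [hh]; infer_instance
      have : 𝒬.p.IsHomLift (𝟙 V) (i.map h) := (A.isHomLift_iff (𝟙 V) (i.map h)).1 this
      refine ⟨i.map h ≫ m', IsHomLift.comp_lift_id_left' 𝒬.p V _ (f ≫ f₀) _, ?_⟩
      rw [A.toFunctor.map_comp]
      refine (congrArg (· ≫ A.map m') hh).trans ?_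
      exact IsCartesian.fac 𝒳.p (f ≫ f₀) (A.map m') (A.map m ≫ φ)
    choose ν hν1 hν2 using hν
    let c₀ : Fam i i q R q (𝟙 (𝒬.p.obj q)) :=
      { ε := fun p _ _ _ m _ => m
        lift := fun p V f _ m hm => by rw [Category.comp_id]; exact hm
        nat := fun p' p k V W f _ g m _ _ _ _ => rfl }
    let c₁ : Fam i i q R q' f₀ :=
      { ε := ν
        lift := hν1
        nat := fun p' p k V W f hf g m hm hg hf' hm' => by
          have := i.preserves_isHomLift g k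
          have := hν1 p f hf m hm
          refine map_injective_of_img h𝒬 hst A ((g ≫ f) ≫ f₀) _ _ ?_ (hν1 p' _ hf' _ hm') ?_
          · rw [Category.assoc]; infer_instance
          · rw [A.toFunctor.map_comp, hν2, hν2, ← Category.assoc, ← A.toFunctor.map_comp] }
    have : (Stk.resSieve R 𝒬).IsEquivalence := hst𝒬.2 _ hR
    obtain ⟨n, ⟨hn, hn'⟩, -⟩ := existsUnique_glue h𝒬 hcov hst𝒬.1 ⟨inferInstance, inferInstance⟩ c₀ rfl f₀ rfl c₁
    refine ⟨n, ?_⟩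
    let cA : Fam i (BasedFunctor.comp i A) q R (A.obj q) (𝟙 (𝒬.p.obj q)) :=
      { ε := fun p _ _ _ m _ => A.map m
        lift := fun p V f _ m hm => by rw [Category.comp_id]; exact A.preserves_isHomLift f m
        nat := fun p' p k V W f _ g m _ _ _ _ => (A.toFunctor.map_comp _ _).symm }
    let cA' : Fam i (BasedFunctor.comp i A) q R (A.obj q') f₀ :=
      { ε := fun p _ f hf m hm => A.map (ν p f hf m hm)
        lift := fun p V f hf m hm => haveI := hν1 p f hf m hm; A.preserves_isHomLift _ _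
        nat := fun p' p k V W f hf g m hm hg hf' hm' =>
          (A.toFunctor.map_comp _ _).symm.trans (congrArg A.map (c₁.nat k f hf g m hm hg hf' hm')) }
    have : (Stk.resSieve R 𝒳).IsEquivalence := hst.2 _ hR
    refine (existsUnique_glue h𝒬 hcov hst.1 ⟨inferInstance, inferInstance⟩ cA (A.w_obj q) f₀ (A.w_obj q') cA').unique
      ⟨haveI := hn; A.preserves_isHomLift f₀ n, fun p V f hf m hm => ?_⟩ ⟨hφ, fun p V f hf m hm => ?_⟩
    · exact (A.toFunctor.map_comp _ _).symm.trans (congrArg A.map (hn' p f hf m hm))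
    · exact (hν2 p f hf m hm).symm
  · have hb : 𝒬.p.map n = 𝒬.p.map n' := by
      have : 𝒬.p.IsHomLift (𝒬.p.map n) n' := (A.isHomLift_iff _ n').1 (e ▸ base n)
      exact IsHomLift.eq_of_isHomLift 𝒬.p (𝒬.p.map n) n'
    let c₀ : Fam i i q (liftSieve h𝒜 i q) q (𝟙 (𝒬.p.obj q)) :=
      { ε := fun p _ _ _ m _ => m
        lift := fun p V f _ m hm => by rw [Category.comp_id]; exact hm
        nat := fun p' p k V W f _ g m _ _ _ _ => rfl }
    let c₁ : Fam i i q (liftSieve h𝒜 i q) q' (𝒬.p.map n) :=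
      { ε := fun p _ _ _ m _ => m ≫ n
        lift := fun p V f _ m hm => haveI := IsHomLift.map 𝒬.p n; inferInstance
        nat := fun p' p k V W f _ g m _ _ _ _ => (Category.assoc _ _ _).symm }
    refine (existsUnique_ext h𝒬 h𝒜 hi hst𝒬 i c₀ rfl (𝒬.p.map n) rfl c₁).unique
      ⟨IsHomLift.map 𝒬.p n, fun p V f hf m hm => rfl⟩
      ⟨hb ▸ IsHomLift.map 𝒬.p n', fun p V f hf m hm => ?_⟩
    show m ≫ n' = m ≫ n
    have := IsHomLift.map 𝒬.p n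
    have : 𝒬.p.IsHomLift (𝒬.p.map n) n' := hb ▸ IsHomLift.map 𝒬.p n'
    exact map_injective_of_img h𝒬 hst A (f ≫ 𝒬.p.map n) _ _ inferInstance inferInstance
      (by rw [A.toFunctor.map_comp, A.toFunctor.map_comp, e])

include h𝒬 h𝒜 hi hst hst𝒬 in
/-- A functor between stacks is an equivalence if on the image of `i` it is fully faithful and locally surjective. -/
theorem isEquivOver_of_comp (hA : Gerb.LocSurjObj J (BasedFunctor.comp i A)) : FibCat.IsEquivOver A := by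
  let B := extend (i := BasedFunctor.comp i A) (hst.1) h𝒜 hA hst𝒬 i
  let β : i ≅ BasedFunctor.comp (BasedFunctor.comp i A) B := extendIso (i := BasedFunctor.comp i A) hst.1 h𝒜 hA hst𝒬 i
  refine ⟨B, nonempty_iso_of_comp h𝒬 h𝒜 hi hst𝒬 (A := BasedFunctor.comp A B) (B := BasedFunctor.id 𝒬) β.symm, ?_⟩
  exact nonempty_iso_of_comp (i := BasedFunctor.comp i A) hst.1 h𝒜 hA hst (A := BasedFunctor.comp B A)
    (B := BasedFunctor.id 𝒳) (whiskerRightIso β.symm A)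

end Criteria

end Groth.Agent.AlgStkX.StackExtend
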