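import Mathlib.CategoryTheory.Monoidal.Grp
import Mathlib.CategoryTheory.Limits.Preserves.Shapes.Over
import Groth.Prelude.Def_AlgSt5
import Groth.Prelude.Def_AlgSt6

/-!
# Schemes over `S` as sheaves over the terminal sheaf

The functor `toB S : Over S ⥤ Over (h_S)` is fully faithful and preserves finite products; it takes
group schemes, actions and torsor squares to the ones of `Over (h_S)`.
-/

set_option backward.isDefEq.respectTransparency false
set_option backward.isDefEq.respectTransparency.types false

universe u

open CategoryTheory CategoryTheory.Limits MonoidalCategory CartesianMonoidalCategory MonObj AlgebraicGeometry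
open AlgSp
open scoped CategoryTheory.Obj

namespace Groth.Agent.AlgStkX

variable (S : Scheme.{u})

/-- The terminal sheaf `h_S`. -/
abbrev B₀ : Sp S := (yon S).obj (Over.mk (𝟙 S))

/-- An `S`-scheme as a sheaf over `h_S`. -/
noncomputable def toB : Over S ⥤ Over (B₀ S) :=
  (Over.equivalenceOfIsTerminal (Over.mkIdTerminal (X := S))).inverse ⋙ Over.post (yon S)

instance : (toB S).Full := inferInstanceAs
  ((Over.equivalenceOfIsTerminal (Over.mkIdTerminal (X := S))).inverse ⋙ Over.post (yon S)).Full

instance : (toB S).Faithful := inferInstanceAs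
  ((Over.equivalenceOfIsTerminal (Over.mkIdTerminal (X := S))).inverse ⋙ Over.post (yon S)).Faithful

theorem preservesFiniteLimits_yon : PreservesFiniteLimits (yon S) where
  preservesFiniteLimits _ := inferInstance

instance : PreservesFiniteLimits (toB S) :=
  have := preservesFiniteLimits_yon S

  comp_preservesFiniteLimits (Over.equivalenceOfIsTerminal (Over.mkIdTerminal (X := S))).inverse (Over.post (yon S))

noncomputable instance : (toB S).Monoidal := Functor.Monoidal.ofChosenFiniteProducts _

noncomputable instance : (toB S).Braided := Functor.Braided.ofChosenFiniteProducts _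

variable {S}

theorem toB_obj_left (U : Over S) : ((toB S).obj U).left = (yon S).obj U := rfl

theorem toB_map_left {U V : Over S} (f : U ⟶ V) : ((toB S).map f).left = (yon S).map f := rfl

/-- There is at most one map to the terminal sheaf. -/
theorem hom_B₀_ext {Z : Sp S} (f g : Z ⟶ B₀ S) : f = g :=
  (IsTerminal.isTerminalObj (yon S) _ Over.mkIdTerminal).hom_ext f g

/-- A map of sheaves between objects over `h_S` is a map over `h_S`. -/
def homB {P Q : Over (B₀ S)} (f : P.left ⟶ Q.left) : P ⟶ Q := Over.homMk f (hom_B₀_ext _ _)

section Action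

variable {G X Y : Over S} [GrpObj G]

open Functor.LaxMonoidal Functor.OplaxMonoidal Functor.Monoidal

/-- The image of an action of a group scheme. -/
noncomputable def mapAct (a : AlgGrp.Action G X) : GAction ((toB S).obj G) ((toB S).obj X) where
  act := Functor.LaxMonoidal.μ (toB S) G X ≫ (toB S).map a.act
  one_act := by
    rw [Functor.obj.η_def]
    simp only [MonoidalCategory.comp_whiskerRight, Category.assoc]
    rw [Functor.LaxMonoidal.μ_natural_left_assoc, ← Functor.map_comp, a.one_act, ← Functor.LaxMonoidal.left_unitality]
  mul_act := by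
    rw [Functor.obj.μ_def]
    simp only [MonoidalCategory.comp_whiskerRight, MonoidalCategory.whiskerLeft_comp, Category.assoc]
    rw [Functor.LaxMonoidal.μ_natural_left_assoc, ← Functor.map_comp, a.mul_act, Functor.map_comp, Functor.map_comp,
      Functor.LaxMonoidal.associativity_assoc, Functor.LaxMonoidal.μ_natural_right_assoc]

theorem mapAct_act (a : AlgGrp.Action G X) : (mapAct a).act = Functor.LaxMonoidal.μ (toB S) G X ≫ (toB S).map a.act := rfl

/-- Equivariance is transported by `toB`. -/
theorem toB_eqv_iff (a : AlgGrp.Action G X) (b : AlgGrp.Action G Y) (f : X ⟶ Y) :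
    (mapAct a).act ≫ (toB S).map f = ((toB S).obj G ◁ (toB S).map f) ≫ (mapAct b).act ↔
      a.act ≫ f = (G ◁ f) ≫ b.act := by
  simp only [mapAct_act, Category.assoc]
  rw [Functor.LaxMonoidal.μ_natural_right_assoc, cancel_epi, ← Functor.map_comp, ← Functor.map_comp]
  exact ⟨fun h => (toB S).map_injective h, fun h => congrArg _ h⟩

theorem μ_toB_snd (G X : Over S) :
    Functor.LaxMonoidal.μ (toB S) G X ≫ (toB S).map (snd G X) = snd ((toB S).obj G) ((toB S).obj X) := by
  simp [Functor.Monoidal.μ_snd]

/-- The torsor square of an action, transported by `toB`. -/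
theorem isPullback_mapAct {T : Over S} {a : AlgGrp.Action G X} {π : X ⟶ T}
    (h : IsPullback a.act (snd G X) π π) :
    IsPullback (mapAct a).act (snd ((toB S).obj G) ((toB S).obj X)) ((toB S).map π) ((toB S).map π) := by
  refine (h.map (toB S)).of_iso (Functor.Monoidal.μIso (toB S) G X).symm (Iso.refl _) (Iso.refl _) (Iso.refl _) ?_ ?_ (by simp) (by simp)
  · simp [mapAct_act]
  · rw [Iso.refl_hom, Category.comp_id, Iso.symm_hom, ← μ_toB_snd, ← Category.assoc]
    simp

end Action

end Groth.Agent.AlgStkX
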