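import Groth.Agent.QuotLib.TrivHom
import Groth.Agent.AlgStLib.FppfSite
import Groth.Prelude.Def_ChGrp

/-!
# Calculus of morphisms between trivial torsors; sections along coverings
-/

set_option autoImplicit false
set_option backward.isDefEq.respectTransparency false
set_option backward.isDefEq.respectTransparency.types false

universe u

open CategoryTheory CategoryTheory.Limits MonoidalCategory CartesianMonoidalCategory MonObj GrpObj AlgebraicGeometry

namespace Groth.Agent.AlgStkX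

open Groth.Agent.QuotLib

variable {S : Scheme.{u}} {K : Precoverage Scheme.{u}} [K.HasIsos] {G : Over S} [GrpObj G] {X : Over S}
  {aX : AlgGrp.Action G X}

local notation "K₀" => Scheme.fppfPrecoverage

/-- The group element of a morphism of trivial torsors. -/
noncomputable def gOf {T T' : Over S} {x : T ⟶ X} {x' : T' ⟶ X} (m : triv K G aX x ⟶ triv K G aX x') : T ⟶ G :=
  (sec G T ≫ m.top) ≫ fst G T'

/-- The base morphism of a morphism of trivial torsors. -/
noncomputable def bOf {T T' : Over S} {x : T ⟶ X} {x' : T' ⟶ X} (m : triv K G aX x ⟶ triv K G aX x') : T ⟶ T' :=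
  m.base

theorem sec_top {T T' : Over S} {x : T ⟶ X} {x' : T' ⟶ X} (m : triv K G aX x ⟶ triv K G aX x') :
    sec G T ≫ m.top = lift (gOf m) (bOf m) := by
  apply CartesianMonoidalCategory.hom_ext
  · exact (lift_fst (gOf m) (bOf m)).symm
  · refine Eq.trans ?_ (lift_snd (gOf m) (bOf m)).symm
    show (sec G T ≫ m.top) ≫ (triv K G aX x').π = m.base
    rw [Category.assoc, m.cart.w, triv_π, sec, lift_snd_assoc, Category.id_comp]

theorem lift_gOf_act {T T' : Over S} {x : T ⟶ X} {x' : T' ⟶ X} (m : triv K G aX x ⟶ triv K G aX x') :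
    lift (gOf m) ((bOf m) ≫ x') ≫ aX.act = x := by
  obtain ⟨hx, -⟩ := trivHom_hom m
  rw [sec_top, triv_φ, lift_whiskerLeft_assoc] at hx
  exact hx

/-- The morphism of trivial torsors attached to a group element. -/
noncomputable def mor {T T' : Over S} (x : T ⟶ X) (x' : T' ⟶ X) (g : T ⟶ G) (f : T ⟶ T')
    (h : lift g (f ≫ x') ≫ aX.act = x) : triv K G aX x ⟶ triv K G aX x' :=
  trivHom (triv K G aX x') (lift g f) x (by rw [triv_φ, lift_whiskerLeft_assoc]; exact h)

theorem mor_base {T T' : Over S} (x : T ⟶ X) (x' : T' ⟶ X) (g : T ⟶ G) (f : T ⟶ T')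
    (h : lift g (f ≫ x') ≫ aX.act = x) : bOf (mor (K := K) x x' g f h) = f := lift_snd g f

theorem gOf_mor {T T' : Over S} (x : T ⟶ X) (x' : T' ⟶ X) (g : T ⟶ G) (f : T ⟶ T')
    (h : lift g (f ≫ x') ≫ aX.act = x) : gOf (mor (K := K) x x' g f h) = g := by
  show (sec G T ≫ (trivHom (triv K G aX x') (lift g f) x _).top) ≫ fst G T' = g
  rw [trivHom_sec]
  exact lift_fst g f

theorem mor_ext {T T' : Over S} {x : T ⟶ X} {x' : T' ⟶ X} {m m' : triv K G aX x ⟶ triv K G aX x'}
    (hb : bOf m = bOf m') (hg : gOf m = gOf m') : m = m' :=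
  hom_ext_sec (by rw [sec_top, sec_top, hb, hg])

theorem gOf_id {T : Over S} (x : T ⟶ X) : gOf (𝟙 (triv K G aX x)) = 1 := by
  show (sec G T ≫ 𝟙 (G ⊗ T)) ≫ fst G T = 1
  rw [Category.comp_id, sec, lift_fst]

theorem gComp_aux {T T' T'' : Over S} (g : T ⟶ G) (b : T ⟶ T') (g' : T' ⟶ G) (f' : T' ⟶ T'') :
    (lift g b ≫ lift (fst G T' * (snd G T' ≫ g')) (snd G T' ≫ f')) ≫ fst G T'' = g * (b ≫ g') := by
  rw [Category.assoc, lift_fst, MonObj.comp_mul, lift_fst, lift_snd_assoc]

theorem gOf_comp {T T' T'' : Over S} {x : T ⟶ X} {x' : T' ⟶ X} {x'' : T'' ⟶ X}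
    (m : triv K G aX x ⟶ triv K G aX x') (m' : triv K G aX x' ⟶ triv K G aX x'') :
    gOf (m ≫ m') = gOf m * ((bOf m) ≫ gOf m') := by
  have e : m'.top = lift (fst G T' * (snd G T' ≫ gOf m')) (snd G T' ≫ bOf m') :=
    (top_eq m').trans ((congrArg (fun t => (G ◁ t) ≫ (triv K G aX x'').act.act) (sec_top m')).trans
      (whisker_lift_leftMul (gOf m') (bOf m')))
  refine Eq.trans ?_ (gComp_aux (gOf m) (bOf m) (gOf m') (bOf m'))
  show (sec G T ≫ m.top ≫ m'.top) ≫ fst G T'' = _
  refine congrArg (· ≫ fst G T'') ?_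
  exact (Category.assoc _ _ _).symm.trans (congrArg₂ (· ≫ ·) (sec_top m) e)

omit [GrpObj G] in
/-- A morphism with sections along a covering has local lifts of every point. -/
theorem exists_sieve_lift {P B : Over S} (π : P ⟶ B)
    (h : NonAbH1.IsLocallyTrivialFor K₀ (Over.mk π.left : Over B.left)) {T : Over S} (t : T ⟶ B) :
    ∃ R ∈ QuotSh.J K₀ S T, ∀ ⦃V : Over S⦄ (f : V ⟶ T), R.arrows f → ∃ b : V ⟶ P, b ≫ π = f ≫ t := by
  obtain ⟨R, hR, hsec⟩ := h
  refine ⟨((Sieve.overEquiv B).symm (Sieve.generate R)).pullback t, (QuotSh.J K₀ S).pullback_stable _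
    (GrothendieckTopology.overEquiv_symm_mem_over _ B _ (Precoverage.generate_mem_toGrothendieck hR)), fun V f hf => ?_⟩
  have hf' : (Sieve.generate R).arrows (f ≫ t).left := (Sieve.overEquiv_symm_iff _ _).1 hf
  obtain ⟨Y, k, r, hr, hfac⟩ := hf'
  obtain ⟨s, hs⟩ := hsec r hr
  have hs' : s ≫ π.left = r := hs
  refine ⟨Over.homMk (k ≫ s) ?_, Over.OverMorphism.ext ?_⟩
  · show (k ≫ s) ≫ P.hom = V.hom
    rw [← Over.w π, Category.assoc, ← Category.assoc s, hs', ← Category.assoc, hfac]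
    exact Over.w (f ≫ t)
  · show (k ≫ s) ≫ π.left = (f ≫ t).left
    rw [Category.assoc, hs', hfac]

end Groth.Agent.AlgStkX
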