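import Groth.Agent.AlgStLib.SmoothBootstrap
import Groth.Agent.AlgStLib.DiagLFT
import Groth.Agent.GrpSchLib.UnramifiedFibre
import Groth.Agent.EtFound.TopInv
import Groth.Prelude.Def_StGerb

/-!
# Algebraic stacks with trivial stabilisers at field points
-/

set_option autoImplicit false
set_option backward.isDefEq.respectTransparency false
set_option backward.isDefEq.respectTransparency.types false

universe u

open CategoryTheory CategoryTheory.Functor CategoryTheory.Limits AlgebraicGeometry Opposite AlgSp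

namespace Groth.Agent.AlgStkX.TrivStab

open Groth.Agent.FibBase Groth.Agent.AlgStLib Groth.Agent.AlgSpLib

variable {S : Scheme.{u}} {𝒳 : AlgSt.Cat S}

/-- An etale algebraic stack fibred in setoids is an algebraic space. -/
theorem repByAlgSp_of_isFibSetoid_etale (h : AlgSt.IsAlgStack Scheme.etalePrecoverage 𝒳)
    (hs : FibCat.IsFibSetoid 𝒳.p) : AlgSt.RepByAlgSp 𝒳 := by
  let Jet := QuotSh.J Scheme.etalePrecoverage S
  let P := clsPsh 𝒳 hs.1
  have he : FibCat.IsEquivOver (toCls 𝒳 hs.1) := toCls_isEquivOver 𝒳 hs.1 hs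
  have hP : Presheaf.IsSheaf Jet P := (isSheaf_iff_isSheaf_of_type _ _).2
    ((StkLib.isStack_ofPsh_iff P Jet).1 ((StkLib.isStack_iff_of_isEquivOver (J := Jet) he).1 h.isStack))
  obtain ⟨U, x, hxs, hxj⟩ : AlgSt.HasAtlas (LocP @Smooth) (Stk.ofPsh P) :=
    (hasAtlas_iff_of_isEquivOver he _).1 h.atlas
  let Φ : Stk.ofPsh ((yon S).obj U).obj ⥤ᵇ Stk.ofPsh P := BasedFunctor.comp (AlgSt.toOverCat U) x
  let p : ((yon S).obj U).obj ⟶ P := pshMap Φ
  have i : BasedFunctor.comp (AlgSt.toOverCat U) x ≅ Stk.ofPshMap p := isoOfPshMap Φ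
  have hp : RepBySpWith (IsSurjectiveMor ⊓ LocP @Smooth) p := fun T ξ F' fst snd sq => by
    obtain ⟨h₁, hA, hl⟩ := repBySpWith_of_repByAlgSpWith x (AlgSt.toOverCat U) stableBC_locP
      (isEquivOver_toOverCat U) hxs i ξ fst snd sq
    obtain ⟨h₂, hA₂, hj⟩ := repBySpWith_of_repByAlgSpWith x (AlgSt.toOverCat U) stableBC_isSurjectiveMor
      (isEquivOver_toOverCat U) hxj i ξ fst snd sq
    exact ⟨h₁, hA, hj, hl⟩
  obtain ⟨h', hA⟩ := Groth.Agent.AlgSpDec.isAlgSpaceP_of_smooth_sheaf_space hP (IsAlgSpace.yon_obj U) hp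
  obtain ⟨g, hg, -⟩ := isEquivOver_inv he
  exact ⟨⟨⟨P, h'⟩, hA⟩, g, hg⟩

/-- A space over a scheme with a section and at most one point over every scheme over a field is the scheme. -/
theorem comp_section_eq_id {F : Sp S} (hF : IsAlgSpace F) {U : Over S} (q : F ⟶ (yon S).obj U)
    (hq : LocP @LocallyOfFiniteType q) (s : (yon S).obj U ⟶ F) (hs : s ≫ q = 𝟙 _)
    (hpts : ∀ (K : Type u) [Field K] (sK : Spec (CommRingCat.of K) ⟶ S) (ι : Over.mk sK ⟶ U) (W : Over S)
      (g : W ⟶ Over.mk sK) (f₁ f₂ : (yon S).obj W ⟶ F), f₁ ≫ q = (yon S).map (g ≫ ι) →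
        f₂ ≫ q = (yon S).map (g ≫ ι) → f₁ = f₂) :
    q ≫ s = 𝟙 F := by
  obtain ⟨V, c, hc, hcs⟩ := hF.atlas
  obtain ⟨h, hh⟩ := (yon S).map_surjective (c ≫ q)
  have : LocallyOfFiniteType h.left :=
    hq c (𝟙 _) h hc (repWith_id _ U) (by rw [Category.comp_id, hh])
  have : FormallyUnramified h.left := by
    refine GrpSchLib.formallyUnramified_of_fibres h.left fun t => ?_
    let sK := U.left.fromSpecResidueField t ≫ U.hom
    let ι : Over.mk sK ⟶ U := Over.homMk (U.left.fromSpecResidueField t) rfl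
    let Vt := pullback h ι
    let v : Vt ⟶ V := pullback.fst h ι
    let g : Vt ⟶ Over.mk sK := pullback.snd h ι
    have hvg : (yon S).map v ≫ c = (yon S).map g ≫ (yon S).map ι ≫ s := by
      refine hpts _ sK ι Vt g _ _ ?_ ?_
      · rw [Category.assoc, ← hh, ← Functor.map_comp, pullback.condition]
      · rw [Category.assoc, Category.assoc, hs, Category.comp_id, Functor.map_comp]
    have sq₁ := (IsPullback.of_hasPullback h ι).map (yon S)
    have sq₂ : IsPullback ((yon S).map v) ((yon S).map g) c ((yon S).map ι ≫ s) := by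
      refine IsPullback.of_isLimit' ⟨hvg⟩ (PullbackCone.IsLimit.mk _ (fun z => sq₁.lift z.fst z.snd ?_)
        (fun z => sq₁.lift_fst _ _ _) (fun z => sq₁.lift_snd _ _ _) fun z m h₁ h₂ => sq₁.hom_ext ?_ ?_)
      · rw [hh, ← Category.assoc, z.condition, Category.assoc, Category.assoc, hs, Category.comp_id]
      · rw [sq₁.lift_fst]; exact h₁
      · rw [sq₁.lift_snd]; exact h₂
    have he : Etale g.left := hc.property _ _ _ sq₂
    have e := (IsPullback.of_hasPullback h ι).map (Over.forget S)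
    have : FormallyUnramified g.left := inferInstance
    let φ := (IsPullback.of_hasPullback h.left (U.left.fromSpecResidueField t)).isoIsPullback _ _ e
    have hφ : φ.hom ≫ g.left = h.left.fiberToSpecResidueField t :=
      IsPullback.isoIsPullback_hom_snd _ _ _ _
    rw [← hφ]
    exact MorphismProperty.comp_mem @FormallyUnramified _ _ inferInstance ‹_›
  let R := hc.rep.pullback c
  let r₁ : R ⟶ V := hc.rep.fst' c
  let r₂ : R ⟶ V := hc.rep.snd c
  have sq : IsPullback ((yon S).map r₁) ((yon S).map r₂) c c := hc.rep.isPullback' c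
  have he₁ : Etale r₁.left := hc.property _ _ _ sq.flip
  have hr : r₁ ≫ h = r₂ ≫ h := (yon S).map_injective (by
    rw [Functor.map_comp, Functor.map_comp, hh, reassoc_of% sq.w])
  let j : R ⟶ pullback h h := pullback.lift r₁ r₂ hr
  let p₁ := pullback.fst h h
  let p₂ := pullback.snd h h
  have hj₁ : j ≫ p₁ = r₁ := pullback.lift_fst _ _ _
  have hj₂ : j ≫ p₂ = r₂ := pullback.lift_snd _ _ _
  have sqh := (IsPullback.of_hasPullback h h).map (Over.forget S)
  have : LocallyOfFiniteType p₁.left := MorphismProperty.of_isPullback (P := @LocallyOfFiniteType) sqh.flip ‹_›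
  have : FormallyUnramified p₁.left := MorphismProperty.of_isPullback (P := @FormallyUnramified) sqh.flip ‹_›
  have : Etale (j.left ≫ p₁.left) := by rw [← Over.comp_left, hj₁]; exact he₁
  have : Etale j.left := Etale.of_comp j.left p₁.left
  have : Mono j := ⟨fun a b hab => (yon S).map_injective (sq.hom_ext
    (by rw [← Functor.map_comp, ← Functor.map_comp, ← hj₁, reassoc_of% hab])
    (by rw [← Functor.map_comp, ← Functor.map_comp, ← hj₂, reassoc_of% hab]))⟩
  have : Mono j.left := (Over.forget S).map_mono j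
  have : IsOpenImmersion j.left := EtFound.isOpenImmersion_of_etale_univInj j.left
  have : Surjective j.left := ⟨fun z => by
    let P := pullback h h
    let K := P.left.residueField z
    let W : Over S := Over.mk (P.left.fromSpecResidueField z ≫ P.hom)
    let ω : W ⟶ P := Over.homMk (P.left.fromSpecResidueField z) rfl
    have hk : (yon S).map (ω ≫ p₁) ≫ c = (yon S).map (ω ≫ p₂) ≫ c := by
      refine hpts K _ (ω ≫ p₁ ≫ h) W (𝟙 W) _ _ ?_ ?_
      · rw [Category.assoc, ← hh, ← Functor.map_comp]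
        exact congrArg _ ((Category.assoc _ _ _).trans (Category.id_comp _).symm)
      · rw [Category.assoc, ← hh, ← Functor.map_comp, pullback.condition]
        exact congrArg _ ((Category.assoc _ _ _).trans (Category.id_comp _).symm)
    obtain ⟨l, hl⟩ := (yon S).map_surjective (sq.lift _ _ hk)
    have hlj : l ≫ j = ω := pullback.hom_ext
      ((yon S).map_injective (by
        rw [Category.assoc, hj₁, Functor.map_comp, hl, sq.lift_fst]))
      ((yon S).map_injective (by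
        rw [Category.assoc, hj₂, Functor.map_comp, hl, sq.lift_snd]))
    refine ⟨l.left (IsLocalRing.closedPoint K), ?_⟩
    rw [← Scheme.Hom.comp_apply, ← Over.comp_left, hlj]
    exact Scheme.fromSpecResidueField_apply _ _⟩
  have : IsIso j.left := (isIso_iff_isOpenImmersion_and_surjective _).2 ⟨inferInstance, inferInstance⟩
  have : IsIso ((Over.forget S).map j) := ‹IsIso j.left›
  have : IsIso j := CategoryTheory.Functor.ReflectsIsomorphisms.reflects (Over.forget S) j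
  have hpp : (yon S).map p₁ ≫ c = (yon S).map p₂ ≫ c := by
    have : p₁ = inv j ≫ r₁ ∧ p₂ = inv j ≫ r₂ := ⟨by rw [← hj₁]; simp, by rw [← hj₂]; simp⟩
    rw [this.1, this.2, Functor.map_comp, Functor.map_comp, Category.assoc, Category.assoc, sq.w]
  let P' := hc.rep.pullback s
  let w : P' ⟶ U := hc.rep.snd s
  let v : P' ⟶ V := hc.rep.fst' s
  have sqs : IsPullback ((yon S).map v) ((yon S).map w) c s := hc.rep.isPullback' s
  have : Etale w.left := hc.property _ _ _ sqs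
  have : Surjective w.left := hcs.property _ _ _ sqs
  have hvw : v ≫ h = w := (yon S).map_injective (by
    rw [Functor.map_comp, hh, reassoc_of% sqs.w, hs, Category.comp_id])
  let Q := pullback w h
  let a : Q ⟶ P' := pullback.fst w h
  let b : Q ⟶ V := pullback.snd w h
  have sqw := (IsPullback.of_hasPullback w h).map (Over.forget S)
  have : Etale b.left := MorphismProperty.of_isPullback (P := @Etale) sqw ‹_›
  have : Surjective b.left := MorphismProperty.of_isPullback (P := @Surjective) sqw ‹_›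
  have : Epi ((yon S).map b) := Groth.Agent.AlgSpLib.epi_of_etale_surjective
    ((repWith_yon_map_iff (P := @Etale) _).2 ‹_›) ((repWith_yon_map_iff (P := @Surjective) _).2 ‹_›)
  have hc' : c = (yon S).map h ≫ s := by
    rw [← cancel_epi ((yon S).map b)]
    have hb : a ≫ w = b ≫ h := pullback.condition
    let k : Q ⟶ pullback h h := pullback.lift (a ≫ v) b (by rw [Category.assoc, hvw, hb])
    have hk := congrArg ((yon S).map k ≫ ·) hpp
    rw [← Functor.map_comp_assoc, ← Functor.map_comp_assoc, pullback.lift_fst, pullback.lift_snd,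
      Functor.map_comp, Category.assoc, sqs.w] at hk
    rw [← hk, ← Functor.map_comp_assoc, hb, Functor.map_comp, Category.assoc]
  have : Epi c := Groth.Agent.AlgSpLib.epi_of_etale_surjective hc hcs
  rw [← cancel_epi c, ← Category.assoc, ← hh, ← hc', Category.comp_id]

/-- A vertical endomorphism of an object with trivial automorphism group is trivial. -/
theorem eq_id_of_subsingleton (h𝒳 : FibCat.IsFibGrpd 𝒳.p) {x : 𝒳.obj} (h : Subsingleton (Gerb.AutO x))
    {φ : x ⟶ x} (hφ : 𝒳.p.map φ = 𝟙 (𝒳.p.obj x)) : φ = 𝟙 x := by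
  let m : Gerb.fib x ⟶ Gerb.fib x := ⟨φ, isHomLift_id_self hφ⟩
  have := fiber_isIso m
  have e := congrArg (fun a : Gerb.AutO x => a.hom.1) (@Subsingleton.elim _ h (asIso m) (Iso.refl _))
  exact e

section Points

variable {𝒴 : AlgSt.Cat S} {g : 𝒳 ⥤ᵇ 𝒴} {U : Over S} (x : FibCat.overCat U ⥤ᵇ 𝒳) {F : Sp S}
  (e : AlgSt.ofSp F ⥤ᵇ FibCat.fp (BasedFunctor.comp x (FibCat.diag g)) (FibCat.diag g))

local notation "q₀" => AlgSt.spMapOfOver (BasedFunctor.comp e (FibCat.fpFst _ _))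

/-- Two sections with vertically isomorphic images are equal. -/
theorem sec_eq_of_map (he : FibCat.IsEquivOver e) {W : Over S} {s₁ s₂ : F.obj.obj (op W)}
    (m : e.obj (⟨W, s₁⟩ : (AlgSt.ofSp F).obj) ⟶ e.obj (⟨W, s₂⟩ : (AlgSt.ofSp F).obj))
    (hm : ∃ h, (FibCat.fp (BasedFunctor.comp x (FibCat.diag g)) (FibCat.diag g)).p.map m
      = eqToHom h) : s₁ = s₂ := by
  have := full_of_isEquivOver he
  obtain ⟨n, rfl⟩ := e.toFunctor.map_surjective m
  obtain ⟨h, hm⟩ := hm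
  have hw := Functor.congr_hom e.w n
  rw [Functor.comp_map, hm] at hw
  have hn : n.hom = 𝟙 W := by
    have h2 : eqToHom (e.w_obj (⟨W, s₁⟩ : (AlgSt.ofSp F).obj)).symm ≫ eqToHom h ≫ eqToHom (e.w_obj (⟨W, s₂⟩ : (AlgSt.ofSp F).obj)) = n.hom := by
      rw [hw]
      simp
    rw [← h2]
    simp
  have := n.map_sec
  rw [hn] at this
  simpa using this.symm

theorem comp_q_eq_iff {W : Over S} (f : (yon S).obj W ⟶ F) (t : W ⟶ U) :
    f ≫ q₀ = (yon S).map t ↔
      eqToHom (e.w_obj (eltOfMap f)).symm ≫ (e.obj (eltOfMap f)).obj.fst.hom = t := by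
  rw [← (J S).uliftYonedaEquiv.injective.eq_iff, GrothendieckTopology.uliftYonedaEquiv_comp,
    GrothendieckTopology.uliftYonedaEquiv_uliftYoneda_map]
  exact ⟨fun h => congrArg ULift.down h, fun h => congrArg ULift.up h⟩

/-- Two points over a place with no vertical automorphisms agree. -/
theorem eq_of_points_fp (he : FibCat.IsEquivOver e) {W : Over S} (f₁ f₂ : (yon S).obj W ⟶ F) (t : W ⟶ U)
    (h₁ : f₁ ≫ q₀ = (yon S).map t) (h₂ : f₂ ≫ q₀ = (yon S).map t)
    (H : ∀ ψ : x.obj (Over.mk t) ⟶ x.obj (Over.mk t), 𝒳.p.map ψ = 𝟙 _ → g.map ψ = 𝟙 _ → ψ = 𝟙 _) : f₁ = f₂ := by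
  rw [comp_q_eq_iff] at h₁ h₂
  refine (J S).uliftYonedaEquiv.injective ?_
  have hl : ∀ f : (yon S).obj W ⟶ F, (e.obj (eltOfMap f)).obj.fst.left = W := fun f => e.w_obj (eltOfMap f)
  let i : (e.obj (eltOfMap f₁)).obj.fst ≅ (e.obj (eltOfMap f₂)).obj.fst :=
    Over.isoMk (eqToIso ((hl f₁).trans (hl f₂).symm)) (by
      rw [eqToIso.hom, ← cancel_epi (eqToHom (hl f₁).symm), eqToHom_trans_assoc]
      exact h₂.trans h₁.symm)
  have hAB : ∀ (f : (yon S).obj W ⟶ F),
      eqToHom (hl f).symm ≫ (e.obj (eltOfMap f)).obj.fst.hom = t →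
      (e.obj (eltOfMap f)).obj.iso.hom.hom.fst = (e.obj (eltOfMap f)).obj.iso.hom.hom.snd := by
    intro f hf
    let η := e.obj (eltOfMap f)
    have hp := η.property
    let t₀ := g
    have hA : 𝒳.p.IsHomLift (𝟙 η.obj.fst.left) η.obj.iso.hom.hom.fst :=
      fp_isHomLift_fst (F := t₀) (G := t₀) _ η.obj.iso.hom (h := hp)
    have hB : 𝒳.p.IsHomLift (𝟙 η.obj.fst.left) η.obj.iso.hom.hom.snd :=
      fp_isHomLift_snd' (F := t₀) (G := t₀) _ η.obj.iso.hom (h := hp)
    let ψ : x.obj η.obj.fst ⟶ x.obj η.obj.fst := η.obj.iso.hom.hom.snd ≫ η.obj.iso.inv.hom.fst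
    have hAi : η.obj.iso.hom.hom.fst ≫ η.obj.iso.inv.hom.fst = 𝟙 _ :=
      congrArg (fun s => s.hom.fst) η.obj.iso.hom_inv_id
    have hψ : 𝒳.p.map ψ = 𝟙 _ := by
      have hAi' := congrArg 𝒳.p.map hAi
      rw [Functor.map_comp, map_eq_of_isHomLift_id hA, CategoryTheory.Functor.map_id] at hAi'
      show 𝒳.p.map (η.obj.iso.hom.hom.snd ≫ η.obj.iso.inv.hom.fst) = 𝟙 _
      rw [Functor.map_comp, map_eq_of_isHomLift_id hB]
      exact hAi'
    let k : η.obj.fst ≅ Over.mk t := Over.isoMk (eqToIso (hl f)) (by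
      show eqToHom (hl f) ≫ t = η.obj.fst.hom
      rw [← hf, eqToHom_trans_assoc, eqToHom_refl, Category.id_comp])
    have hgψ : g.map ψ = 𝟙 _ := by
      have hwA : g.map η.obj.iso.hom.hom.fst = g.map η.obj.iso.hom.hom.snd :=
        (Category.comp_id _).symm.trans (η.obj.iso.hom.hom.w.trans (Category.id_comp _))
      show g.map (η.obj.iso.hom.hom.snd ≫ η.obj.iso.inv.hom.fst) = 𝟙 _
      refine (g.toFunctor.map_comp _ _).trans ?_
      rw [← hwA]
      exact (g.toFunctor.map_comp _ _).symm.trans ((congrArg g.map hAi).trans (g.toFunctor.map_id _))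
    have hk := H (x.map k.inv ≫ ψ ≫ x.map k.hom) ?_ (by
      rw [g.toFunctor.map_comp, g.toFunctor.map_comp, hgψ, Category.id_comp, ← g.toFunctor.map_comp,
        ← x.toFunctor.map_comp, k.inv_hom_id, x.toFunctor.map_id, g.toFunctor.map_id])
    rotate_left
    · (
      rw [Functor.map_comp, Functor.map_comp, hψ, Category.id_comp, ← Functor.map_comp, ← x.toFunctor.map_comp,
        k.inv_hom_id, x.toFunctor.map_id, CategoryTheory.Functor.map_id])
    have hψ1 : ψ = 𝟙 _ := by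
      have e1 := congrArg (fun m => x.map k.hom ≫ m ≫ x.map k.inv) hk
      simp only [Category.assoc, ← x.toFunctor.map_comp, ← x.toFunctor.map_comp_assoc, Iso.hom_inv_id,
        x.toFunctor.map_id, Category.id_comp, Category.comp_id] at e1
      exact e1
    calc η.obj.iso.hom.hom.fst = ψ ≫ η.obj.iso.hom.hom.fst := by rw [hψ1, Category.id_comp]
      _ = η.obj.iso.hom.hom.snd := by
        have hiA : η.obj.iso.inv.hom.fst ≫ η.obj.iso.hom.hom.fst = 𝟙 _ :=
          congrArg (fun s => s.hom.fst) η.obj.iso.inv_hom_id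
        exact (Category.assoc _ _ _).trans ((congrArg (_ ≫ ·) hiA).trans (Category.comp_id _))
  let η₁ := e.obj (eltOfMap f₁)
  let η₂ := e.obj (eltOfMap f₂)
  let c : η₁.obj.snd ⟶ η₂.obj.snd := η₁.obj.iso.inv.hom.fst ≫ x.map i.hom ≫ η₂.obj.iso.hom.hom.fst
  have hc : η₁.obj.iso.hom.hom.fst ≫ c = x.map i.hom ≫ η₂.obj.iso.hom.hom.fst := by
    have hAi : η₁.obj.iso.hom.hom.fst ≫ η₁.obj.iso.inv.hom.fst = 𝟙 _ :=
      congrArg (fun s => s.hom.fst) η₁.obj.iso.hom_inv_id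
    exact (Category.assoc _ _ _).symm.trans ((congrArg (· ≫ _) hAi).trans (Category.id_comp _))
  let m : η₁ ⟶ η₂ := ObjectProperty.homMk ⟨i.hom, c, by
    refine ObjectProperty.hom_ext _ (CategoricalPullback.hom_ext ?_ ?_)
    · exact hc.symm
    · show x.map i.hom ≫ η₂.obj.iso.hom.hom.snd = η₁.obj.iso.hom.hom.snd ≫ c
      rw [← hAB f₁ h₁, ← hAB f₂ h₂]
      exact hc.symm⟩
  exact sec_eq_of_map x e he m ⟨(hl f₁).trans (hl f₂).symm, rfl⟩

theorem exists_point (he : FibCat.IsEquivOver e) (η : (FibCat.fp (BasedFunctor.comp x (FibCat.diag g))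
      (FibCat.diag g)).obj) (hη : η.obj.fst = Over.mk (𝟙 U)) :
    ∃ (f : (yon S).obj U ⟶ F) (m : e.obj (eltOfMap f) ⟶ η), f ≫ q₀ = (yon S).map (𝟙 U) ∧
      ∃ h, (FibCat.fp (BasedFunctor.comp x (FibCat.diag g)) (FibCat.diag g)).p.map m
        = eqToHom h := by
  obtain ⟨gi, -, ⟨ee⟩⟩ := he
  have hb : (gi.obj η).base = U := (gi.w_obj η).trans (congrArg Comma.left hη)
  obtain ⟨T, sec, hT⟩ : ∃ (T : Over S) (sec : F.obj.obj (op T)), gi.obj η = ⟨T, sec⟩ := ⟨_, _, rfl⟩
  rw [hT] at hb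
  change T = U at hb
  subst hb
  have hsec : eltOfMap ((J S).uliftYonedaEquiv.symm sec) = gi.obj η := by
    rw [hT]
    show (⟨_, _⟩ : (AlgSt.ofSp F).obj) = _
    rw [Equiv.apply_symm_apply]
  let m : e.obj (eltOfMap ((J S).uliftYonedaEquiv.symm sec)) ⟶ η := eqToHom (congrArg e.obj hsec) ≫ (isoApp ee η).hom
  have hm := isoApp_lift ee (a := η) rfl
  have hm2 := map_eq_of_isHomLift_id hm
  have hm' : ∃ h, (FibCat.fp (BasedFunctor.comp x (FibCat.diag g))
      (FibCat.diag g)).p.map m = eqToHom h :=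
    ⟨_, by rw [Functor.map_comp, eqToHom_map, hm2, eqToHom_trans]⟩
  refine ⟨_, m, (comp_q_eq_iff x e _ _).2 ?_, hm'⟩
  obtain ⟨h, hm''⟩ := hm'
  have hfst : m.hom.fst.left = eqToHom h := hm''
  have hw := Over.w m.hom.fst
  rw [hfst] at hw
  rw [← hw, eqToHom_trans_assoc]
  obtain ⟨⟨ηf, ηs, ηi⟩, ηp⟩ := η
  change ηf = _ at hη
  subst hη
  simp

/-- If the space of isomorphisms is the base, vertical endomorphisms are trivial. -/
theorem eq_id_of_mono (he : FibCat.IsEquivOver e)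
    (hmono : ∀ f₁ f₂ : (yon S).obj U ⟶ F, f₁ ≫ q₀ = f₂ ≫ q₀ → f₁ = f₂)
    (χ : x.obj (Over.mk (𝟙 U)) ≅ x.obj (Over.mk (𝟙 U))) (hχ : 𝒳.p.map χ.hom = 𝟙 _)
    (hχg : g.map χ.hom = 𝟙 _) : χ.hom = 𝟙 _ := by
  let o : Over U := Over.mk (𝟙 U)
  let t₀ := g
  have hχ' : 𝒳.p.IsHomLift (𝟙 U) χ.hom := isHomLift_id_congr (x.w_obj o) (isHomLift_id_self hχ)
  let η : (FibCat.fp (BasedFunctor.comp x (FibCat.diag t₀)) (FibCat.diag t₀)).obj :=
    ⟨⟨o, x.obj o, Iso.refl _⟩, IsHomLift.id (((BasedFunctor.comp x (FibCat.diag t₀))).w_obj o)⟩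
  let D : (FibCat.fp t₀ t₀).obj := (FibCat.diag t₀).obj (x.obj o)
  let j : D ≅ D := fpIsoMk χ (Iso.refl _) (by
    show g.map χ.hom ≫ 𝟙 _ = 𝟙 _ ≫ g.map (𝟙 _)
    rw [hχg, g.toFunctor.map_id])
  let η₂ : (FibCat.fp (BasedFunctor.comp x (FibCat.diag t₀)) (FibCat.diag t₀)).obj :=
    ⟨⟨o, x.obj o, j⟩, fp_isHomLift (F := t₀) (G := t₀) (𝟙 U) j.hom (h := hχ')⟩
  obtain ⟨f₁, m₁, hq₁, ⟨p₁, hm₁⟩⟩ := exists_point x e he η rfl
  obtain ⟨f₂, m₂, hq₂, ⟨p₂, hm₂⟩⟩ := exists_point x e he η₂ rfl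
  obtain rfl := hmono f₁ f₂ (hq₁.trans hq₂.symm)
  have : IsIso m₁.hom.fst := by
    have : IsIso m₁.hom.fst.left := by
      rw [show m₁.hom.fst.left = eqToHom p₁ from hm₁]; infer_instance
    have : IsIso ((Over.forget U).map m₁.hom.fst) := ‹IsIso m₁.hom.fst.left›
    exact CategoryTheory.Functor.ReflectsIsomorphisms.reflects (Over.forget U) m₁.hom.fst
  have hff : m₁.hom.fst = m₂.hom.fst := Over.OverMorphism.ext ((show m₁.hom.fst.left = eqToHom p₁ from hm₁).trans
    (show m₂.hom.fst.left = eqToHom p₂ from hm₂).symm)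
  have e₁f : x.map m₁.hom.fst ≫ 𝟙 _ = (e.obj (eltOfMap f₁)).obj.iso.hom.hom.fst ≫ m₁.hom.snd :=
    congrArg (fun s => s.hom.fst) m₁.hom.w
  have e₁s : x.map m₁.hom.fst ≫ 𝟙 _ = (e.obj (eltOfMap f₁)).obj.iso.hom.hom.snd ≫ m₁.hom.snd :=
    congrArg (fun s => s.hom.snd) m₁.hom.w
  have e₂f : x.map m₂.hom.fst ≫ χ.hom = (e.obj (eltOfMap f₁)).obj.iso.hom.hom.fst ≫ m₂.hom.snd :=
    congrArg (fun s => s.hom.fst) m₂.hom.w
  have e₂s : x.map m₂.hom.fst ≫ 𝟙 _ = (e.obj (eltOfMap f₁)).obj.iso.hom.hom.snd ≫ m₂.hom.snd :=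
    congrArg (fun s => s.hom.snd) m₂.hom.w
  have hAB : (e.obj (eltOfMap f₁)).obj.iso.hom.hom.fst = (e.obj (eltOfMap f₁)).obj.iso.hom.hom.snd := by
    have : IsIso (x.map m₁.hom.fst) := inferInstanceAs (IsIso (x.toFunctor.map m₁.hom.fst))
    rw [Category.comp_id] at e₁f e₁s
    have hinv : m₁.hom.snd ≫ inv (x.map m₁.hom.fst) ≫ (e.obj (eltOfMap f₁)).obj.iso.hom.hom.fst = 𝟙 _ := by
      have hiA : (e.obj (eltOfMap f₁)).obj.iso.inv.hom.fst ≫ (e.obj (eltOfMap f₁)).obj.iso.hom.hom.fst = 𝟙 _ :=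
        congrArg (fun s => s.hom.fst) (e.obj (eltOfMap f₁)).obj.iso.inv_hom_id
      have hm : m₁.hom.snd = (e.obj (eltOfMap f₁)).obj.iso.inv.hom.fst ≫ x.map m₁.hom.fst := by
        rw [e₁f, ← Category.assoc]
        exact ((congrArg (· ≫ m₁.hom.snd) hiA).trans (Category.id_comp _)).symm
      rw [hm, Category.assoc, IsIso.hom_inv_id_assoc]
      exact hiA
    calc (e.obj (eltOfMap f₁)).obj.iso.hom.hom.fst
        = (e.obj (eltOfMap f₁)).obj.iso.hom.hom.snd ≫ m₁.hom.snd ≫ inv (x.map m₁.hom.fst) ≫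
            (e.obj (eltOfMap f₁)).obj.iso.hom.hom.fst := by
          rw [← Category.assoc _ m₁.hom.snd, ← e₁s, IsIso.hom_inv_id_assoc]
      _ = _ := (congrArg (_ ≫ ·) hinv).trans (Category.comp_id _)
  rw [Category.comp_id] at e₂s
  rw [hAB, ← e₂s] at e₂f
  have : IsIso (x.map m₂.hom.fst) := hff ▸ inferInstanceAs (IsIso (x.toFunctor.map m₁.hom.fst))
  exact (cancel_epi (x.map m₂.hom.fst)).1 (e₂f.trans (Category.comp_id _).symm)

end Points

/-- An algebraic stack with trivial stabilisers at field points is fibred in setoids. -/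
theorem faithful_of_trivial (h : AlgSt.IsAlgStack Scheme.etalePrecoverage 𝒳)
    (H : ∀ (k : Type u) [Field k] (sk : Spec (CommRingCat.of k) ⟶ S)
        (x : FibCat.overCat (Over.mk sk) ⥤ᵇ 𝒳) (T : Over (Over.mk sk)),
        Subsingleton (Gerb.AutO (x.obj T))) : 𝒳.p.Faithful := by
  let t := FibCat.toSelf 𝒳
  have hfg := h.isStack.1
  refine (faithful_iff_trivial_kernel hfg isFibGrpd_selfOver t).2 fun ξ φ hφ _ => ?_
  let U := 𝒳.p.obj ξ
  have := isFibered_of_isFibGrpd hfg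
  let x := ofObj (𝒳 := 𝒳) (U := U) ⟨ξ, rfl⟩
  obtain ⟨i₀⟩ := ofObj_iso (𝒳 := 𝒳) (U := U) ⟨ξ, rfl⟩
  let j := ofFiberIso i₀
  let m : Gerb.fib ξ ⟶ Gerb.fib ξ := ⟨φ, isHomLift_id_self hφ⟩
  have := fiber_isIso m
  let φi : ξ ≅ ξ := ofFiberIso (asIso m)
  let y : FibCat.overCat U ⥤ᵇ FibCat.fp t t := BasedFunctor.comp x (FibCat.diag t)
  obtain ⟨F, e, he, hlft⟩ := repByAlgSpWith_lft_diag_toSelf h.diag h.atlas U y
  let q := AlgSt.spMapOfOver (BasedFunctor.comp e (FibCat.fpFst y (FibCat.diag t)))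
  obtain ⟨s, -, hs, -⟩ := exists_point x e he
    ⟨⟨Over.mk (𝟙 U), x.obj (Over.mk (𝟙 U)), Iso.refl _⟩, IsHomLift.id ((BasedFunctor.comp x (FibCat.diag t)).w_obj (Over.mk (𝟙 U)))⟩ rfl
  rw [CategoryTheory.Functor.map_id] at hs
  have hpts : ∀ (K : Type u) [Field K] (sK : Spec (CommRingCat.of K) ⟶ S) (ι : Over.mk sK ⟶ U) (W : Over S)
      (g : W ⟶ Over.mk sK) (f₁ f₂ : (yon S).obj W ⟶ F.obj), f₁ ≫ q = (yon S).map (g ≫ ι) →
        f₂ ≫ q = (yon S).map (g ≫ ι) → f₁ = f₂ := by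
    intro K _ sK ι W g f₁ f₂ h₁ h₂
    refine eq_of_points_fp x e he f₁ f₂ (g ≫ ι) h₁ h₂ fun ψ hψ _ => ?_
    exact eq_id_of_subsingleton hfg (H K sK (BasedFunctor.comp (AlgSt.overMap ι) x) (Over.mk g)) hψ
  have hqs := comp_section_eq_id F.property q hlft s hs hpts
  have hmono : ∀ f₁ f₂ : (yon S).obj U ⟶ F.obj, f₁ ≫ q = f₂ ≫ q → f₁ = f₂ := fun f₁ f₂ hf => by
    rw [← Category.comp_id f₁, ← Category.comp_id f₂, ← hqs, reassoc_of% hf]
  have hj : 𝒳.p.map (j.hom ≫ φ ≫ j.inv) = 𝟙 _ := by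
    rw [Functor.map_comp, Functor.map_comp, hφ, Category.id_comp, ← Functor.map_comp, j.hom_inv_id,
      CategoryTheory.Functor.map_id]
  have hχ := eq_id_of_mono x e he hmono (j ≪≫ φi ≪≫ j.symm) hj hj
  change j.hom ≫ φ ≫ j.inv = 𝟙 _ at hχ
  have e1 := congrArg (fun m => j.inv ≫ m ≫ j.hom) hχ
  simp at e1
  exact e1

/-- A stack equivalent to an algebraic space has trivial stabilisers. -/
theorem subsingleton_autO_of_repByAlgSp (h : AlgSt.RepByAlgSp 𝒳) (ξ : 𝒳.obj) : Subsingleton (Gerb.AutO ξ) := by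
  obtain ⟨F, e, he⟩ := h
  obtain ⟨g, hg, -⟩ := isEquivOver_inv he
  have := faithful_of_isEquivOver hg
  have := faithful_forget F.obj.obj
  have : (g.toFunctor ⋙ (AlgSt.ofSp F.obj).p).Faithful := inferInstance
  rw [g.w] at this
  refine ⟨fun a b => Aut.ext (Fiber.hom_ext (𝒳.p.map_injective ?_))⟩
  exact (map_eq_of_isHomLift_id a.hom.2).trans (map_eq_of_isHomLift_id b.hom.2).symm

end Groth.Agent.AlgStkX.TrivStab
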