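import Groth.Agent.AlgStkX.ValWitness
import Groth.Agent.AlgSpVal.ValThrough
import Groth.Agent.AlgStLib.LocQInst
import Mathlib.AlgebraicGeometry.Morphisms.Flat

/-!
# Flat morphisms of algebraic stacks lift valuation rings
-/

set_option backward.isDefEq.respectTransparency false
set_option backward.isDefEq.respectTransparency.types false

universe u

open CategoryTheory CategoryTheory.Functor CategoryTheory.Limits AlgebraicGeometry Opposite AlgSp IsLocalRing
open Groth.Agent.FibBase Groth.Agent.AlgSpLib Groth.Agent.AlgStLib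

namespace Groth.Agent.AlgStkX.ValLiftFlat

variable {S : Scheme.{u}} {𝒳 𝒴 : AlgSt.Cat S}

local notation "K₀" => Scheme.fppfPrecoverage

/-- A field point over the generic point specialising to a point over the closed point gives a dominating
valuation ring. -/
theorem exists_lift_of_point {A : Type u} [CommRing A] [IsDomain A] [ValuationRing A] {U : Scheme.{u}}
    (k : U ⟶ Spec (CommRingCat.of A)) (u : U) (hu : k u = (closedPoint A : PrimeSpectrum A))
    {K : Type u} [Field K] (p : Spec (CommRingCat.of K) ⟶ U) (hp : p (closedPoint K) ⤳ u)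
    (hg : k (p (closedPoint K)) = (⟨⊥, Ideal.isPrime_bot⟩ : PrimeSpectrum A)) :
    ∃ (A' : Type u) (_ : CommRing A') (_ : IsDomain A') (_ : ValuationRing A') (φ : A →+* A'),
      Function.Injective φ ∧ IsLocalHom φ ∧
      ∃ i : Spec (CommRingCat.of A') ⟶ U, i ≫ k = Spec.map (CommRingCat.ofHom φ) := by
  obtain ⟨A', i, hi, hiK⟩ := Groth.Agent.AlgSpVal.exists_valuationRing_through p u hp
  obtain ⟨φ, hφ⟩ : ∃ φ : CommRingCat.of A ⟶ CommRingCat.of A', Spec.map φ = i ≫ k := ⟨_, Spec.map_preimage _⟩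
  refine ⟨A', inferInstance, inferInstance, inferInstance, φ.hom, ?_, ?_, i, hφ.symm⟩
  · have h : Spec.map (φ ≫ CommRingCat.ofHom (algebraMap A' K)) (closedPoint K) =
        (⟨⊥, Ideal.isPrime_bot⟩ : PrimeSpectrum A) := by
      rw [Spec.map_comp, hφ, ← Category.assoc, hiK, Scheme.Hom.comp_apply]
      exact hg
    have h' := congrArg PrimeSpectrum.asIdeal h
    change Ideal.comap ((algebraMap A' K).comp φ.hom) (maximalIdeal K) = ⊥ at h'
    rw [maximalIdeal_eq_bot, ← RingHom.ker_eq_comap_bot] at h'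
    refine (injective_iff_map_eq_zero φ.hom).2 fun a ha => ?_
    have : a ∈ (⊥ : Ideal A) := by
      rw [← h', RingHom.mem_ker, RingHom.comp_apply, ha, map_zero]
    simpa using this
  · refine ((local_hom_TFAE φ.hom).out 0 4).2 ?_
    have h : Spec.map φ (closedPoint A') = closedPoint A := by
      rw [hφ, Scheme.Hom.comp_apply, hi]
      exact hu
    exact congrArg PrimeSpectrum.asIdeal h

/-- A flat scheme over a valuation ring with a point over the closed point admits a dominating valuation ring. -/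
theorem exists_lift {A : Type u} [CommRing A] [IsDomain A] [ValuationRing A] {U : Scheme.{u}}
    (k : U ⟶ Spec (CommRingCat.of A)) [Flat k] (u : U) (hu : k u = (closedPoint A : PrimeSpectrum A)) :
    ∃ (A' : Type u) (_ : CommRing A') (_ : IsDomain A') (_ : ValuationRing A') (φ : A →+* A'),
      Function.Injective φ ∧ IsLocalHom φ ∧
      ∃ i : Spec (CommRingCat.of A') ⟶ U, i ≫ k = Spec.map (CommRingCat.ofHom φ) := by
  let η : PrimeSpectrum A := ⟨⊥, Ideal.isPrime_bot⟩
  have hη : (η : ↥(Spec (CommRingCat.of A))) ⤳ k u := by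
    rw [hu]
    exact IsLocalRing.specializes_closedPoint η
  obtain ⟨u', hu', hku'⟩ := Flat.generalizingMap (f := k) hη
  have e : U.fromSpecResidueField u' (closedPoint (U.residueField u')) = u' :=
    Scheme.fromSpecResidueField_apply (X := U) u' _
  exact exists_lift_of_point k u hu (U.fromSpecResidueField u') (e.symm ▸ hu') (e.symm ▸ hku')

/-- A chart of an algebraic stack flat over a scheme is flat over it. -/
theorem flat_chart (h𝒳 : AlgSt.IsAlgStack K₀ 𝒳) {V U : Over S} {g : 𝒳 ⥤ᵇ FibCat.overCat V}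
    (hg : AlgSt.LocQ (LocP @Flat) g) {c : FibCat.overCat U ⥤ᵇ 𝒳} (hc : AlgSt.RepByAlgSpWith (LocP @Smooth) c)
    {k : U ⟶ V} (i : BasedFunctor.comp c g ≅ AlgSt.overMap k) : Flat k.left := by
  obtain ⟨G, hG, -, ⟨jG⟩⟩ := isEquivOver_inv (fpFst_id_isEquivOver g)
  let id' : FibCat.overCat V ⥤ᵇ FibCat.overCat V := BasedFunctor.id _
  let c' : FibCat.overCat U ⥤ᵇ FibCat.fp g id' := BasedFunctor.comp c G
  let j : BasedFunctor.comp c' (FibCat.fpSnd g id') ≅ AlgSt.overMap k :=
    (whiskerLeftIso c' (FibCat.fpIso g id')).symm ≪≫ whiskerRightIso (whiskerLeftIso c jG) g ≪≫ i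
  have hid : AlgSt.RepByAlgSpWith (LocP @Smooth) id' := repByAlgSpWith_smooth_of_isEquivOver isEquivOver_id
  exact locP_yon_map (P := @Flat) ((locQ_iff_forall_square isSmoothLocalST_flat h𝒳 (isAlgStack_overCat V) g).1 hg
    U V (BasedFunctor.comp c' (FibCat.fpFst g id')) id' k
    (whiskerLeftIso c' (FibCat.fpIso g id') ≪≫ whiskerRightIso j id')
    (repByAlgSpWith_of_iso (whiskerLeftIso c jG).symm hc) hid
    (repByAlgSpWith_of_iso (fpLiftIso c' j) (repByAlgSpWith_postcomp hG hc)))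

theorem exists_valuationRing_lift (h𝒳 : AlgSt.IsAlgStack K₀ 𝒳) (h𝒴 : AlgSt.IsAlgStack K₀ 𝒴) (f : 𝒳 ⥤ᵇ 𝒴)
    (hf : AlgSt.LocQ (LocP @Flat) f) (A : Type u) [CommRing A] [IsDomain A] [ValuationRing A]
    (sA : Spec (CommRingCat.of A) ⟶ S) (a : FibCat.overCat (Over.mk sA) ⥤ᵇ 𝒴)
    (ha : AlgSt.Points.ofChart a (IsLocalRing.closedPoint A) ∈ Set.range (AlgSt.Points.map f)) :
    ∃ (A' : Type u) (_ : CommRing A') (_ : IsDomain A') (_ : ValuationRing A') (φ : A →+* A'),
      Function.Injective φ ∧ IsLocalHom φ ∧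
      ∃ x : FibCat.overCat (Over.mk (Spec.map (CommRingCat.ofHom φ) ≫ sA)) ⥤ᵇ 𝒳,
        Nonempty (BasedFunctor.comp x f ≅
          BasedFunctor.comp (AlgSt.overMap (Over.homMk (Spec.map (CommRingCat.ofHom φ)) rfl :
            Over.mk (Spec.map (CommRingCat.ofHom φ) ≫ sA) ⟶ Over.mk sA)) a) := by
  let T : Over S := Over.mk sA
  have hZ := isAlgStack_fp (isAlgStack_overCat T) h𝒳 h𝒴.isStack h𝒴.diag a f
  obtain ⟨U, c, hc, hc'⟩ := id hZ.atlas
  obtain ⟨k, ⟨i⟩⟩ := exists_mapB (BasedFunctor.comp c (FibCat.fpFst a f))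
  have : Flat k.left := flat_chart hZ
    (locQ_fpFst isSmoothLocalST_flat stableBC_locP h𝒳 h𝒴 (isAlgStack_overCat T) a hf) hc i.symm
  obtain ⟨u, hu⟩ := ValWitness.range_eq_preimage h𝒳 h𝒴 f hc' i.symm ha
  obtain ⟨A', _, _, hA', φ, hφ, hl, iA, hiA⟩ := exists_lift k.left u hu
  let T' : Over S := Over.mk (Spec.map (CommRingCat.ofHom φ) ≫ sA)
  let j : T' ⟶ T := Over.homMk (Spec.map (CommRingCat.ofHom φ)) rfl
  let x' : T' ⟶ U := Over.homMk iA (by
    show iA ≫ U.hom = Spec.map _ ≫ sA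
    rw [← Over.w k, ← Category.assoc, hiA]
    rfl)
  have e : x' ≫ k = j := Over.OverMorphism.ext hiA
  refine ⟨A', inferInstance, inferInstance, hA', φ, hφ, hl,
    BasedFunctor.comp (AlgSt.overMap x') (BasedFunctor.comp c (FibCat.fpSnd a f)), ⟨?_⟩⟩
  exact (whiskerLeftIso (BasedFunctor.comp (AlgSt.overMap x') c) (FibCat.fpIso a f)).symm ≪≫
    whiskerRightIso (whiskerLeftIso (AlgSt.overMap x') i.symm ≪≫ overMapCompIso x' k ≪≫
      eqToIso (congrArg AlgSt.overMap e)) a

end Groth.Agent.AlgStkX.ValLiftFlat
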