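import Mathlib

/-!
# Weil restriction of a finitely presented algebra along a finite free algebra
-/

set_option autoImplicit false

universe u

open TensorProduct

set_option maxHeartbeats 800000

namespace Groth.Agent.AlgStkX

variable {A R₁ B C : Type u} [CommRing A] [CommRing R₁] [Algebra A R₁] [CommRing B] [Algebra R₁ B]
    [CommRing C] [Algebra A C]

theorem repr_map {R₀ A' : Type u} [CommRing R₀] [Algebra R₁ R₀] [CommRing A'] [Algebra R₁ A'] {d : ℕ}
    (β : Module.Basis (Fin d) R₁ B) (ψ : R₀ →ₐ[R₁] A') (x : R₀ ⊗[R₁] B) (l : Fin d) :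
    (Algebra.TensorProduct.basis A' β).repr (Algebra.TensorProduct.map ψ (AlgHom.id R₁ B) x) l =
      ψ ((Algebra.TensorProduct.basis R₀ β).repr x l) := by
  induction x using TensorProduct.induction_on with
  | zero => simp
  | add a b ha hb => simp [ha, hb]
  | tmul a b => simp

theorem map_map {R₀ R A' : Type u} [CommRing R₀] [Algebra R₁ R₀] [CommRing R] [Algebra R₁ R] [CommRing A']
    [Algebra R₁ A'] (q : R₀ →ₐ[R₁] R) (φ : R →ₐ[R₁] A') (x : R₀ ⊗[R₁] B) :
    Algebra.TensorProduct.map φ (AlgHom.id R₁ B) (Algebra.TensorProduct.map q (AlgHom.id R₁ B) x) =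
      Algebra.TensorProduct.map (φ.comp q) (AlgHom.id R₁ B) x := by
  induction x using TensorProduct.induction_on with
  | zero => simp
  | add a b ha hb => simp only [map_add, ha, hb]
  | tmul a b => rfl

/-- The map on a quotient given by generators and relations. -/
theorem exists_lift_rels {n : ℕ} (f : MvPolynomial (Fin n) A →ₐ[A] C) (hf : Function.Surjective f)
    {W : Type u} [CommRing W] [Algebra A W] (e : MvPolynomial (Fin n) A →ₐ[A] W)
    (s : Set (MvPolynomial (Fin n) A)) (hs : Ideal.span s = RingHom.ker f.toRingHom)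
    (h : ∀ r ∈ s, e r = 0) : ∃ g : C →ₐ[A] W, ∀ r, g (f r) = e r := by
  have hle : RingHom.ker f.toRingHom ≤ RingHom.ker e.toRingHom := by
    rw [← hs, Ideal.span_le]
    exact h
  exact ⟨AlgHom.liftOfSurjective f hf e hle, fun r => AlgHom.liftOfSurjective_apply _ _ _ _ _⟩

/-- For `A → R₁`, a finite free `R₁`-algebra `B` and a finitely presented `A`-algebra `C`, the functor
`A' ↦ Hom_A(C, A' ⊗_{R₁} B)` on `R₁`-algebras is corepresented by a finitely presented `R₁`-algebra. -/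
theorem exists_weilRing (A R₁ B C : Type u) [CommRing A] [CommRing R₁] [Algebra A R₁] [CommRing B] [Algebra R₁ B]
    [CommRing C] [Algebra A C] [Algebra.FinitePresentation A C] {d : ℕ} (β : Module.Basis (Fin d) R₁ B) :
    ∃ (R : Type u) (_ : CommRing R) (_ : Algebra R₁ R) (_ : Algebra A R) (_ : IsScalarTower A R₁ R)
      (_ : Algebra.FinitePresentation R₁ R) (g : C →ₐ[A] R ⊗[R₁] B),
      ∀ (A' : Type u) [CommRing A'] [Algebra R₁ A'] [Algebra A A'] [IsScalarTower A R₁ A']
        (h : C →ₐ[A] A' ⊗[R₁] B),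
        ∃! φ : R →ₐ[R₁] A', ∀ c, Algebra.TensorProduct.map φ (AlgHom.id R₁ B) (g c) = h c := by
  classical
  obtain ⟨n, f, hf, hker⟩ := Algebra.FinitePresentation.out (R := A) (A := C)
  obtain ⟨s, hs⟩ := hker
  let R₀ := MvPolynomial (Fin n × Fin d) R₁
  let y : Fin n → R₀ ⊗[R₁] B := fun a => ∑ l, (MvPolynomial.X (a, l) : R₀) ⊗ₜ[R₁] β l
  let b₀ := Algebra.TensorProduct.basis R₀ β
  let ev : MvPolynomial (Fin n) A →ₐ[A] R₀ ⊗[R₁] B := MvPolynomial.aeval y
  let rels : Finset R₀ := (s ×ˢ (Finset.univ : Finset (Fin d))).image fun p => b₀.repr (ev p.1) p.2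
  let I : Ideal R₀ := Ideal.span (rels : Set R₀)
  let q : R₀ →ₐ[R₁] R₀ ⧸ I := Ideal.Quotient.mkₐ R₁ I
  let e : MvPolynomial (Fin n) A →ₐ[A] (R₀ ⧸ I) ⊗[R₁] B :=
    ((Algebra.TensorProduct.map q (AlgHom.id R₁ B)).restrictScalars A).comp ev
  have he : ∀ r, e r = Algebra.TensorProduct.map q (AlgHom.id R₁ B) (ev r) := fun r => rfl
  have hzero : ∀ r ∈ (s : Set (MvPolynomial (Fin n) A)), e r = 0 := by
    intro r hr
    rw [he]
    refine (Algebra.TensorProduct.basis (R₀ ⧸ I) β).repr.injective (Finsupp.ext fun l => ?_)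
    rw [repr_map β q, show q (b₀.repr (ev r) l) = 0 from Ideal.Quotient.eq_zero_iff_mem.2 (Ideal.subset_span
      (Finset.mem_coe.2 (Finset.mem_image.2 ⟨(r, l), Finset.mem_product.2 ⟨Finset.mem_coe.1 hr, Finset.mem_univ _⟩, rfl⟩))),
      map_zero]
    rfl
  obtain ⟨g, hg⟩ := exists_lift_rels (W := (R₀ ⧸ I) ⊗[R₁] B) f hf e _ hs hzero
  refine ⟨R₀ ⧸ I, inferInstance, inferInstance, inferInstance, inferInstance,
    Algebra.FinitePresentation.quotient ⟨rels, rfl⟩, g, fun A' _ _ _ _ h => ?_⟩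
  let b' := Algebra.TensorProduct.basis A' β
  let ψ : R₀ →ₐ[R₁] A' := MvPolynomial.aeval fun p => b'.repr (h (f (MvPolynomial.X p.1))) p.2
  have hψX : ∀ p, ψ (MvPolynomial.X p) = b'.repr (h (f (MvPolynomial.X p.1))) p.2 := fun p => MvPolynomial.aeval_X _ p
  let mψ := Algebra.TensorProduct.map ψ (AlgHom.id R₁ B)
  have hy : ∀ a, mψ (y a) = h (f (MvPolynomial.X a)) := fun a => by
    conv_rhs => rw [← b'.sum_repr (h (f (MvPolynomial.X a)))]
    simp [mψ, y, ψ, b', TensorProduct.smul_tmul']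
    exact Finset.sum_congr rfl fun l _ => congrArg (· ⊗ₜ[R₁] β l) (hψX (a, l))
  have hev : ∀ r, mψ (ev r) = h (f r) := fun r =>
    AlgHom.congr_fun (show (mψ.restrictScalars A).comp ev = h.comp f from
      MvPolynomial.algHom_ext fun a => by simpa [ev] using hy a) r
  have hI : ∀ x ∈ I, ψ x = 0 := fun x hx => by
    refine (Ideal.span_le (I := RingHom.ker ψ)).2 ?_ hx
    intro z hz
    obtain ⟨⟨r, l⟩, hrl, rfl⟩ := Finset.mem_image.1 (Finset.mem_coe.1 hz)
    show ψ _ = 0
    rw [← repr_map β ψ, hev, show f r = 0 from (show r ∈ RingHom.ker f.toRingHom by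
      rw [← hs]; exact Ideal.subset_span (Finset.mem_product.1 hrl).1), map_zero, map_zero]
    rfl
  have hψ : (Ideal.Quotient.liftₐ I ψ hI).comp q = ψ := AlgHom.ext fun x => rfl
  refine ⟨Ideal.Quotient.liftₐ I ψ hI, fun c => ?_, fun φ' hφ' => ?_⟩
  · obtain ⟨r, rfl⟩ := hf c
    rw [hg, he, map_map, hψ]
    exact hev r
  · refine Ideal.Quotient.algHom_ext R₁ (MvPolynomial.algHom_ext fun ⟨a, l⟩ => ?_)
    show φ'.comp q (MvPolynomial.X (a, l)) = ψ (MvPolynomial.X (a, l))
    have h1 := hφ' (f (MvPolynomial.X a))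
    rw [hg, he, map_map, show ev (MvPolynomial.X a) = y a by simp [ev]] at h1
    have h2 := repr_map β (φ'.comp q) (y a) l
    rw [h1] at h2
    have h3 : b₀.repr (y a) l = MvPolynomial.X (a, l) := by
      simp [y, b₀, Finsupp.finsetSum_apply, Finsupp.single_apply]
    rw [h3] at h2
    rw [← h2]
    exact (hψX (a, l)).symm

end Groth.Agent.AlgStkX
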