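import Groth.Agent.AlgStkX.AlgOn
import Groth.Agent.AlgStkX.WeilRing
import Groth.Agent.AlgStkX.LiftAlg

/-!
# Lifting points of the space of finite quotients near a point cut out by a regular sequence
-/

set_option autoImplicit false

universe u

open IsLocalRing TensorProduct

namespace Groth.Agent.AlgStkX

theorem eq_top_of_sup_maximalIdeal_smul {O M : Type u} [CommRing O] [IsLocalRing O] [AddCommGroup M]
    [Module O M] [Module.Finite O M] (N : Submodule O M)
    (h : N ⊔ maximalIdeal O • (⊤ : Submodule O M) = ⊤) : N = ⊤ :=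
  top_le_iff.1 (Submodule.le_of_le_smul_of_le_jacobson_bot Module.Finite.fg_top
    (IsLocalRing.maximalIdeal_le_jacobson _) h.ge)

theorem univ_algHom_ext {A A' : Type u} [CommRing A] [CommRing A'] [Algebra A A'] {d : ℕ}
    (f g : Univ A d →ₐ[A] A') (hc : ∀ i j l, f ((univConst A d).c i j l) = g ((univConst A d).c i j l))
    (he : ∀ l, f ((univConst A d).e l) = g ((univConst A d).e l)) : f = g :=
  Univ.algHom_ext A d (MvPolynomial.algHom_ext fun x => by
    rcases x with ⟨i, j, l⟩ | l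
    · exact hc i j l
    · exact he l)

variable {A C R k : Type u} [CommRing A] [CommRing C] [Algebra A C] [Algebra.FinitePresentation A C]
  [Module.Flat A C] {d : ℕ} [CommRing R] [Algebra (Univ A d) R] [Algebra A R] [IsScalarTower A (Univ A d) R]
  [Field k] [Algebra (Univ A d) k] [Algebra A k] [IsScalarTower A (Univ A d) k]

/-- Points of a Weil restriction along the universal finite algebra lift near a point whose finite algebra is
a quotient cut out by a regular sequence. -/
theorem exists_lift_point (g : C →ₐ[A] R ⊗[Univ A d] UnivAlg A d)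
    (huniv : ∀ (A' : Type u) [CommRing A'] [Algebra (Univ A d) A'] [Algebra A A'] [IsScalarTower A (Univ A d) A']
      (h : C →ₐ[A] A' ⊗[Univ A d] UnivAlg A d),
      ∃! φ : R →ₐ[Univ A d] A', ∀ c, Algebra.TensorProduct.map φ (AlgHom.id _ (UnivAlg A d)) (g c) = h c)
    (φk : R →ₐ[Univ A d] k)
    (gk : k ⊗[A] C →ₐ[k] k ⊗[Univ A d] UnivAlg A d)
    (hgkg : ∀ c, gk (1 ⊗ₜ c) = Algebra.TensorProduct.map φk (AlgHom.id _ (UnivAlg A d)) (g c))
    [IsLocalRing (k ⊗[Univ A d] UnivAlg A d)] (hgk : Function.Surjective gk)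
    (q : Ideal (k ⊗[A] C)) [q.IsPrime] (hq : q = (maximalIdeal _).comap gk.toRingHom)
    (lk : List (k ⊗[A] C)) (hlk : ∀ x ∈ lk, gk x = 0)
    (hgen : ∀ x, gk x = 0 → ∃ w ∉ q, w * x ∈ Ideal.ofList lk)
    (hreg : RegFrom (⊥ : Ideal k) q ⊥ lk)
    {O O₀ : Type u} [CommRing O] [IsLocalRing O] [Algebra A O] [CommRing O₀] [Algebra A O₀]
    (π : O →ₐ[A] O₀) (hπ : Function.Surjective π) (hI : RingHom.ker π.toRingHom ^ 2 = ⊥)
    (φ₀ : R →ₐ[A] O₀) (ρ : O₀ →ₐ[A] k) (hρsurj : Function.Surjective ρ) (hρ : ∀ r, ρ (φ₀ r) = φk r) :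
    ∃ φ : R →ₐ[A] O, π.comp φ = φ₀ := by
  classical
  let U := Univ A d
  let UA := UnivAlg A d
  -- the structures on `O₀`
  let := ((φ₀ : R →+* O₀).comp (algebraMap U R)).toAlgebra
  have : IsScalarTower A U O₀ := .of_algebraMap_eq fun a => by
    show algebraMap A O₀ a = φ₀ (algebraMap U R (algebraMap A U a))
    rw [← IsScalarTower.algebraMap_apply, φ₀.commutes]
  let := (π : O →+* O₀).toAlgebra
  have : IsScalarTower A O O₀ := .of_algebraMap_eq fun a => (π.commutes a).symm
  have hπalg : ∀ x, algebraMap O O₀ x = π x := fun _ => rfl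
  let φ₀' : R →ₐ[U] O₀ := { (φ₀ : R →+* O₀) with commutes' := fun r => rfl }
  let ρ' : O₀ →ₐ[U] k :=
    { (ρ : O₀ →+* k) with
      commutes' := fun r => (hρ (algebraMap U R r)).trans (φk.commutes r) }
  have hρφ : ρ'.comp φ₀' = φk := AlgHom.ext hρ
  let B₀ := O₀ ⊗[U] UA
  let B := k ⊗[U] UA
  let E := O ⊗[A] C
  let b₀ := Algebra.TensorProduct.basis O₀ (AlgOn.basis (univConst A d))
  have hb₀ : ∀ i, b₀ i = 1 ⊗ₜ AlgOn.basis (univConst A d) i := fun i => by simp [b₀]
  -- the maximal ideal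
  let ρπ : O →ₐ[A] k := ρ.comp π
  have hρπsurj : Function.Surjective ρπ := hρsurj.comp hπ
  have hkerρπ : RingHom.ker ρπ.toRingHom = maximalIdeal O :=
    IsLocalRing.eq_maximalIdeal (RingHom.ker_isMaximal_of_surjective _ hρπsurj)
  have hIm : RingHom.ker π.toRingHom ≤ maximalIdeal O := by
    rw [← hkerρπ]
    intro x hx
    show ρ (π x) = 0
    rw [show π x = 0 from hx, map_zero]
  -- the maps
  let h₀ : C →ₐ[A] B₀ := ((Algebra.TensorProduct.map φ₀' (AlgHom.id U UA)).restrictScalars A).comp g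
  let G : E →ₐ[O] B₀ := Algebra.TensorProduct.lift (Algebra.ofId O B₀) h₀ fun _ _ => Commute.all _ _
  let τ : E →ₐ[A] k ⊗[A] C := Algebra.TensorProduct.map ρπ (AlgHom.id A C)
  let β : B₀ →ₐ[U] B := Algebra.TensorProduct.map ρ' (AlgHom.id U UA)
  have hτ : Function.Surjective τ := TensorProduct.map_surjective hρπsurj Function.surjective_id
  have hτk : RingHom.ker τ.toRingHom = (maximalIdeal O).map (algebraMap O E) := by
    rw [← hkerρπ]
    show RingHom.ker (Algebra.TensorProduct.map ρπ (AlgHom.id A C)) = _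
    rw [Algebra.TensorProduct.map_ker ρπ (AlgHom.id A C) hρπsurj Function.surjective_id]
    rw [show RingHom.ker (AlgHom.id A C) = ⊥ from (RingHom.injective_iff_ker_eq_bot _).1 fun _ _ h => h,
      Ideal.map_bot, sup_bot_eq]
    rfl
  have hρ'surj : Function.Surjective ρ' := hρsurj
  have hβk : RingHom.ker β.toRingHom = (maximalIdeal O).map (algebraMap O B₀) := by
    show RingHom.ker (Algebra.TensorProduct.map ρ' (AlgHom.id U UA)) = _
    rw [Algebra.TensorProduct.map_ker ρ' (AlgHom.id U UA) hρ'surj Function.surjective_id,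
      show RingHom.ker (AlgHom.id U UA) = ⊥ from (RingHom.injective_iff_ker_eq_bot _).1 fun _ _ h => h,
      Ideal.map_bot, sup_bot_eq, IsScalarTower.algebraMap_eq O O₀ B₀, ← Ideal.map_map, ← hkerρπ]
    have hk : RingHom.ker ρ' = (RingHom.ker ρπ.toRingHom).map (algebraMap O O₀) :=
      le_antisymm (fun x hx => by
        obtain ⟨y, rfl⟩ := hπ x
        exact Ideal.mem_map_of_mem (algebraMap O O₀) (show y ∈ RingHom.ker ρπ.toRingHom from hx))
        (Ideal.map_le_iff_le_comap.2 fun y hy => hy)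
    rw [hk]
    rfl
  have hβG : ∀ e, β (G e) = gk (τ e) := by
    intro e
    induction e using TensorProduct.induction_on with
    | zero => simp
    | add x y hx hy => simp [map_add, hx, hy]
    | tmul o c =>
      have hh : β (h₀ c) = gk (1 ⊗ₜ c) := by
        rw [hgkg]
        show β (Algebra.TensorProduct.map φ₀' (AlgHom.id U UA) (g c)) = _
        rw [map_map, hρφ]
      have ho : β (algebraMap O B₀ o) = algebraMap k B (ρπ o) := by
        rw [IsScalarTower.algebraMap_apply O O₀ B₀, hπalg, Algebra.TensorProduct.algebraMap_apply,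
          Algebra.TensorProduct.algebraMap_apply]
        show Algebra.TensorProduct.map ρ' (AlgHom.id U UA) (π o ⊗ₜ[U] 1) = _
        rw [Algebra.TensorProduct.map_tmul]
        rfl
      show β (Algebra.TensorProduct.lift (Algebra.ofId O B₀) h₀ _ (o ⊗ₜ[A] c)) =
        gk (Algebra.TensorProduct.map ρπ (AlgHom.id A C) (o ⊗ₜ[A] c))
      rw [Algebra.TensorProduct.lift_tmul, Algebra.TensorProduct.map_tmul, map_mul, hh, Algebra.ofId_apply, ho,
        ← gk.commutes, ← map_mul, Algebra.TensorProduct.algebraMap_apply, Algebra.TensorProduct.tmul_mul_tmul]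
      simp
  have hfin : Module.Finite O B₀ :=
    have : Module.Finite O O₀ := Module.Finite.of_surjective (Algebra.linearMap O O₀) hπ
    Module.Finite.trans O₀ B₀
  have hβsurj : Function.Surjective β := TensorProduct.map_surjective hρ'surj Function.surjective_id
  have hmB : ∀ x, β x = 0 → x ∈ maximalIdeal O • (⊤ : Submodule O B₀) := fun x hx => by
    rw [Ideal.smul_top_eq_map]
    show x ∈ (maximalIdeal O).map (algebraMap O B₀)
    rw [← hβk]
    exact hx
  have hloc : ∀ x, IsUnit (β x) → IsUnit x := by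
    intro x hx
    have htop : LinearMap.range (LinearMap.mulLeft O x) = ⊤ := by
      refine eq_top_of_sup_maximalIdeal_smul _ (top_le_iff.1 fun y _ => ?_)
      obtain ⟨v, hv⟩ := hx.exists_right_inv
      obtain ⟨z, hz⟩ := hβsurj (v * β y)
      rw [show y = x * z + (y - x * z) by ring]
      refine Submodule.add_mem_sup ⟨z, rfl⟩ (hmB _ ?_)
      rw [map_sub, map_mul, hz, ← mul_assoc, hv, one_mul, sub_self]
    obtain ⟨y, hy⟩ := (htop.ge (Submodule.mem_top (x := (1 : B₀))))
    exact IsUnit.of_mul_eq_one y hy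
  have hG : Function.Surjective G := by
    have htop : LinearMap.range G.toLinearMap = ⊤ := by
      refine eq_top_of_sup_maximalIdeal_smul _ (top_le_iff.1 fun y _ => ?_)
      obtain ⟨e, he⟩ := hgk (β y)
      obtain ⟨e, rfl⟩ := hτ e
      rw [show y = G e + (y - G e) by ring]
      refine Submodule.add_mem_sup ⟨e, rfl⟩ (hmB _ ?_)
      rw [map_sub, hβG, he, sub_self]
    exact LinearMap.range_eq_top.1 htop
  have hIB : ∀ r ∈ RingHom.ker π.toRingHom, algebraMap O B₀ r = 0 := fun r hr => by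
    rw [IsScalarTower.algebraMap_apply O O₀ B₀, hπalg, show π r = 0 from hr, map_zero]
  have hspan : Submodule.span O (Set.range b₀) = ⊤ := by
    refine top_le_iff.1 fun x _ => ?_
    rw [← b₀.sum_repr x]
    refine Submodule.sum_mem _ fun i _ => ?_
    obtain ⟨c, hc⟩ := hπ (b₀.repr x i)
    rw [← hc, ← hπalg, algebraMap_smul]
    exact Submodule.smul_mem _ _ (Submodule.subset_span ⟨i, rfl⟩)
  have hind : ∀ c : Fin d → O, ∑ i, c i • b₀ i = 0 → ∀ i, c i ∈ RingHom.ker π.toRingHom := by
    intro c hc i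
    have h := Fintype.linearIndependent_iff.1 b₀.linearIndependent (fun i => π (c i))
      (by simpa [← hπalg, algebraMap_smul] using hc) i
    exact h
  obtain ⟨L, _, _, ℓ, θ, ψ, hψθ, hψℓ⟩ :=
    exists_lift_algebra (RingHom.ker π.toRingHom) hI hIm τ.toRingHom hτ hτk gk.toRingHom hgk q hq lk hlk hgen hreg
      G hG β.toRingHom hβG hβk hloc hIB b₀ hspan hind
  -- the algebra structure of `L`
  let := ((algebraMap O L).comp (algebraMap A O)).toAlgebra
  have : IsScalarTower A O L := .of_algebraMap_eq fun _ => rfl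
  obtain ⟨φ₁, hφ₁c, hφ₁e⟩ := exists_classify (A := A) ℓ
  have hψrepr : ∀ (x : L) (l : Fin d), π (ℓ.repr x l) = b₀.repr (ψ x) l := by
    intro x l
    have h : ψ x = ∑ i, π (ℓ.repr x i) • b₀ i := by
      conv_lhs => rw [← ℓ.sum_repr x]
      rw [map_sum]
      refine Finset.sum_congr rfl fun i _ => ?_
      rw [map_smul, hψℓ, ← hπalg, algebraMap_smul]
    rw [h, b₀.repr_sum_self]
  have hφ₁₀ : π.comp φ₁ = (φ₀.comp (IsScalarTower.toAlgHom A U R)) := by
    refine univ_algHom_ext _ _ (fun i j l => ?_) (fun l => ?_)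
    · show π (φ₁ _) = algebraMap U O₀ _
      rw [hφ₁c, hψrepr, map_mul, hψℓ, hψℓ, hb₀, hb₀, Algebra.TensorProduct.tmul_mul_tmul, one_mul,
        AlgOn.basis_mul_basis, tmul_sum]
      simp_rw [tmul_smul, ← algebraMap_smul O₀ ((univConst A d).c i j _), ← hb₀]
      rw [b₀.repr_sum_self]
    · show π (φ₁ _) = algebraMap U O₀ _
      rw [hφ₁e, hψrepr, map_one, Algebra.TensorProduct.one_def, AlgOn.one_def, AlgOn.oneV, tmul_sum]
      rw [Finset.sum_congr rfl fun m _ => (show (1 : O₀) ⊗ₜ[Univ A d] ((univConst A d).e m • AlgOn.basis (univConst A d) m) =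
        algebraMap U O₀ ((univConst A d).e m) • b₀ m by rw [tmul_smul, algebraMap_smul, hb₀])]
      rw [b₀.repr_sum_self]
  let := φ₁.toRingHom.toAlgebra
  have : IsScalarTower A U O := .of_algebraMap_eq fun a => (φ₁.commutes a).symm
  have hφ₁alg : ∀ r, algebraMap U O r = φ₁ r := fun _ => rfl
  let π' : O →ₐ[U] O₀ :=
    { (π : O →+* O₀) with commutes' := fun r => AlgHom.congr_fun hφ₁₀ r }
  obtain ⟨ε, hε⟩ := exists_equiv_of_consts (A := A) ℓ (fun i j l => hφ₁c i j l) (fun l => hφ₁e l)
  let h : C →ₐ[A] O ⊗[U] UA :=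
    (ε.symm.toAlgHom.restrictScalars A).comp ((θ.restrictScalars A).comp Algebra.TensorProduct.includeRight)
  obtain ⟨φ, hφ, -⟩ := huniv O h
  refine ⟨φ.restrictScalars A, ?_⟩
  obtain ⟨φ'', -, huniq⟩ := huniv O₀ h₀
  have hψε : ∀ x, ψ (ε x) = Algebra.TensorProduct.map π' (AlgHom.id U UA) x := by
    intro x
    induction x using TensorProduct.induction_on with
    | zero => simp
    | add x y hx hy => simp [map_add, hx, hy]
    | tmul o u =>
      have hu : ∀ u, ψ (ε (1 ⊗ₜ u)) = 1 ⊗ₜ u := by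
        intro u
        rw [← (AlgOn.basis (univConst A d)).sum_repr u]
        simp only [tmul_sum, map_sum, tmul_smul]
        refine Finset.sum_congr rfl fun i _ => ?_
        rw [← algebraMap_smul O ((AlgOn.basis (univConst A d)).repr u i), map_smul, map_smul, hε, hψℓ, ← hb₀,
          ← algebraMap_smul O₀ (algebraMap U O _), ← algebraMap_smul O₀ ((AlgOn.basis (univConst A d)).repr u i)]
        exact congrArg (· • b₀ i) (π'.commutes _)
      rw [Algebra.TensorProduct.map_tmul, show o ⊗ₜ[U] u = o • ((1 : O) ⊗ₜ[U] u) by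
        rw [smul_tmul', smul_eq_mul, mul_one], map_smul, map_smul, hu, ← algebraMap_smul O₀ o, smul_tmul',
        smul_eq_mul, mul_one]
      rfl
  have e1 : π'.comp φ = φ'' := huniq _ fun c => by
    rw [← map_map, hφ, ← hψε]
    show ψ (ε (ε.symm (θ (1 ⊗ₜ c)))) = h₀ c
    rw [ε.apply_symm_apply, ← AlgHom.comp_apply, hψθ]
    show Algebra.TensorProduct.lift (Algebra.ofId O B₀) h₀ _ (1 ⊗ₜ c) = _
    rw [Algebra.TensorProduct.lift_tmul, map_one, one_mul]
  have e2 : φ₀' = φ'' := huniq _ fun c => rfl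
  exact AlgHom.ext fun r => AlgHom.congr_fun (e1.trans e2.symm) r

end Groth.Agent.AlgStkX
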