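import Groth.Agent.AlgStLib.DiagCover
import Groth.Agent.AlgStLib.SpProps
import Groth.Agent.AlgStLib.QuasiCompact
import Groth.Agent.AlgStLib.SepUnivClosed
import Groth.Agent.AlgSpDec.AffineProps
import Groth.Agent.AlgSpLib.AffineDescProps
import Groth.Prelude.Def_W4stkstmodspWNA

/-!
# Well-nigh affine algebraic stacks
-/

set_option autoImplicit false
set_option backward.isDefEq.respectTransparency false
set_option backward.isDefEq.respectTransparency.types false

universe u

open CategoryTheory CategoryTheory.Functor CategoryTheory.Limits AlgebraicGeometry Opposite AlgSp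

namespace Groth.Agent.AlgStkX.WNA

open Groth.Agent.FibBase Groth.Agent.AlgStLib Groth.Agent.AlgSpLib

variable {S : Scheme.{u}} {𝒳 𝒴 : AlgSt.Cat S} {P : MorphismProperty (Sp S)}

/-- A separated scheme is representably separated over the base. -/
theorem repByAlgSpWith_sep_toSelf (U : Over S) [IsSeparated U.hom] :
    AlgSt.RepByAlgSpWith IsSeparatedMor (FibCat.toSelf (FibCat.overCat U : AlgSt.Cat S)) := by
  intro T y
  have hy : y = FibCat.toSelf (FibCat.overCat T) := eq_toSelf y
  subst hy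
  refine ⟨⟨(yon S).obj (T ⨯ U), IsAlgSpace.yon_obj _⟩,
    BasedFunctor.comp (AlgSt.toOverCat (T ⨯ U)) (sliceProd T U),
    FibBase.isEquivOver_comp (isEquivOver_toOverCat _) (sliceProd_isEquivOver T U), ?_⟩
  have e : AlgSt.spMapOfOver (BasedFunctor.comp (BasedFunctor.comp (AlgSt.toOverCat (T ⨯ U)) (sliceProd T U))
      (FibCat.fpFst (FibCat.toSelf (FibCat.overCat T)) (FibCat.toSelf (FibCat.overCat U)))) =
      (yon S).map (prod.fst : T ⨯ U ⟶ T) := by
    apply ObjectProperty.hom_ext
    ext V x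
    apply ULift.ext
    exact Category.id_comp _
  rw [e]
  refine isSeparatedMor_of_repWith ((repWith_yon_map_iff (P := @IsSeparated) _).2 ?_)
  have sq := (IsPullback.of_hasPullback (terminal.from T) (terminal.from U))
  have h2 : IsSeparated (terminal.from U).left := by
    have : IsSeparated ((terminal.from U).left ≫ (⊤_ (Over S)).hom) := by rw [Over.w]; infer_instance
    exact IsSeparated.of_comp (terminal.from U).left (⊤_ (Over S)).hom
  have sq' : IsPullback (prod.fst : T ⨯ U ⟶ T) prod.snd (terminal.from T) (terminal.from U) :=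
    IsPullback.of_is_product (prodIsProd T U) terminalIsTerminal
  exact MorphismProperty.of_isPullback (P := @IsSeparated) (sq'.map (Over.forget S)).flip h2

/-- A property of `W ×_𝒳 W ⟶ W` cancelling separated morphisms descends to the diagonal, for `W` separated. -/
theorem repByAlgSpWith_diag_toSelf_of_sep_cover (hPb : StableBC P) (hloc : IsLocalOnBase IsFppfCover P)
    (hc : Cancels P IsSeparatedMor) {U : Over S} [IsSeparated U.hom]
    (hΔ : AlgSt.RepByAlgSp1 (FibCat.diag (FibCat.toSelf 𝒳))) {p : FibCat.overCat U ⥤ᵇ 𝒳}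
    (hp : AlgSt.RepByAlgSpWith P p) (hes : LocEssSurj p) :
    AlgSt.RepByAlgSpWith P (FibCat.diag (FibCat.toSelf 𝒳)) := by
  let t := FibCat.toSelf 𝒳
  have hfst : AlgSt.RepByAlgSpWith IsSeparatedMor
      (FibCat.fpFst (BasedFunctor.comp p t) (BasedFunctor.comp p t)) :=
    repByAlgSpWith_fpFst _ (comp_toSelf p ▸ repByAlgSpWith_sep_toSelf U)
  have hweak : AlgSt.RepByAlgSpWith P (weaken p p t) :=
    repByAlgSpWith_of_comp hPb hc hfst (repByAlgSpWith_fpFst p hp)
  exact repByAlgSpWith_of_locEssSurj hPb hloc hΔ (locEssSurj_pairMap t hes hes)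
    ((repByAlgSpWith_iff_of_square (f' := weaken p p t) (f := FibCat.fpFst (pairMap p p t) (FibCat.diag t))
      (a := diagComparison p p t) (b := BasedFunctor.id _) (diagComparison_isEquivOver p p t) isEquivOver_id
      (Iso.refl _)).2 hweak)

theorem properties (h𝒳 : AlgSt.IsAlgStack Scheme.fppfPrecoverage 𝒳) (hw : AlgSt.IsWellNighAffine 𝒳) :
    AlgSt.IsQuasiCompact 𝒳 ∧ AlgSt.IsQuasiDMOver 𝒳 ∧ AlgSt.IsSeparatedOver 𝒳 := by
  obtain ⟨U, x, hU, hx⟩ := hw
  have hsurj : AlgSt.RepByAlgSpWith IsSurjectiveMor x := repByAlgSpWith_mono (fun _ _ _ h => h.1.1.1) hx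
  have hflat : AlgSt.RepByAlgSpWith (LocP @Flat) x := repByAlgSpWith_mono (fun _ _ _ h => h.1.1.2) hx
  have hfin : AlgSt.RepByAlgSpWith IsFiniteMor x := repByAlgSpWith_mono (fun _ _ _ h => h.1.2) hx
  have hlfp : AlgSt.RepByAlgSpWith (LocP @LocallyOfFinitePresentation) x :=
    repByAlgSpWith_mono (fun _ _ _ h => h.2) hx
  have := hU
  have : IsSeparated U.hom := inferInstance
  have hes := locEssSurj_of_repByAlgSp hflat hlfp hsurj
  refine ⟨?_, ?_, ?_⟩
  · exact isQuasiCompact_of_surjective (isFibGrpd_overCat U) h𝒳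
      (isSurjective_of_repByAlgSpWith (isFibGrpd_overCat U) h𝒳.isStack.1 (isAlgStack_overCat U).atlas hsurj) (isQuasiCompact_overCat U)
  · refine repByAlgSpWith_diag_toSelf_of_cover stableBC_locP isLocalOnBase_lqf cancels_lqf
      (repByAlgSp1_toSelf_overCat U) h𝒳.diag ?_ hes
    refine repByAlgSpWith_mono (fun F G a h => ?_) hfin
    exact locP_of_repWith (repWith_mono (fun _ _ e (_ : IsFinite e) => ⟨inferInstance, inferInstance⟩) _
      (AlgSpDec.isFiniteMor_iff_repWith.1 h))
  · refine repByAlgSpWith_diag_toSelf_of_sep_cover stableBC_isProperMor isLocalOnBase_isProperMor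
      cancels_isProperMor h𝒳.diag ?_ hes
    exact repByAlgSpWith_mono_space (fun _ hG a h => ((AlgSpDec.isFiniteMor_iff_affine_proper hG).1 h).2) hfin

/-- A stack affine over a well-nigh affine stack is well-nigh affine. -/
theorem of_isAffineMor {𝒳' : AlgSt.Cat S} (hw : AlgSt.IsWellNighAffine 𝒳) (f : 𝒳' ⥤ᵇ 𝒳)
    (hf : AlgSt.RepByAlgSpWith IsAffineMor f) : AlgSt.IsWellNighAffine 𝒳' := by
  obtain ⟨U, x, hU, hx⟩ := hw
  obtain ⟨F, e, he, hP⟩ := hf U x
  obtain ⟨W, i, k, sq, hW⟩ := hP hU (𝟙 _)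
  have : IsIso k := sq.isIso_fst_of_isIso
  refine ⟨W, BasedFunctor.comp (BasedFunctor.comp (BasedFunctor.comp (AlgSt.ofOverCat W) (AlgSt.ofSpMap k)) e)
    (FibCat.fpSnd x f), hW, ?_⟩
  exact repByAlgSpWith_precomp (FibBase.isEquivOver_comp (FibBase.isEquivOver_comp (isEquivOver_ofOverCat W)
    (isEquivOver_ofSpMap k)) he) (repByAlgSpWith_fpSnd f hx)

end Groth.Agent.AlgStkX.WNA
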